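import Cfsg.Agent.ConwayType.Locals.Seven.Perms
import Cfsg.Agent.ConwayType.Locals.Alt9.Nine

/-!
The symmetric group of degree seven inside the alternating group of degree nine.
-/

set_option autoImplicit false
set_option maxRecDepth 100000
set_option maxHeartbeats 1000000
set_option synthInstance.maxSize 4096
set_option Elab.async false

namespace Cfsg.Lib.ConwayType.Seven

open Equiv
open Cfsg.Lib.ConwayType.Alt9 (A8 A9 emb el9)

/-- Seven of the nine points. -/
def seven9 : Fin 7 ↪ Fin 9 := ⟨fun i => ⟨i.val, by omega⟩, fun a b h => Fin.ext (Fin.mk.inj h)⟩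

/-- The transposition of the last two points or the identity, by the sign. -/
def last2 : ℤˣ →* Perm (Fin 9) :=
  MonoidHom.mk' (fun u => if u = 1 then 1 else swap 7 8) fun a b => by
    rcases Int.units_eq_one_or a with rfl | rfl <;> rcases Int.units_eq_one_or b with rfl | rfl <;> simp

theorem seven9_facts : (∀ i, seven9 i ≠ 7 ∧ seven9 i ≠ 8) ∧
    (∀ i, (swap 7 8 : Perm (Fin 9)) (seven9 i) = seven9 i) ∧
    ∀ j : Fin 9, j = 7 ∨ j = 8 ∨ ∃ i, seven9 i = j := by decide +kernel

/-- The values on the embedded points and the two others. -/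
theorem via_seven (σ : S7) : (∀ i, Perm.viaEmbeddingHom seven9 σ (seven9 i) = seven9 (σ i)) ∧
    Perm.viaEmbeddingHom seven9 σ 7 = 7 ∧ Perm.viaEmbeddingHom seven9 σ 8 = 8 := by
  simp only [Perm.viaEmbeddingHom_apply]
  refine ⟨fun i => Perm.viaEmbedding_apply _ _ i, ?_, ?_⟩ <;>
    refine Perm.viaEmbedding_apply_of_notMem _ _ _ ?_ <;> rintro ⟨i, hi⟩
  exacts [(seven9_facts.1 i).1 hi, (seven9_facts.1 i).2 hi]

theorem last2_comm (σ : S7) (u : ℤˣ) : Commute (last2 u) (Perm.viaEmbeddingHom seven9 σ) := by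
  rcases Int.units_eq_one_or u with rfl | rfl
  · simp
  · obtain ⟨hv, h7, h8⟩ := via_seven σ
    refine Equiv.ext fun j => ?_
    show (swap 7 8 : Perm (Fin 9)) _ = Perm.viaEmbeddingHom seven9 σ ((swap 7 8 : Perm (Fin 9)) j)
    rcases seven9_facts.2.2 j with rfl | rfl | ⟨i, rfl⟩
    · simp [h7, h8]
    · simp [h7, h8]
    · rw [hv, seven9_facts.2.1, seven9_facts.2.1, hv]

/-- Permutations of seven points as even permutations of nine. -/
noncomputable def ext7 : S7 →* A9 :=
  MonoidHom.mk' (fun σ => ⟨Perm.viaEmbeddingHom seven9 σ * last2 (Perm.sign σ), by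
      rw [Perm.mem_alternatingGroup, map_mul, Perm.viaEmbeddingHom_apply, Perm.viaEmbedding, Perm.sign_extendDomain]
      rcases Int.units_eq_one_or (Perm.sign σ) with e | e <;> rw [e]
      · simp
      · show -1 * Perm.sign (swap (7 : Fin 9) 8) = 1
        rw [Perm.sign_swap (by decide)]; rfl⟩) fun a b => Subtype.ext (by
    simp only [map_mul, Subgroup.coe_mul]
    rw [mul_assoc, ← mul_assoc (Perm.viaEmbeddingHom seven9 b), ← (last2_comm b _).eq]
    simp only [mul_assoc])

/-- The values of the embedding, computably. -/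
def ext7Fun (σ : S7) (j : Fin 9) : Fin 9 :=
  if h : j.val < 7 then seven9 (σ ⟨j.val, h⟩)
  else if Perm.sign σ = 1 then j else swap 7 8 j

theorem ext7_apply (σ : S7) (j : Fin 9) : ((ext7 σ : A9) : Perm (Fin 9)) j = ext7Fun σ j := by
  show (Perm.viaEmbeddingHom seven9 σ * last2 (Perm.sign σ)) j = _
  obtain ⟨hv, h7, h8⟩ := via_seven σ
  rw [Perm.mul_apply, ext7Fun]
  rcases seven9_facts.2.2 j with rfl | rfl | ⟨i, rfl⟩
  · rw [dif_neg (by decide)]
    rcases Int.units_eq_one_or (Perm.sign σ) with e | e <;> rw [e]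
    · simpa using h7
    · rw [if_neg (by decide)]
      show Perm.viaEmbeddingHom seven9 σ ((swap 7 8 : Perm (Fin 9)) 7) = _
      rw [swap_apply_left, h8]
  · rw [dif_neg (by decide)]
    rcases Int.units_eq_one_or (Perm.sign σ) with e | e <;> rw [e]
    · simpa using h8
    · rw [if_neg (by decide)]
      show Perm.viaEmbeddingHom seven9 σ ((swap 7 8 : Perm (Fin 9)) 8) = _
      rw [swap_apply_right, h7]
  · have hlast : last2 (Perm.sign σ) (seven9 i) = seven9 i := by
      rcases Int.units_eq_one_or (Perm.sign σ) with e | e <;> rw [e]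
      · simp
      · exact seven9_facts.2.1 i
    rw [hlast, hv, dif_pos (show (seven9 i).val < 7 from i.isLt)]
    rfl

theorem ext7_inj : Function.Injective ext7 := fun a b h => Equiv.ext fun i => seven9.injective (by
  have := congrArg (fun q : A9 => (q : Perm (Fin 9)) (seven9 i)) h
  simp only [ext7_apply, ext7Fun, dif_pos (show (seven9 i).val < 7 from i.isLt)] at this
  exact this)

/-- Point-by-point equality in nine points. -/
def val9 (x : A9) (l : List (Fin 9)) : Bool := (List.finRange 9).map (fun i => (x : Perm (Fin 9)) i) == l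

/-- The values of the embedding as a list. -/
def ext7List (σ : S7) : List (Fin 9) := (List.finRange 9).map (ext7Fun σ)

theorem ext7_eq {σ : S7} {x : A9} (h : val9 x (ext7List σ) = true) : x = ext7 σ := by
  have h' := beq_iff_eq.mp h
  refine Subtype.ext (Equiv.ext fun i => ?_)
  have := List.map_eq_map_iff.mp h' i (List.mem_finRange i)
  rw [ext7_apply]
  exact this

/-- The three-cycle moving the pairs onto one another. -/
def y9 : A9 := el9 (swap 6 7 * swap 7 8)

/-- The fixed-point-free double transposition fixing the last point. -/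
def e9 : A9 := el9 (swap 0 1 * swap 2 3 * swap 4 5 * swap 6 7)

theorem y9_facts : y9 * e9 * y9⁻¹ = ext7 g7 ∧ Commute y9 (ext7 c7) ∧ Commute y9 (ext7 u7) ∧ emb Alt9.e0 = e9 := by
  have hval : ∀ x z : A9, (List.finRange 9).all (fun i => (x : Perm (Fin 9)) i == (z : Perm (Fin 9)) i) = true →
      x = z := fun x z h => Subtype.ext (Equiv.ext fun i =>
    beq_iff_eq.mp (List.all_eq_true.mp h i (List.mem_finRange i)))
  have ec : el9 (swap 0 1 * swap 2 3) = ext7 c7 := ext7_eq (by decide +kernel)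
  have eu : el9 (swap 2 3 * swap 4 5) = ext7 u7 := ext7_eq (by decide +kernel)
  refine ⟨ext7_eq (by decide +kernel), ?_, ?_, ?_⟩
  · rw [← ec]; exact hval _ _ (by decide +kernel)
  · rw [← eu]; exact hval _ _ (by decide +kernel)
  · refine Alt9.emb_eq (fun i => ?_) (by decide +kernel)
    revert i; decide +kernel

/-- An even permutation of nine points commuting with the embedded alternating group is trivial. -/
theorem cent_alt7 {σ : A9} (h : ∀ π : S7, Perm.sign π = 1 → Commute σ (ext7 π)) : σ = 1 := by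
  let f := (σ : Perm (Fin 9))
  have com : ∀ π : S7, Perm.sign π = 1 → ∀ i, f (ext7Fun π i) = ext7Fun π (f i) := fun π hπ i => by
    rw [← ext7_apply, ← ext7_apply]
    exact congrArg (fun q : A9 => (q : Perm (Fin 9)) i) (h π hπ).eq
  have s : ∀ π ∈ ([swap 0 1 * swap 1 2, swap 2 3 * swap 3 4, a7] : List S7), Perm.sign π = 1 := by decide +kernel
  have mv : ∀ π : S7, Perm.sign π = 1 → ∀ i, ext7Fun π i ≠ i → ext7Fun π (f i) ≠ f i := fun π hπ i hi e =>
    hi (f.injective ((com π hπ i).trans e))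
  obtain ⟨x1, x2, x3⟩ : Perm.sign (swap 0 1 * swap 1 2 : S7) = 1 ∧ Perm.sign (swap 2 3 * swap 3 4 : S7) = 1 ∧
      Perm.sign a7 = 1 := ⟨s _ (by simp), s _ (by simp), s _ (by simp)⟩
  have k2 : ∀ j : Fin 9, ext7Fun (swap 0 1 * swap 1 2) j ≠ j → ext7Fun (swap 2 3 * swap 3 4) j ≠ j → j = 2 := by
    decide +kernel
  have k4 : ∀ j : Fin 9, ext7Fun (swap 2 3 * swap 3 4) j ≠ j → ext7Fun a7 j ≠ j → j = 4 := by decide +kernel
  have f2 : f 2 = 2 := k2 _ (mv _ x1 2 (by decide +kernel)) (mv _ x2 2 (by decide +kernel))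
  have f4 : f 4 = 4 := k4 _ (mv _ x2 4 (by decide +kernel)) (mv _ x3 4 (by decide +kernel))
  have ev : ext7Fun (swap 0 1 * swap 1 2) 2 = 0 ∧ ext7Fun (swap 0 1 * swap 1 2) 0 = 1 ∧
      ext7Fun (swap 2 3 * swap 3 4) 2 = 3 ∧ ext7Fun a7 4 = 5 ∧ ext7Fun a7 5 = 6 := by decide +kernel
  obtain ⟨v0, v1, v3, v5, v6⟩ := ev
  have f0 : f 0 = 0 := by rw [← v0, com _ x1, f2]
  have f1 : f 1 = 1 := by rw [← v1, com _ x1, f0]
  have f3 : f 3 = 3 := by rw [← v3, com _ x2, f2]
  have f5 : f 5 = 5 := by rw [← v5, com _ x3, f4]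
  have f6 : f 6 = 6 := by rw [← v6, com _ x3, f5]
  have hrest : ∀ j : Fin 9, j ≠ 0 → j ≠ 1 → j ≠ 2 → j ≠ 3 → j ≠ 4 → j ≠ 5 → j ≠ 6 → j = 7 ∨ j = 8 := by decide +kernel
  have h7 : f 7 = 7 ∨ f 7 = 8 := hrest _ (f0 ▸ f.injective.ne (by decide)) (f1 ▸ f.injective.ne (by decide))
    (f2 ▸ f.injective.ne (by decide)) (f3 ▸ f.injective.ne (by decide)) (f4 ▸ f.injective.ne (by decide))
    (f5 ▸ f.injective.ne (by decide)) (f6 ▸ f.injective.ne (by decide))
  have h8 : f 8 = 7 ∨ f 8 = 8 := hrest _ (f0 ▸ f.injective.ne (by decide)) (f1 ▸ f.injective.ne (by decide))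
    (f2 ▸ f.injective.ne (by decide)) (f3 ▸ f.injective.ne (by decide)) (f4 ▸ f.injective.ne (by decide))
    (f5 ▸ f.injective.ne (by decide)) (f6 ▸ f.injective.ne (by decide))
  rcases h7 with e7 | e7
  · have e8 : f 8 = 8 := h8.resolve_left fun e => absurd (f.injective (e.trans e7.symm)) (by decide)
    exact Subtype.ext (Equiv.ext fun i => by
      fin_cases i
      exacts [f0, f1, f2, f3, f4, f5, f6, e7, e8])
  · exfalso
    have e8 : f 8 = 7 := h8.resolve_right fun e => absurd (f.injective (e.trans e7.symm)) (by decide)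
    have : (σ : Perm (Fin 9)) = swap 7 8 := Equiv.ext fun i => by
      fin_cases i
      exacts [f0, f1, f2, f3, f4, f5, f6, e7.trans (swap_apply_left 7 8).symm, e8.trans (swap_apply_right 7 8).symm]
    have hs := Perm.mem_alternatingGroup.mp σ.2
    rw [this, Perm.sign_swap (by decide)] at hs
    exact absurd hs (by decide)

/-- An even permutation fixing the seven points is trivial. -/
theorem eq_one_of_fix {σ : A9} (h : ∀ i, (σ : Perm (Fin 9)) (seven9 i) = seven9 i) : σ = 1 := by
  set f := (σ : Perm (Fin 9)) with hf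
  have hrest : ∀ j : Fin 9, j = 7 ∨ j = 8 → f j = 7 ∨ f j = 8 := fun j hj => by
    rcases seven9_facts.2.2 (f j) with e | e | ⟨i, e⟩
    · exact Or.inl e
    · exact Or.inr e
    · rw [← h i] at e
      rcases hj with rfl | rfl
      exacts [absurd (f.injective e) (seven9_facts.1 i).1, absurd (f.injective e) (seven9_facts.1 i).2]
  refine Subtype.ext ?_
  rcases hrest 7 (Or.inl rfl) with e7 | e7
  · have e8 : f 8 = 8 := (hrest 8 (Or.inr rfl)).resolve_left fun e => absurd (f.injective (e.trans e7.symm)) (by decide)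
    refine Equiv.ext fun j => ?_
    rcases seven9_facts.2.2 j with rfl | rfl | ⟨i, rfl⟩
    exacts [e7, e8, h i]
  · exfalso
    have e8 : f 8 = 7 := (hrest 8 (Or.inr rfl)).resolve_right fun e => absurd (f.injective (e.trans e7.symm)) (by decide)
    have hsw : f = swap 7 8 := Equiv.ext fun j => by
      rcases seven9_facts.2.2 j with rfl | rfl | ⟨i, rfl⟩
      exacts [e7.trans (swap_apply_left 7 8).symm, e8.trans (swap_apply_right 7 8).symm,
        (h i).trans (seven9_facts.2.1 i).symm]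
    have hs := Perm.mem_alternatingGroup.mp σ.2
    rw [show (σ : Perm (Fin 9)) = swap 7 8 from hsw, Perm.sign_swap (by decide)] at hs
    exact absurd hs (by decide)

/-- An even permutation preserving the last two points is in the image. -/
theorem exists_ext7 {σ : A9} (h : ∀ j : Fin 9, j = 7 ∨ j = 8 → (σ : Perm (Fin 9)) j = 7 ∨ (σ : Perm (Fin 9)) j = 8) :
    ∃ π : S7, σ = ext7 π := by
  set f := (σ : Perm (Fin 9)) with hf
  have low : ∀ i, ∃ k, seven9 k = f (seven9 i) := fun i => by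
    rcases seven9_facts.2.2 (f (seven9 i)) with e | e | e
    on_goal 3 => exact e
    all_goals
      exfalso
      have h78 : ∀ a b : Fin 9, (a = 7 ∨ a = 8) → (b = 7 ∨ b = 8) → a ≠ b → ∀ c : Fin 9, (c = 7 ∨ c = 8) → c = a ∨ c = b := by
        decide +kernel
      rcases h78 _ _ (h 7 (Or.inl rfl)) (h 8 (Or.inr rfl)) (f.injective.ne (by decide)) (f (seven9 i))
          (by simp [e]) with e' | e'
      exacts [(seven9_facts.1 i).1 (f.injective e'), (seven9_facts.1 i).2 (f.injective e')]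
  choose r hr using low
  have hinj : Function.Injective r := fun a b e => seven9.injective (f.injective (by rw [← hr, ← hr, e]))
  let π : S7 := Equiv.ofBijective r (Finite.injective_iff_bijective.mp hinj)
  refine ⟨π, inv_mul_eq_one.mp (eq_one_of_fix (σ := σ⁻¹ * ext7 π) fun i => ?_)⟩
  rw [Subgroup.coe_mul, Subgroup.coe_inv, Perm.mul_apply, ext7_apply, ext7Fun,
    dif_pos (show (seven9 i).val < 7 from i.isLt), Perm.inv_eq_iff_eq]
  exact hr i

theorem sign_of_seven {π : S7} (h : ((ext7 π : A9) : Perm (Fin 9)) 7 = 7) : Perm.sign π = 1 := by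
  by_contra hs
  rw [ext7_apply, ext7Fun, dif_neg (by decide), if_neg hs, swap_apply_left] at h
  exact absurd h (by decide)

theorem ext7_seven {π : S7} (hs : Perm.sign π = 1) :
    ((ext7 π : A9) : Perm (Fin 9)) 7 = 7 ∧ ((ext7 π : A9) : Perm (Fin 9)) 8 = 8 := by
  rw [ext7_apply, ext7_apply, ext7Fun, ext7Fun, dif_neg (by decide), dif_neg (by decide), if_pos hs, if_pos hs]
  exact ⟨rfl, rfl⟩

theorem ext7_eight {π : S7} (hs : Perm.sign π = 1) : ∃ ρ : A8, emb ρ = ext7 π := by
  have hlast : ((ext7 π : A9) : Perm (Fin 9)) (Fin.last 8) = Fin.last 8 := (ext7_seven hs).2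
  have low : ∀ i : Fin 8, ∃ k : Fin 8, k.castSucc = ((ext7 π : A9) : Perm (Fin 9)) i.castSucc := fun i => by
    obtain ⟨k, hk⟩ | hk := Fin.eq_castSucc_or_eq_last (((ext7 π : A9) : Perm (Fin 9)) i.castSucc)
    · exact ⟨k, hk.symm⟩
    · rw [← hlast] at hk
      exact absurd (Equiv.injective _ hk) (Fin.castSucc_lt_last i).ne
  choose r hr using low
  have hinj : Function.Injective r := fun a b e => Fin.castSucc_injective _ (Equiv.injective _ (by rw [← hr, ← hr, e]))
  let ρ : Perm (Fin 8) := Equiv.ofBijective r (Finite.injective_iff_bijective.mp hinj)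
  have hval : Perm.viaEmbeddingHom Fin.castSuccEmb ρ = ((ext7 π : A9) : Perm (Fin 9)) := Equiv.ext fun j => by
    induction j using Fin.lastCases with
    | last =>
      rw [hlast]
      exact Perm.viaEmbedding_apply_of_notMem _ Fin.castSuccEmb _ (by rintro ⟨i, hi⟩; exact (Fin.castSucc_lt_last i).ne hi)
    | cast i => exact (Perm.viaEmbedding_apply ρ Fin.castSuccEmb i).trans (hr i)
  have hs8 : Perm.sign ρ = 1 := by
    have := Perm.mem_alternatingGroup.mp (ext7 π).2
    rw [← hval, Perm.viaEmbeddingHom_apply, Perm.viaEmbedding, Perm.sign_extendDomain] at this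
    exact this
  exact ⟨⟨ρ, Perm.mem_alternatingGroup.mpr hs8⟩, Subtype.ext hval⟩

/-- An even permutation of eight points fixing the last one comes from seven points. -/
theorem eight_ext7 {ρ : A8} (h : (ρ : Perm (Fin 8)) 7 = 7) : ∃ π : S7, Perm.sign π = 1 ∧ emb ρ = ext7 π := by
  have h7 : ((emb ρ : A9) : Perm (Fin 9)) 7 = 7 := by
    show ((emb ρ : A9) : Perm (Fin 9)) (Fin.castSucc (7 : Fin 8)) = _
    rw [Alt9.emb_castSucc, h]; rfl
  have h8 : ((emb ρ : A9) : Perm (Fin 9)) 8 = 8 := Alt9.emb_last ρ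
  obtain ⟨π, e⟩ := exists_ext7 (σ := emb ρ) fun j hj => by
    rcases hj with rfl | rfl
    exacts [Or.inl h7, Or.inr h8]
  exact ⟨π, sign_of_seven (by rw [← e]; exact h7), e⟩

/-- The outer involution on nine points. -/
def gList : List (Fin 9) := [1, 0, 3, 2, 5, 4, 6, 8, 7]

/-- The three inner involutions. -/
def uLists : List (List (Fin 9)) :=
  [[1, 0, 3, 2, 4, 5, 6, 7, 8], [0, 1, 3, 2, 5, 4, 6, 7, 8], [1, 0, 2, 3, 5, 4, 6, 7, 8]]

/-- The three outer ones with two cycles. -/
def tLists : List (List (Fin 9)) :=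
  [[1, 0, 2, 3, 4, 5, 6, 8, 7], [0, 1, 3, 2, 4, 5, 6, 8, 7], [0, 1, 2, 3, 5, 4, 6, 8, 7]]

theorem lists_ok : ext7List g7 = gList ∧ ([c7, u7, c7 * u7] : List S7).map ext7List = uLists ∧
    ([swap 0 1, swap 2 3, swap 4 5] : List S7).map ext7List = tLists := by decide +kernel

theorem moved_pair : ∀ a : Fin 9, a ≠ 6 → ∀ b : Fin 9, b ≠ 6 → b ≠ a → b ≠ gList.getD a.val 0 →
    ∀ d : Fin 9, d ≠ 6 → d ≠ a → d ≠ gList.getD a.val 0 → d ≠ b → d ≠ gList.getD b.val 0 →
    ∀ e : Fin 9, e ≠ 6 → e ≠ 7 → e ≠ 8 → e ≠ a → e ≠ gList.getD a.val 0 → e ≠ b → e ≠ gList.getD b.val 0 →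
      e ≠ d → e ≠ gList.getD d.val 0 →
    uLists.any (fun u => tLists.any fun t => (List.finRange 9).all fun i =>
      [a, gList.getD a.val 0, b, gList.getD b.val 0, d, gList.getD d.val 0, 6, e, gList.getD e.val 0].getD
        (u.getD i.val 0).val 0 ==
      t.getD ([a, gList.getD a.val 0, b, gList.getD b.val 0, d, gList.getD d.val 0, 6, e,
        gList.getD e.val 0].getD i.val 0).val 0) = true := by
  decide +kernel

theorem ext7_getD {π : S7} {l : List (Fin 9)} (h : ext7List π = l) (i : Fin 9) :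
    ((ext7 π : A9) : Perm (Fin 9)) i = l.getD i.val 0 := by
  subst h
  rw [ext7_apply, ext7List, List.getD_eq_getElem _ _ (by simp [i.isLt]), List.getElem_map, List.getElem_finRange]
  rfl

/-- An element commuting with the outer involution comes from seven points or makes an inner involution outer. -/
theorem cent_g9 {σ : A9} (h : Commute σ (ext7 g7)) :
    (∃ π : S7, σ = ext7 π ∧ Commute π g7) ∨
      ∃ u ∈ ([c7, u7, c7 * u7] : List S7), ∃ t : S7, Perm.sign t = -1 ∧ σ * ext7 u * σ⁻¹ = ext7 t := by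
  obtain ⟨hg, hu, ht⟩ := lists_ok
  set f := (σ : Perm (Fin 9)) with hf
  have hG : ∀ i : Fin 9, f (gList.getD i.val 0) = gList.getD (f i).val 0 := fun i => by
    rw [← ext7_getD hg, ← ext7_getD hg]
    exact congrArg (fun q : A9 => (q : Perm (Fin 9)) i) h.eq
  by_cases h78 : f 7 = 7 ∨ f 7 = 8
  · refine Or.inl ?_
    obtain ⟨π, rfl⟩ := exists_ext7 (σ := σ) fun j hj => by
      rcases hj with rfl | rfl
      · exact h78
      · have e8 : f 8 = gList.getD (f 7).val 0 := hG 7
        rw [e8]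
        rcases h78 with e | e <;> rw [e] <;> decide
    exact ⟨π, rfl, ext7_inj (by rw [map_mul, map_mul]; exact h.eq)⟩
  refine Or.inr ?_
  push Not at h78
  have six : ∀ i : Fin 9, gList.getD i.val 0 = i ↔ i = 6 := by decide +kernel
  have f6 : f 6 = 6 := (six _).mp ((hG 6).symm.trans (congrArg f ((six 6).mpr rfl)))
  have ne6 : ∀ i : Fin 9, i ≠ 6 → f i ≠ 6 := fun i hi => f6 ▸ f.injective.ne hi
  have key := moved_pair (f 0) (ne6 0 (by decide)) (f 2) (ne6 2 (by decide)) (f.injective.ne (by decide))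
    (hG 0 ▸ f.injective.ne (by decide)) (f 4) (ne6 4 (by decide)) (f.injective.ne (by decide))
    (hG 0 ▸ f.injective.ne (by decide)) (f.injective.ne (by decide)) (hG 2 ▸ f.injective.ne (by decide))
    (f 7) (ne6 7 (by decide)) h78.1 h78.2 (f.injective.ne (by decide)) (hG 0 ▸ f.injective.ne (by decide))
    (f.injective.ne (by decide)) (hG 2 ▸ f.injective.ne (by decide)) (f.injective.ne (by decide))
    (hG 4 ▸ f.injective.ne (by decide))
  have vals : ∀ i : Fin 9, f i = [f 0, gList.getD (f 0).val 0, f 2, gList.getD (f 2).val 0, f 4,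
      gList.getD (f 4).val 0, 6, f 7, gList.getD (f 7).val 0].getD i.val 0 := fun i => by
    fin_cases i
    exacts [rfl, hG 0, rfl, hG 2, rfl, hG 4, f6, rfl, hG 7]
  simp only [List.any_eq_true, List.all_eq_true, beq_iff_eq] at key
  obtain ⟨uL, huL, tL, htL, hall⟩ := key
  rw [← hu] at huL
  rw [← ht] at htL
  obtain ⟨u, hum, rfl⟩ := List.mem_map.mp huL
  obtain ⟨t, htm, rfl⟩ := List.mem_map.mp htL
  refine ⟨u, hum, t, (by decide +kernel : ∀ t ∈ ([swap 0 1, swap 2 3, swap 4 5] : List S7), Perm.sign t = -1) t htm, ?_⟩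
  refine mul_inv_eq_iff_eq_mul.mpr (Subtype.ext (Equiv.ext fun i => ?_))
  show f (((ext7 u : A9) : Perm (Fin 9)) i) = ((ext7 t : A9) : Perm (Fin 9)) (f i)
  rw [ext7_getD rfl, ext7_getD rfl, vals _, vals i]
  exact hall i (List.mem_finRange i)

end Cfsg.Lib.ConwayType.Seven
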