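import Cfsg.Agent.ConwayType.Locals.Seven.Local

/-!
The centralizer of the element of order seven: classes of its involutions and its elements of order five.
-/

set_option autoImplicit false
set_option synthInstance.maxSize 4096
set_option maxRecDepth 100000
set_option maxHeartbeats 1000000
set_option linter.unusedSectionVars false
set_option linter.style.haveILetI false
set_option Elab.async false

namespace Cfsg.Lib.ConwayType.Seven

open Subgroup
open Cfsg.Lib.ConwayType.Alt9 (A8 A9 emb)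

universe u

variable {G : Type u} [Group G] [Finite G] {z : G}

theorem five8_ext : emb five8 = ext7 b7 :=
  Alt9.emb_eq (σ := ext7 b7) (fun i => by rw [ext7_apply]; revert i; decide +kernel)
    (by rw [ext7_apply]; decide +kernel)

namespace Sev

variable (p : Sev z)

theorem v_order : orderOf p.v = 7 := by
  haveI : Fact (Nat.Prime 7) := ⟨by norm_num⟩
  exact orderOf_eq_prime p.v7 p.v1

theorem v_ne_inv : p.v⁻¹ ≠ p.v := fun e => by
  have h : p.v ^ 2 = 1 := by rw [pow_two]; exact inv_eq_iff_mul_eq_one.mp e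
  have := p.v_order ▸ orderOf_dvd_of_pow_eq_one h
  norm_num at this

theorem v_odd {π : S7} (h : Equiv.Perm.sign π = -1) : p.ψ π * p.v * (p.ψ π)⁻¹ = p.v⁻¹ := by
  have hs : Equiv.Perm.sign (g7 * π) = 1 := by rw [map_mul, h, signs.2.2.2.2.1]; rfl
  have e : p.ψ π = p.ψ g7 * p.ψ (g7 * π) := by rw [← map_mul, ← mul_assoc, basic.2.2.1, one_mul]
  rw [e, show p.ψ g7 * p.ψ (g7 * π) * p.v * (p.ψ g7 * p.ψ (g7 * π))⁻¹ =
    p.ψ g7 * (p.ψ (g7 * π) * p.v * (p.ψ (g7 * π))⁻¹) * (p.ψ g7)⁻¹ by group, ← (p.v_comm _ hs).eq,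
    mul_inv_cancel_right, p.v_g]

theorem even_of_comm {π : S7} (h : Commute (p.ψ π) p.v) : Equiv.Perm.sign π = 1 := by
  rcases Int.units_eq_one_or (Equiv.Perm.sign π) with e | e
  · exact e
  · have := p.v_odd e
    rw [h.eq, mul_inv_cancel_right] at this
    exact absurd this.symm p.v_ne_inv

/-- No involution outside the class commutes with it. -/
theorem not_plain {x : G} (hx : IsConj (p.toFr.ev 68) x) : ¬ Commute p.v x := by
  intro h
  obtain ⟨c, rfl⟩ := isConj_iff.mp hx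
  haveI : Fact (Nat.Prime 7) := ⟨by norm_num⟩
  have hm : c⁻¹ * p.v * c ∈ p.toFr.Ht := p.toFr.mem_Ht.mpr (by
    have := (Commute.conj_iff c⁻¹).mpr h
    rwa [inv_inv, show c⁻¹ * (c * p.toFr.ev 68 * c⁻¹) * c = p.toFr.ev 68 by group] at this)
  have hd := orderOf_dvd_natCard (⟨_, hm⟩ : ↥p.toFr.Ht)
  have ho : orderOf (c⁻¹ * p.v * c) = 7 := by
    have h' := (MulAut.conj c⁻¹).orderOf_eq p.v
    rw [p.v_order, MulAut.conj_apply, inv_inv] at h'
    exact h'
  rw [Subgroup.orderOf_mk, ho, p.toFr.card_Ht] at hd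
  norm_num at hd

/-- Around a conjugate of the central involution. -/
theorem ztype {x y : G} (hx : IsConj z x) (hxv : Commute x p.v) (hyx : Commute y x) (hyv : Commute y p.v) :
    (y * y = 1 → y ≠ 1 → IsConj z y) ∧ (y * y * y = 1 → y = 1) := by
  obtain ⟨c, rfl⟩ := isConj_iff.mp hx
  have back : ∀ {a : G}, Commute a (c * z * c⁻¹) → Commute (c⁻¹ * a * c) z := fun {a} h => by
    have := (Commute.conj_iff c⁻¹).mpr h
    rwa [inv_inv, show c⁻¹ * (c * z * c⁻¹) * c = z by group] at this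
  have hcyv : Commute (c⁻¹ * y * c) (c⁻¹ * p.v * c) := by
    have := (Commute.conj_iff c⁻¹).mpr hyv
    rwa [inv_inv] at this
  have hv7 : (c⁻¹ * p.v * c) ^ 7 = 1 := by
    have := (conj_pow (i := 7) (a := c⁻¹) (b := p.v))
    rw [inv_inv] at this
    rw [this, p.v7, mul_one, inv_mul_cancel]
  have hv1 : c⁻¹ * p.v * c ≠ 1 := fun e => p.v1 (by
    rw [show p.v = c * (c⁻¹ * p.v * c) * c⁻¹ by group, e, mul_one, mul_inv_cancel])
  obtain ⟨h2, h3⟩ := p.toPt.seven_commuting (back hxv.symm) hv7 hv1 (back hyx) hcyv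
  refine ⟨fun e ne => ?_, fun e => ?_⟩
  · refine (h2 ?_ fun e' => ne ?_).trans (isConj_iff.mpr ⟨c, by group⟩)
    · rw [show c⁻¹ * y * c * (c⁻¹ * y * c) = c⁻¹ * (y * y) * c by group, e, mul_one, inv_mul_cancel]
    · rw [show y = c * (c⁻¹ * y * c) * c⁻¹ by group, e', mul_one, mul_inv_cancel]
  · have := h3 (by
      rw [show c⁻¹ * y * c * (c⁻¹ * y * c) * (c⁻¹ * y * c) = c⁻¹ * (y * y * y) * c by group, e, mul_one,
        inv_mul_cancel])
    rw [show y = c * (c⁻¹ * y * c) * c⁻¹ by group, this, mul_one, mul_inv_cancel]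

/-- The inner involution is not in the class of the central one. -/
theorem inner_not_z : ¬ IsConj z (p.ψ c7) := fun h => by
  have hc : Commute a7 c7 := eq_of_sameV (by decide +kernel)
  have h3 : a7 * a7 * a7 = 1 := eq_of_sameV (by decide +kernel)
  have e := (p.ztype h (p.v_comm _ signs.1).symm (hc.map p.ψ) (p.v_comm _ signs.2.2.2.2.2.2.2.2.2.2.1).symm).2
    (by rw [← map_mul, ← map_mul, h3, map_one])
  exact (ne_of_sameV (x := a7) (y := 1) (by decide +kernel)) (p.ψ_inj (e.trans (map_one _).symm))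

/-- The element of order five. -/
theorem b_spec : p.ψ b7 = p.iota8 five8 ∧ orderOf (p.ψ b7) = 5 ∧ Commute (p.ψ b7) p.v := by
  have e : p.ψ b7 = p.iota8 five8 := p.ψ_emb five8_ext
  exact ⟨e, e ▸ p.toTri.iota8_five.2.2, (p.v_comm _ signs.2.2.2.2.2.2.2.2.2.2.2).symm⟩

theorem cent_b {x : G} (hb : Commute x (p.ψ b7)) (hv : Commute x p.v) :
    ∃ i j : ℕ, x = p.ψ b7 ^ i * p.v ^ j := by
  obtain ⟨e, -, hbv⟩ := p.b_spec
  obtain ⟨i, j', hj, rfl⟩ := p.toTri.frame.cent x (e ▸ hb)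
  have hvJ : p.v ∈ p.toTri.frame.J := p.toTri.mem_J 7 (by norm_num) p.v7 (e ▸ hbv.symm)
  have hjv : Commute j' p.v := by
    have := ((e ▸ hbv).pow_left i).inv_left.mul_left hv
    rwa [inv_mul_cancel_left] at this
  have h7 := p.toTri.frame.seven p.v hvJ p.v_order
  have hle : zpowers p.v ≤ p.toTri.frame.J ⊓ centralizer ({p.v} : Set G) :=
    zpowers_le.mpr ⟨hvJ, mem_centralizer_singleton_iff.mpr rfl⟩
  have heq := eq_of_le_of_card_ge hle (by rw [h7, Nat.card_zpowers, p.v_order])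
  have hm : j' ∈ zpowers p.v := heq ▸ ⟨hj, mem_centralizer_singleton_iff.mpr hjv.eq⟩
  rw [← mem_powers_iff_mem_zpowers, Submonoid.mem_powers_iff] at hm
  obtain ⟨k, hk⟩ := hm
  exact ⟨i, k, by rw [e, hk]⟩

open scoped Pointwise in
/-- Elements of order five of the centralizer are conjugate into one subgroup. -/
theorem five_sylow {d : G} (hd : d ^ 5 = 1) (hv : Commute d p.v) :
    ∃ (g : G) (i : ℕ), Commute g p.v ∧ g * d * g⁻¹ = p.ψ b7 ^ i := by
  classical
  haveI : Fact (Nat.Prime 5) := ⟨by norm_num⟩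
  obtain ⟨-, ob, hbv⟩ := p.b_spec
  set C := centralizer ({p.v} : Set G)
  let bC : ↥C := ⟨p.ψ b7, mem_centralizer_singleton_iff.mpr hbv.eq⟩
  have obC : orderOf bC = 5 := by rw [Subgroup.orderOf_mk]; exact ob
  obtain ⟨P, hP⟩ := (IsPGroup.of_card (n := 1) (by rw [Nat.card_zpowers, obC, pow_one]) :
    IsPGroup 5 ↥(zpowers bC)).exists_le_sylow
  have key : ∀ y ∈ (P : Subgroup ↥C), Commute y bC → y ∈ zpowers bC := by
    intro y hy hyb
    obtain ⟨i, j, e⟩ := p.cent_b (congrArg Subtype.val hyb.eq) (mem_centralizer_singleton_iff.mp y.2)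
    let vC : ↥C := ⟨p.v, mem_centralizer_singleton_iff.mpr rfl⟩
    have e' : y = bC ^ i * vC ^ j := Subtype.ext (by simpa [bC, vC] using e)
    have hmem : vC ^ j ∈ (P : Subgroup ↥C) := by
      rw [show vC ^ j = (bC ^ i)⁻¹ * y by rw [e', inv_mul_cancel_left]]
      exact mul_mem (inv_mem (pow_mem (hP (mem_zpowers _)) i)) hy
    obtain ⟨k, hk⟩ := P.isPGroup' ⟨_, hmem⟩
    have hk' : (vC ^ j) ^ 5 ^ k = 1 := congrArg Subtype.val hk
    have h7 : (vC ^ j) ^ 7 = 1 := by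
      rw [← pow_mul, mul_comm, pow_mul, show vC ^ 7 = 1 from Subtype.ext (by simpa [vC] using p.v7), one_pow]
    have := pow_gcd_eq_one.mpr ⟨hk', h7⟩
    rw [Nat.Coprime.gcd_eq_one (Nat.Coprime.pow_left _ (by norm_num)), pow_one] at this
    rw [e', this, mul_one]
    exact pow_mem (mem_zpowers _) i
  have hPb : (P : Subgroup ↥C) = zpowers bC := by
    refine le_antisymm (fun y hy => key y hy ?_) hP
    haveI : Nontrivial (P : Subgroup ↥C) := ⟨⟨⟨bC, hP (mem_zpowers _)⟩, 1, fun e => by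
      have : bC = 1 := congrArg Subtype.val e
      rw [this, orderOf_one] at obC
      norm_num at obC⟩⟩
    haveI := P.isPGroup'.center_nontrivial
    obtain ⟨⟨⟨q, hq⟩, hqc⟩, hq1⟩ := exists_ne (1 : center (P : Subgroup ↥C))
    have hcomm : ∀ t ∈ (P : Subgroup ↥C), t * q = q * t := fun t ht =>
      congrArg Subtype.val (mem_center_iff.mp hqc ⟨t, ht⟩)
    have hqm := key q hq ((hcomm bC (hP (mem_zpowers _))).symm)
    have hqz : zpowers q = zpowers bC := by
      refine eq_of_le_of_card_ge (zpowers_le.mpr hqm) ?_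
      have hd' : orderOf q ∣ 5 := obC ▸ Nat.card_zpowers bC ▸ Subgroup.orderOf_dvd_natCard _ hqm
      rcases (Nat.dvd_prime (by norm_num : Nat.Prime 5)).mp hd' with h | h
      · exact absurd (Subtype.ext (Subtype.ext (orderOf_eq_one_iff.mp h)) :
          (⟨⟨q, hq⟩, hqc⟩ : center (P : Subgroup ↥C)) = 1) hq1
      · rw [Nat.card_zpowers, Nat.card_zpowers, h, obC]
    have hb : bC ∈ zpowers q := hqz ▸ mem_zpowers bC
    obtain ⟨k, hk⟩ := mem_zpowers_iff.mp hb
    rw [← hk]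
    exact Commute.zpow_right (hcomm y hy : Commute y q) k
  let dC : ↥C := ⟨d, mem_centralizer_singleton_iff.mpr hv.eq⟩
  obtain ⟨Q, hQ⟩ := (show IsPGroup 5 ↥(zpowers dC) from fun x => ⟨1, by
    obtain ⟨x, hx⟩ := x
    obtain ⟨k, hk⟩ := mem_zpowers_iff.mp hx
    refine Subtype.ext ?_
    rw [pow_one, SubmonoidClass.coe_pow, OneMemClass.coe_one]
    show x ^ 5 = 1
    rw [← hk, ← zpow_natCast, ← zpow_mul, mul_comm, zpow_mul, zpow_natCast,
      show dC ^ 5 = 1 from Subtype.ext (by simpa [dC] using hd), one_zpow]⟩).exists_le_sylow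
  obtain ⟨g, hg⟩ := MulAction.exists_smul_eq ↥C Q P
  have hm : g * dC * g⁻¹ ∈ zpowers bC := by
    rw [← hPb, ← hg, Sylow.coe_subgroup_smul]
    exact ⟨dC, hQ (mem_zpowers _), rfl⟩
  rw [← mem_powers_iff_mem_zpowers, Submonoid.mem_powers_iff] at hm
  obtain ⟨i, hi⟩ := hm
  exact ⟨g, i, mem_centralizer_singleton_iff.mp g.2, (congrArg Subtype.val hi).symm⟩

/-- No element of order five centralizes both. -/
theorem no_five {d : G} (hd : d ^ 5 = 1) (hv : Commute d p.v) (hg : Commute d (p.ψ g7)) : d = 1 := by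
  by_contra hne
  obtain ⟨c, i, -, hc⟩ := p.five_sylow hd hv
  obtain ⟨e, ob, -⟩ := p.b_spec
  have hcop : i.Coprime (orderOf (p.ψ b7)) := by
    rw [ob, Nat.coprime_comm, (by norm_num : Nat.Prime 5).coprime_iff_not_dvd]
    rintro ⟨j, rfl⟩
    rw [pow_mul, ← ob, pow_orderOf_eq_one, one_pow, conj_eq_one_iff] at hc
    exact hne hc
  obtain ⟨m, hm⟩ := exists_pow_eq_self_of_coprime hcop
  have h1 : Commute (c * p.ψ g7 * c⁻¹) (p.ψ b7 ^ i) := hc ▸ (Commute.conj_iff c).mpr hg.symm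
  have h2 : Commute (c * p.ψ g7 * c⁻¹) (p.iota8 five8) := e ▸ hm ▸ h1.pow_right m
  obtain ⟨n, hn, -⟩ := p.toNine.exists_move
  refine p.toTri.frame.not_ti _ ?_ h2 (isConj_iff.mpr ⟨c * n⁻¹, ?_⟩)
  · rw [show c * p.ψ g7 * c⁻¹ * (c * p.ψ g7 * c⁻¹) = c * (p.ψ g7 * p.ψ g7) * c⁻¹ by group,
      p.toNine.g7_sq, mul_one, mul_inv_cancel]
  · rw [← hn]; group

theorem no_seven {d : G} (hd : d ^ 7 = 1) (hg : Commute d (p.ψ g7)) : d = 1 := p.toNine.not_seven hd hg

/-- The centralizer of the three elements. -/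
theorem cent_three {y : G} (hw : Commute y p.w) (hg : Commute y (p.ψ g7)) (hv : Commute y p.v) :
    ∃ π : S7, Equiv.Perm.sign π = 1 ∧ Commute π g7 ∧ y = p.ψ π := by
  obtain ⟨k, σ, rfl⟩ := p.φ_gen y hw
  have hwg : Commute (p.w ^ k) (p.ψ g7) := (p.ψ_w g7).1.symm.pow_left k
  have hσg : Commute σ (ext7 g7) := p.φ_inj (by
    rw [map_mul, map_mul]
    have := hwg.inv_left.mul_left hg
    rw [inv_mul_cancel_left] at this
    exact this)
  rcases cent_g9 hσg with ⟨π, rfl, hπ⟩ | ⟨u, hu, t, ht, e⟩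
  · change Commute (p.w ^ k * p.ψ π) p.v at hv
    obtain ⟨a, ha⟩ := p.v_w
    rcases Int.units_eq_one_or (Equiv.Perm.sign π) with hs | hs
    · have hwv : Commute (p.w ^ k) p.v := by
        have := hv.mul_left (p.v_comm π hs).symm.inv_left
        rwa [mul_inv_cancel_right] at this
      have hk : k % 3 = 0 := by
        by_contra hk
        refine p.v_nw ?_
        rcases (by omega : k % 3 = 1 ∨ k % 3 = 2) with h | h
        · rwa [p.toTri.w_mod (show k % 3 = 1 % 3 from h), pow_one] at hwv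
        · have h4 := hwv.mul_left hwv
          rwa [← pow_add, p.toTri.w_mod (show (k + k) % 3 = 1 % 3 by omega), pow_one] at h4
      refine ⟨π, hs, hπ, ?_⟩
      rw [p.toTri.w_mod (show k % 3 = 0 % 3 from hk), pow_zero, one_mul]
      rfl
    · exfalso
      have h1 : p.w ^ k * p.v * (p.w ^ k)⁻¹ = p.v⁻¹ := by
        have h2 := mul_inv_eq_iff_eq_mul.mpr hv.eq
        rw [show p.w ^ k * p.ψ π * p.v * (p.w ^ k * p.ψ π)⁻¹ = p.w ^ k * (p.ψ π * p.v * (p.ψ π)⁻¹) * (p.w ^ k)⁻¹ by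
          group, p.v_odd hs, ← _root_.conj_inv, inv_eq_iff_eq_inv] at h2
        exact h2
      have h3 : p.w ^ k * p.w ^ k * p.w ^ k = 1 := by
        rw [← pow_add, ← pow_add, show k + k + k = 3 * k by ring, pow_mul, p.toTri.w_pow3, one_pow]
      refine p.v_ne_inv ?_
      calc p.v⁻¹ = p.w ^ k * (p.w ^ k * (p.w ^ k * p.v * (p.w ^ k)⁻¹) * (p.w ^ k)⁻¹) * (p.w ^ k)⁻¹ := by
            rw [h1, ← _root_.conj_inv, h1, inv_inv, h1]
        _ = p.w ^ k * p.w ^ k * p.w ^ k * p.v * (p.w ^ k * p.w ^ k * p.w ^ k)⁻¹ := by group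
        _ = p.v := by rw [h3, inv_one, one_mul, mul_one]
  · exfalso
    have hsu : ∀ u ∈ ([c7, u7, c7 * u7] : List S7), Equiv.Perm.sign u = 1 := by decide +kernel
    have huv : Commute p.v (p.ψ u) := p.v_comm u (hsu u hu)
    have hwu : Commute (p.w ^ k) (p.ψ u) := (p.ψ_w u).1.symm.pow_left k
    have hwt : Commute (p.w ^ k) (p.ψ t) := (p.ψ_w t).1.symm.pow_left k
    have he : p.ψ t = p.w ^ k * p.φ σ * p.ψ u * (p.w ^ k * p.φ σ)⁻¹ := by
      have e' : p.ψ t = p.φ σ * p.ψ u * (p.φ σ)⁻¹ := by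
        show p.φ (ext7 t) = _
        rw [← e, map_mul, map_mul, map_inv]
        rfl
      rw [show p.w ^ k * p.φ σ * p.ψ u * (p.w ^ k * p.φ σ)⁻¹ = p.w ^ k * (p.φ σ * p.ψ u * (p.φ σ)⁻¹) * (p.w ^ k)⁻¹ by
        group, ← e', hwt.eq, mul_inv_cancel_right]
    have hct : Commute (p.ψ t) p.v := by
      rw [he]
      exact (hv.mul_left huv.symm).mul_left hv.inv_left
    have := p.even_of_comm hct
    rw [ht] at this
    exact absurd this (by decide)

end Sev

end Cfsg.Lib.ConwayType.Seven
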