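import Cfsg.Agent.ConwayType.Locals.Seven.RecogInner
import Cfsg.Agent.LocalThree.HallJankoType.OrderFormula

/-!
The order formula: the group is the symmetric group of degree seven.
-/

set_option autoImplicit false
set_option maxRecDepth 100000
set_option linter.unusedSectionVars false
set_option linter.style.haveILetI false
set_option Elab.async false

namespace Cfsg.Lib.ConwayType.Seven

open Subgroup Cfsg.Lib.HallJankoType

universe u

theorem mem_pairs7 {x y : S7} (hx : x ∈ c48) (hy : y ∈ c48) (h1 : isTriple x = true) (h2 : isSwap y = true)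
    (h3 : ∃ m, (x * y) ^ m = c7) : (x, y) ∈ pairs7 := by
  obtain ⟨m, hm⟩ := h3
  have hc : Commute (x * y) c7 := by
    have h := List.all_eq_true.mp c48_facts.2.2
    exact (show Commute x c7 from eq_of_sameV (h x hx)).mul_left (eq_of_sameV (h y hy))
  have h12 : (x * y) ^ 12 = 1 := by
    rw [← powV_eq]
    exact eq_of_sameV (List.all_eq_true.mp pair_orders _ (mem_c48 hc))
  simp only [pairs7, List.mem_filter, List.mem_flatMap, List.mem_map, Prod.mk.injEq, List.any_eq_true, List.mem_range]
  refine ⟨⟨x, ⟨hx, h1⟩, y, ⟨hy, h2⟩, rfl, rfl⟩, m % 12, lt_of_lt_of_le (Nat.mod_lt _ (by norm_num)) (by norm_num), ?_⟩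
  rw [powV_eq]
  have e : (x * y) ^ (m % 12) = c7 := by
    rw [← hm, ← Nat.mod_add_div m 12, pow_add, pow_mul, h12, one_pow, mul_one, Nat.add_mul_mod_self_left,
      Nat.mod_mod]
  rw [e]
  exact sameV_self _

namespace Hyp7

variable {Y : Type u} [Group Y] [Finite Y] (D : Hyp7 Y)

theorem ord_ι {π : S7} (h2 : sameV (π * π) 1 = true) (h1 : sameV π 1 = false) : orderOf (D.ι π) = 2 := by
  haveI : Fact (Nat.Prime 2) := ⟨Nat.prime_two⟩
  rw [orderOf_injective D.ι D.inj]
  exact orderOf_eq_prime (by rw [pow_two]; exact eq_of_sameV h2) (ne_of_sameV h1)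

/-- An element of a class of outer involutions commuting with the inner involution. -/
theorem outer_mem {u : Y} (hc : Commute u (D.ι c7)) :
    (IsConj (D.ι g7) u → ∃ π ∈ c48, isTriple π = true ∧ D.ι π = u) ∧
      (IsConj (D.ι t7) u → ∃ π ∈ c48, isSwap π = true ∧ D.ι π = u) := by
  obtain ⟨π, rfl, hπ⟩ := D.cent_c hc
  have hm := mem_c48 hπ
  have mov := List.all_eq_true.mp odd_invol π hm
  simp only [Bool.and_eq_true, Bool.or_eq_true, Bool.not_eq_true', List.any_eq_true] at mov
  obtain ⟨mg, mt⟩ := mov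
  obtain ⟨-, -, hgg, htt, -⟩ := basic
  obtain ⟨-, -, -, -, sg, st, -⟩ := signs
  have key : ∀ a : S7, a * a = 1 → Equiv.Perm.sign a = -1 → IsConj (D.ι a) (D.ι π) →
      isTriple π = true ∨ isSwap π = true := by
    intro a ha hs h
    obtain ⟨d, hd⟩ := isConj_iff.1 h
    have h2 : π * π = 1 := D.inj (by
      rw [map_mul, map_one, ← hd, show d * D.ι a * d⁻¹ * (d * D.ι a * d⁻¹) = d * D.ι (a * a) * d⁻¹ by
        rw [map_mul]; group, ha, map_one, mul_one, mul_inv_cancel])
    have hsπ : Equiv.Perm.sign π = -1 := by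
      rw [← D.sgn, ← hd, map_mul, map_mul, map_inv, mul_comm (D.ε d), mul_inv_cancel_right, D.sgn, hs]
    simp only [isTriple, isSwap, h2, sameV_self, decide_eq_true hsπ, Bool.true_and]
    cases ((List.finRange 7).countP fun i => π i != i) == 6 <;> simp
  constructor
  · intro h
    rcases key g7 hgg sg h with k | k
    · exact ⟨π, hm, k, rfl⟩
    · rcases mt with e | ⟨q, -, hq⟩
      · rw [k] at e; simp at e
      · exact absurd h (D.apart_of (IsConj.refl _) (isConj_iff.2 ⟨q⁻¹, by
          rw [inv_inv, mul_assoc, ← eq_of_sameV hq, inv_mul_cancel_left]⟩))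
  · intro h
    rcases key t7 htt st h with k | k
    · rcases mg with e | ⟨q, -, hq⟩
      · rw [k] at e; simp at e
      · exact absurd h.symm (D.apart_of (isConj_iff.2 ⟨q⁻¹, by
          rw [inv_inv, mul_assoc, ← eq_of_sameV hq, inv_mul_cancel_left]⟩) (IsConj.refl _))
    · exact ⟨π, hm, k, rfl⟩

theorem gt_apart {u v : Y} (hu : IsConj (D.ι g7) u) (hv : IsConj (D.ι t7) v) : ¬ IsConj u v := fun e =>
  D.apart ((hu.trans e).trans hv.symm)

theorem conj_of_triple {π : S7} (hm : π ∈ c48) :
    (isTriple π = true → IsConj (D.ι g7) (D.ι π)) ∧ (isSwap π = true → IsConj (D.ι t7) (D.ι π)) := by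
  have mov := List.all_eq_true.mp odd_invol π hm
  simp only [Bool.and_eq_true, Bool.or_eq_true, Bool.not_eq_true', List.any_eq_true] at mov
  constructor
  · intro k
    rcases mov.1 with e | ⟨q, -, hq⟩
    · rw [k] at e; simp at e
    · exact D.ι.map_isConj (isConj_iff.2 ⟨q⁻¹, by
        rw [inv_inv, mul_assoc, ← eq_of_sameV hq, inv_mul_cancel_left]⟩)
  · intro k
    rcases mov.2 with e | ⟨q, -, hq⟩
    · rw [k] at e; simp at e
    · exact D.ι.map_isConj (isConj_iff.2 ⟨q⁻¹, by
        rw [inv_inv, mul_assoc, ← eq_of_sameV hq, inv_mul_cancel_left]⟩)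

/-- The number of pairs around the inner involution. -/
theorem pair_count : Nat.card (PairSet (D.ι g7) (D.ι t7) (D.ι c7)) = 21 := by
  classical
  have og : orderOf (D.ι g7) = 2 := D.ord_ι (by decide +kernel) (by decide +kernel)
  have ot : orderOf (D.ι t7) = 2 := D.ord_ι (by decide +kernel) (by decide +kernel)
  have hnd : pairs7.Nodup := List.Nodup.of_map _ pairs7_card.2
  refine Eq.trans ?_ ((card_of_list hnd (fun e => ((D.ι e.1, D.ι e.2) : Y × Y)) (fun a b e =>
    Prod.ext (D.inj (congrArg Prod.fst e)) (D.inj (congrArg Prod.snd e)))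
    (P := fun p => p ∈ PairSet (D.ι g7) (D.ι t7) (D.ι c7)) ?_).trans pairs7_card.1)
  · rfl
  rintro ⟨u, v⟩
  constructor
  · rintro ⟨hu, hv, hp⟩
    have ou := order_two_of_conj og hu
    have ov := order_two_of_conj ot hv
    obtain ⟨-, cu, cv⟩ := Cfsg.Lib.InvolCalc.central_spec ou ov (even_of_not_conj ou ov (D.gt_apart hu hv))
    have hp' : pairInvol u v = D.ι c7 := hp
    rw [pairInvol] at hp'
    rw [hp'] at cu cv
    obtain ⟨x, hx, hxt, rfl⟩ := (D.outer_mem cu.symm).1 hu
    obtain ⟨y, hy, hyt, rfl⟩ := (D.outer_mem cv.symm).2 hv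
    refine ⟨(x, y), mem_pairs7 hx hy hxt hyt ⟨orderOf (D.ι x * D.ι y) / 2, D.inj ?_⟩, rfl⟩
    rw [map_pow, map_mul]
    exact hp'
  · rintro ⟨⟨x, y⟩, he, e⟩
    obtain ⟨rfl, rfl⟩ := Prod.ext_iff.1 e
    simp only [pairs7, List.mem_filter, List.mem_flatMap, List.mem_map, Prod.mk.injEq, List.any_eq_true,
      List.mem_range] at he
    obtain ⟨⟨x', ⟨hx, hxt⟩, y', ⟨hy, hyt⟩, rfl, rfl⟩, m, -, hm⟩ := he
    have hu := (D.conj_of_triple hx).1 hxt
    have hv := (D.conj_of_triple hy).2 hyt
    refine ⟨hu, hv, ?_⟩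
    have ou := order_two_of_conj og hu
    have ov := order_two_of_conj ot hv
    obtain ⟨o2, -, -⟩ := Cfsg.Lib.InvolCalc.central_spec ou ov (even_of_not_conj ou ov (D.gt_apart hu hv))
    show pairInvol (D.ι x') (D.ι y') = D.ι c7
    rw [pairInvol]
    have hm' : (D.ι x' * D.ι y') ^ m = D.ι c7 := by
      rw [← map_mul, ← map_pow, ← powV_eq]
      exact congrArg D.ι (eq_of_sameV hm)
    -- the involution of a cyclic group is unique
    set r := D.ι x' * D.ι y' with hr
    set s := r ^ (orderOf r / 2) with hs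
    have hcyc : ∀ w : Y, w ∈ zpowers r → orderOf w = 2 → w = s := by
      intro w hw ow
      have hone : ∀ a b : ↥(zpowers r), orderOf a = 2 → orderOf b = 2 → a = b := fun a b ha hb => by
        classical
        letI := Fintype.ofFinite ↥(zpowers r)
        have hcard : (Finset.univ.filter fun z : ↥(zpowers r) => orderOf z = 2).card = Nat.totient 2 := by
          refine IsCyclic.card_orderOf_eq_totient ?_
          rw [← Nat.card_eq_fintype_card, ← ha]
          exact _root_.orderOf_dvd_natCard a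
        rw [Nat.totient_two, Finset.card_eq_one] at hcard
        obtain ⟨z, hz⟩ := hcard
        have h1 : a ∈ Finset.univ.filter fun z : ↥(zpowers r) => orderOf z = 2 :=
          Finset.mem_filter.2 ⟨Finset.mem_univ _, ha⟩
        have h2 : b ∈ Finset.univ.filter fun z : ↥(zpowers r) => orderOf z = 2 :=
          Finset.mem_filter.2 ⟨Finset.mem_univ _, hb⟩
        rw [hz, Finset.mem_singleton] at h1 h2
        rw [h1, h2]
      exact congrArg Subtype.val (hone ⟨w, hw⟩ ⟨s, pow_mem (mem_zpowers r) _⟩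
        (by rw [Subgroup.orderOf_mk]; exact ow) (by rw [Subgroup.orderOf_mk]; exact o2))
    exact (hcyc _ (hm' ▸ pow_mem (mem_zpowers r) m) (D.ord_ι (by decide +kernel) (by decide +kernel))).symm

include D in
/-- The order of the group. -/
theorem card_Y : Nat.card Y = 5040 := by
  classical
  letI := Fintype.ofFinite Y
  set g := D.ι g7 with hg
  set t := D.ι t7 with ht
  set c := D.ι c7 with hc
  have og : orderOf g = 2 := D.ord_ι (by decide +kernel) (by decide +kernel)
  have ot : orderOf t = 2 := D.ord_ι (by decide +kernel) (by decide +kernel)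
  have hCg : Nat.card ↥(centralizer ({g} : Set Y)) = 48 := by
    rw [← g48_facts.1]
    refine card_of_list (nodup_of_values g48_facts.2.1) D.ι D.inj fun y => ?_
    show y ∈ centralizer ({g} : Set Y) ↔ _
    rw [mem_centralizer_singleton_iff]
    refine ⟨fun h => ?_, ?_⟩
    · obtain ⟨π, rfl, hπ⟩ := D.cent_g h
      exact ⟨π, mem_g48 hπ, rfl⟩
    · rintro ⟨π, hπ, rfl⟩
      exact D.ι_comm.2 (eq_of_sameV (List.all_eq_true.mp g48_facts.2.2 π hπ))
  have hCc : Nat.card ↥(centralizer ({c} : Set Y)) = 48 := by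
    rw [← c48_facts.1]
    refine card_of_list (nodup_of_values c48_facts.2.1) D.ι D.inj fun y => ?_
    show y ∈ centralizer ({c} : Set Y) ↔ _
    rw [mem_centralizer_singleton_iff]
    refine ⟨fun h => ?_, ?_⟩
    · obtain ⟨π, rfl, hπ⟩ := D.cent_c h
      exact ⟨π, mem_c48 hπ, rfl⟩
    · rintro ⟨π, hπ, rfl⟩
      exact D.ι_comm.2 (eq_of_sameV (List.all_eq_true.mp c48_facts.2.2 π hπ))
  set S : Finset (Y × Y) := Finset.univ.filter fun p => IsConj g p.1 ∧ IsConj t p.2 with hS
  set I : Finset Y := Finset.univ.filter fun u => IsConj c u with hI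
  have hmaps : ∀ p ∈ S, pairInvol p.1 p.2 ∈ I := by
    intro p hp
    simp only [hS, Finset.mem_filter, Finset.mem_univ, true_and] at hp
    have h1 := order_two_of_conj og hp.1
    have h2 := order_two_of_conj ot hp.2
    obtain ⟨o2, -, -⟩ := Cfsg.Lib.InvolCalc.central_spec h1 h2 (even_of_not_conj h1 h2 (D.gt_apart hp.1 hp.2))
    simp only [hI, Finset.mem_filter, Finset.mem_univ, true_and]
    refine D.inner_conj (pow_mem (D.mem_X.2 ?_) _) (Cfsg.Lib.InvolCalc.sq_of_order_two o2)
      (Cfsg.Lib.InvolCalc.ne_one_of_order_two o2)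
    obtain ⟨a, ha⟩ := isConj_iff.1 hp.1
    obtain ⟨b, hb⟩ := isConj_iff.1 hp.2
    rw [map_mul, ← ha, ← hb, hg, ht]
    simp only [map_mul, map_inv, D.sgn, signs.2.2.2.2.1, signs.2.2.2.2.2.1]
    rw [mul_comm (D.ε a), mul_inv_cancel_right, mul_comm (D.ε b), mul_inv_cancel_right]
    rfl
  have hsum := Finset.card_eq_sum_card_fiberwise hmaps
  have hfib : ∀ u ∈ I, (S.filter fun p => pairInvol p.1 p.2 = u).card = 21 := fun u hu => by
    rw [← D.pair_count, pairSet_card_conj g t (Finset.mem_filter.1 hu).2, Nat.card_coe_set_eq,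
      ← Set.ncard_coe_finset]
    congr 1
    ext p
    simp only [hS, PairSet, Finset.coe_filter, Finset.mem_filter, Finset.mem_univ, true_and, Set.mem_ofPred_eq,
      and_assoc]
  rw [Finset.sum_congr rfl hfib, Finset.sum_const, smul_eq_mul] at hsum
  have hScard : S.card = Nat.card {x // IsConj g x} * Nat.card {x // IsConj t x} := by
    rw [Nat.card_eq_fintype_card, Nat.card_eq_fintype_card, Fintype.card_subtype, Fintype.card_subtype,
      ← Finset.card_product]
    congr 1
    ext p
    simp [hS]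
  have hIcard : I.card = Nat.card {x // IsConj c x} := by
    rw [Nat.card_eq_fintype_card, Fintype.card_subtype]
  have e1 := card_class_mul g
  have e2 := card_class_mul t
  have e3 := card_class_mul c
  rw [hCg] at e1
  rw [ht, D.card_cent_t, ← ht] at e2
  rw [hCc] at e3
  have key : Nat.card Y * (Nat.card Y) = Nat.card Y * 5040 :=
    calc Nat.card Y * Nat.card Y = Nat.card {x // IsConj g x} * 48 * (Nat.card {x // IsConj t x} * 240) := by
          rw [e1, e2]
      _ = Nat.card {x // IsConj g x} * Nat.card {x // IsConj t x} * 11520 := by ring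
      _ = S.card * 11520 := by rw [hScard]
      _ = I.card * 48 * 5040 := by rw [hsum]; ring
      _ = Nat.card Y * 5040 := by rw [hIcard, e3]
  exact Nat.eq_of_mul_eq_mul_left Nat.card_pos key

/-- Every element is a permutation. -/
theorem surj : Function.Surjective D.ι := by
  classical
  haveI := Fintype.ofFinite Y
  refine ((Fintype.bijective_iff_injective_and_card D.ι).2 ⟨D.inj, ?_⟩).surjective
  rw [← Nat.card_eq_fintype_card, ← Nat.card_eq_fintype_card, D.card_Y, Nat.card_perm, Nat.card_fin]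
  rfl

end Hyp7

end Cfsg.Lib.ConwayType.Seven
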