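import Cfsg.Agent.ConwayType.Locals.Seven.Gamma
import Cfsg.Agent.ConwayType.Locals.Seven.RecogCount
import Mathlib.GroupTheory.NoncommPiCoprod

/-!
The centralizer of the element of order seven.
-/

set_option autoImplicit false
set_option synthInstance.maxSize 4096
set_option maxRecDepth 100000
set_option maxHeartbeats 1000000
set_option linter.unusedSectionVars false
set_option linter.style.haveILetI false
set_option Elab.async false

namespace Cfsg.Lib.ConwayType.Seven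

open Subgroup
open Cfsg.Lib.ConwayType.Alt9 (A8 A9 emb)

universe u

variable {G : Type u} [Group G] [Finite G] {z : G}

/-- The image of the transposition, computably. -/
def t9 : A9 := Alt9.el9 (Equiv.swap 4 5 * Equiv.swap 7 8)

theorem t9_facts : t9 = ext7 t7 ∧ (t9 : Equiv.Perm (Fin 9)).support.card = 4 ∧ t9 * t9 = 1 ∧ Alt9.iN = ext7 c7 := by
  refine ⟨ext7_eq (by decide +kernel), by decide +kernel,
    Subtype.ext (Equiv.ext fun i => by revert i; decide +kernel), ext7_eq (by decide +kernel)⟩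

namespace Sev

variable (p : Sev z)

/-- The elements fixing or inverting it. -/
noncomputable def Yp : Subgroup G where
  carrier := {x | x * p.v * x⁻¹ = p.v ∨ x * p.v * x⁻¹ = p.v⁻¹}
  one_mem' := Or.inl (by simp)
  mul_mem' := by
    intro a b ha hb
    have e : a * b * p.v * (a * b)⁻¹ = a * (b * p.v * b⁻¹) * a⁻¹ := by group
    show _ ∨ _
    rw [e]
    rcases hb with h | h <;> rw [h]
    · exact ha
    · rcases ha with h' | h' <;> rw [← _root_.conj_inv, h']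
      · exact Or.inr rfl
      · exact Or.inl (inv_inv _)
  inv_mem' := by
    intro a ha
    show _ ∨ _
    rw [inv_inv]
    rcases ha with h | h
    · exact Or.inl (by nth_rewrite 1 [← h]; group)
    · refine Or.inr (inv_injective ?_)
      rw [inv_inv, show (a⁻¹ * p.v * a)⁻¹ = a⁻¹ * p.v⁻¹ * a by group, ← h]
      group

theorem mem_Yp {x : G} : x ∈ p.Yp ↔ x * p.v * x⁻¹ = p.v ∨ x * p.v * x⁻¹ = p.v⁻¹ := Iff.rfl

theorem ψ_Yp (π : S7) : p.ψ π ∈ p.Yp := by
  rcases Int.units_eq_one_or (Equiv.Perm.sign π) with e | e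
  · exact Or.inl (mul_inv_eq_iff_eq_mul.mpr (p.v_comm π e).symm.eq)
  · exact Or.inr (p.v_odd e)

/-- The cyclic normal subgroup. -/
noncomputable def Vn : Subgroup ↥p.Yp := (zpowers p.v).subgroupOf p.Yp

instance Vn_normal : p.Vn.Normal := ⟨fun n hn g => by
  obtain ⟨j, hj⟩ := mem_zpowers_iff.mp (mem_subgroupOf.mp hn)
  refine mem_subgroupOf.mpr ?_
  show (g : G) * n * (g : G)⁻¹ ∈ zpowers p.v
  rw [← hj, ← conj_zpow]
  rcases g.2 with h | h <;> rw [h]
  · exact zpow_mem (mem_zpowers _) _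
  · exact zpow_mem (inv_mem (mem_zpowers _)) _⟩

theorem mem_Vn {x : ↥p.Yp} : x ∈ p.Vn ↔ ∃ j : ℕ, p.v ^ j = (x : G) := by
  rw [Vn, mem_subgroupOf, ← mem_powers_iff_mem_zpowers, Submonoid.mem_powers_iff]

/-- The sign of the action. -/
noncomputable def inv7 : ↥p.Yp →* ℤˣ := by
  classical
  exact MonoidHom.mk' (fun x => if (x : G) * p.v * (x : G)⁻¹ = p.v then 1 else -1) fun a b => by
    have hne := p.v_ne_inv
    have e : ((a * b : ↥p.Yp) : G) * p.v * ((a * b : ↥p.Yp) : G)⁻¹ = (a : G) * ((b : G) * p.v * (b : G)⁻¹) * (a : G)⁻¹ := by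
      simp [mul_assoc]
    simp only [e]
    rcases a.2 with ha | ha <;> rcases b.2 with hb | hb <;>
      simp [ha, hb, ← _root_.conj_inv, hne]

theorem inv7_eq {x : ↥p.Yp} : p.inv7 x = 1 ↔ Commute (x : G) p.v := by
  classical
  show (if (x : G) * p.v * (x : G)⁻¹ = p.v then (1 : ℤˣ) else -1) = 1 ↔ _
  split_ifs with h
  · exact iff_of_true rfl (mul_inv_eq_iff_eq_mul.mp h)
  · exact iff_of_false (by decide) fun hc => h (mul_inv_eq_iff_eq_mul.mpr hc.eq)

theorem ψ_pow {π : S7} {j : ℕ} (h : p.ψ π = p.v ^ j) : π = 1 := by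
  have hc : ∀ ρ : S7, Equiv.Perm.sign ρ = 1 → Commute (ext7 π) (ext7 ρ) := fun ρ hρ => p.φ_inj (by
    rw [map_mul, map_mul]
    show p.ψ π * p.ψ ρ = p.ψ ρ * p.ψ π
    rw [h]
    exact ((p.v_comm ρ hρ).pow_left j).eq)
  exact ext7_inj ((cent_alt7 hc).trans (map_one _).symm)

theorem pow_mod7 {i j : ℕ} (h : i % 7 = j % 7) : p.v ^ i = p.v ^ j := by
  rw [← pow_mod_orderOf p.v i, ← pow_mod_orderOf p.v j, p.v_order, h]

/-- Shifting by a power of the element of order seven. -/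
theorem g_shift {π : S7} (hs : Equiv.Perm.sign π = -1) (i : ℕ) :
    p.v ^ i * p.ψ π * (p.v ^ i)⁻¹ = p.v ^ (i + i) * p.ψ π := by
  have h : p.ψ π * (p.v ^ i)⁻¹ * (p.ψ π)⁻¹ = p.v ^ i := by
    rw [← inv_pow, ← conj_pow, ← _root_.conj_inv, p.v_odd hs, inv_inv]
  rw [pow_add, mul_assoc, mul_inv_eq_iff_eq_mul.mp h, mul_assoc]

/-- The hypotheses of the recognition. -/
theorem exists_hyp : ∃ H : Hyp7 (↥p.Yp ⧸ p.Vn), ∀ π, H.ι π = QuotientGroup.mk ⟨p.ψ π, p.ψ_Yp π⟩ := by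
  classical
  let ι : S7 →* ↥p.Yp ⧸ p.Vn := (QuotientGroup.mk' p.Vn).comp (p.ψ.codRestrict p.Yp p.ψ_Yp)
  let ε : ↥p.Yp ⧸ p.Vn →* ℤˣ := QuotientGroup.lift p.Vn p.inv7 fun x hx => by
    obtain ⟨j, hj⟩ := p.mem_Vn.mp hx
    rw [MonoidHom.mem_ker, p.inv7_eq, ← hj]
    exact (Commute.refl p.v).pow_left j
  have hinj : Function.Injective ι := (injective_iff_map_eq_one ι).mpr fun π hπ => by
    obtain ⟨j, hj⟩ := p.mem_Vn.mp ((QuotientGroup.eq_one_iff _).mp hπ)
    exact p.ψ_pow hj.symm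
  have hsgn : ∀ π, ε (ι π) = Equiv.Perm.sign π := fun π => by
    show p.inv7 ⟨p.ψ π, p.ψ_Yp π⟩ = _
    rcases Int.units_eq_one_or (Equiv.Perm.sign π) with e | e <;> rw [e]
    · rw [p.inv7_eq]; exact (p.v_comm π e).symm
    · refine (Int.units_eq_one_or _).resolve_left fun h => ?_
      rw [p.inv7_eq] at h
      rw [p.even_of_comm h] at e
      exact absurd e (by decide)
  have hlift : ∀ (x : ↥p.Yp) (π : S7), Commute (QuotientGroup.mk x : ↥p.Yp ⧸ p.Vn) (ι π) →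
      ∃ j : ℕ, (x : G) * p.ψ π * (x : G)⁻¹ = p.v ^ j * p.ψ π := by
    intro x π h
    have e : x * ⟨p.ψ π, p.ψ_Yp π⟩ * x⁻¹ * (⟨p.ψ π, p.ψ_Yp π⟩ : ↥p.Yp)⁻¹ ∈ p.Vn := by
      rw [← QuotientGroup.eq_one_iff, QuotientGroup.mk_mul, QuotientGroup.mk_mul, QuotientGroup.mk_mul,
        QuotientGroup.mk_inv, QuotientGroup.mk_inv, mul_inv_eq_one, mul_inv_eq_iff_eq_mul]
      exact h.eq
    obtain ⟨j, hj⟩ := p.mem_Vn.mp e
    refine ⟨j, ?_⟩
    rw [hj]
    simp [mul_assoc]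
  refine ⟨⟨ι, hinj, ε, hsgn, ?_, ?_, ?_⟩, fun π => rfl⟩
  · intro y hy hc
    obtain ⟨x, rfl⟩ := QuotientGroup.mk_surjective y
    have hxv : Commute (x : G) p.v := p.inv7_eq.mp hy
    obtain ⟨j, hj⟩ := hlift x g7 hc
    have hv : p.v ∈ p.Yp := Or.inl (mul_inv_cancel_right _ _)
    obtain ⟨π, -, hπ⟩ := p.Kg_eq ((x : G) * p.v ^ (3 * j)) (by
      refine mul_inv_eq_iff_eq_mul.mp ?_
      rw [show (x : G) * p.v ^ (3 * j) * p.ψ g7 * ((x : G) * p.v ^ (3 * j))⁻¹ =
        (x : G) * (p.v ^ (3 * j) * p.ψ g7 * (p.v ^ (3 * j))⁻¹) * (x : G)⁻¹ by group,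
        p.g_shift signs.2.2.2.2.1 (3 * j),
        show (x : G) * (p.v ^ (3 * j + 3 * j) * p.ψ g7) * (x : G)⁻¹ =
          (x : G) * p.v ^ (3 * j + 3 * j) * (x : G)⁻¹ * ((x : G) * p.ψ g7 * (x : G)⁻¹) by group, hj,
        mul_inv_eq_iff_eq_mul.mpr (hxv.pow_right _).eq, ← mul_assoc, ← pow_add,
        p.pow_mod7 (show (3 * j + 3 * j + j) % 7 = 0 % 7 by omega), pow_zero, one_mul])
      (hxv.mul_left ((Commute.refl p.v).pow_left _))
    refine ⟨π, ?_⟩
    refine QuotientGroup.eq.mpr (p.mem_Vn.mpr ⟨3 * j, ?_⟩)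
    show p.v ^ (3 * j) = (x : G)⁻¹ * p.ψ π
    rw [← hπ, inv_mul_cancel_left]
  · intro y hy hc
    obtain ⟨x, rfl⟩ := QuotientGroup.mk_surjective y
    have hxv : Commute (x : G) p.v := p.inv7_eq.mp hy
    obtain ⟨j, hj⟩ := hlift x b7 hc
    obtain ⟨-, ob, hbv⟩ := p.b_spec
    have hj5 : p.v ^ (j * 5) = 1 := by
      have h := congrArg (· ^ 5) hj
      rw [conj_pow, (hbv.symm.pow_left j).mul_pow, ← ob, pow_orderOf_eq_one, mul_one, mul_one, mul_inv_cancel, ob,
        ← pow_mul] at h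
      exact h.symm
    have hj0 : p.v ^ j = 1 := by
      rw [← orderOf_dvd_iff_pow_eq_one, p.v_order] at hj5 ⊢
      exact (Nat.Coprime.dvd_of_dvd_mul_right (by norm_num) hj5)
    rw [hj0, one_mul] at hj
    obtain ⟨i, k, e⟩ := p.cent_b (mul_inv_eq_iff_eq_mul.mp hj) hxv
    refine ⟨b7 ^ i, ?_⟩
    refine QuotientGroup.eq.mpr (p.mem_Vn.mpr ⟨(7 - k % 7) + 0, ?_⟩)
    show p.v ^ (7 - k % 7 + 0) = (x : G)⁻¹ * p.ψ (b7 ^ i)
    rw [e, map_pow, mul_inv_rev, inv_mul_cancel_right, eq_inv_iff_mul_eq_one, ← pow_add,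
      p.pow_mod7 (show (7 - k % 7 + 0 + k) % 7 = 0 % 7 by omega), pow_zero]
  · intro h
    obtain ⟨y, hy⟩ := isConj_iff.mp h
    obtain ⟨x, rfl⟩ := QuotientGroup.mk_surjective y
    have e : x * ⟨p.ψ g7, p.ψ_Yp g7⟩ * x⁻¹ * (⟨p.ψ t7, p.ψ_Yp t7⟩ : ↥p.Yp)⁻¹ ∈ p.Vn := by
      rw [← QuotientGroup.eq_one_iff, QuotientGroup.mk_mul, QuotientGroup.mk_mul, QuotientGroup.mk_mul,
        QuotientGroup.mk_inv, QuotientGroup.mk_inv, mul_inv_eq_one]
      exact hy
    obtain ⟨j, hj⟩ := p.mem_Vn.mp e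
    have hj' : (x : G) * p.ψ g7 * (x : G)⁻¹ = p.v ^ j * p.ψ t7 := by
      rw [hj]; simp [mul_assoc]
    have hst : Equiv.Perm.sign t7 = -1 := signs.2.2.2.2.2.1
    have hgt : IsConj (p.ψ g7) (p.ψ t7) := by
      refine (isConj_iff.mpr ⟨(x : G), hj'⟩ : IsConj (p.ψ g7) (p.v ^ j * p.ψ t7)).trans ?_
      refine (isConj_iff.mpr ⟨p.v ^ (4 * j), ?_⟩ : IsConj (p.ψ t7) (p.v ^ j * p.ψ t7)).symm
      rw [p.g_shift hst, p.pow_mod7 (show (4 * j + 4 * j) % 7 = j % 7 by omega)]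
    obtain ⟨ht, hsup, hsq, hiN⟩ := t9_facts
    have hct : IsConj (p.ψ c7) (p.ψ t7) := by
      show IsConj (p.φ (ext7 c7)) (p.φ (ext7 t7))
      rw [← ht, ← hiN]
      exact p.φ.map_isConj (Alt9.conj_iN hsq hsup)
    obtain ⟨c, hc, -⟩ := p.toNine.exists_move
    exact p.not_plain (((isConj_iff.mpr ⟨c, hc⟩ : IsConj (p.ψ g7) (p.toFr.ev 68)).symm.trans hgt).trans hct.symm)
      (p.v_comm c7 signs.1)

/-- The centralizer is the product of the cyclic group and the alternating group. -/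
theorem centralizer_iso : Nonempty (↥(centralizer ((zpowers p.v : Subgroup G) : Set G)) ≃*
    Multiplicative (ZMod 7) × alternatingGroup (Fin 7)) := by
  classical
  haveI : Fact (Nat.Prime 7) := ⟨by norm_num⟩
  obtain ⟨H, hH⟩ := p.exists_hyp
  let e1 : Multiplicative (ZMod 7) ≃* ↥(zpowers p.v) := mulEquivOfCyclicCardEq (by
    rw [Nat.card_zpowers, p.v_order, Nat.card_congr Multiplicative.toAdd, Nat.card_zmod])
  let F : Multiplicative (ZMod 7) × alternatingGroup (Fin 7) →* G :=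
    MonoidHom.noncommCoprod ((zpowers p.v).subtype.comp e1.toMonoidHom) (p.ψ.comp (alternatingGroup (Fin 7)).subtype)
      fun a π => by
        obtain ⟨j, hj⟩ := mem_zpowers_iff.mp (e1 a).2
        show Commute ((e1 a : ↥(zpowers p.v)) : G) (p.ψ (π : S7))
        rw [← hj]
        exact (p.v_comm _ (Equiv.Perm.mem_alternatingGroup.mp π.2)).zpow_left j
  have mem : ∀ {x : G}, x ∈ centralizer ((zpowers p.v : Subgroup G) : Set G) ↔ Commute x p.v := fun {x} => by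
    constructor
    · exact fun h => (mem_centralizer_iff.mp h p.v (mem_zpowers _)).symm
    · intro h
      refine mem_centralizer_iff.mpr fun y hy => ?_
      obtain ⟨j, rfl⟩ := mem_zpowers_iff.mp hy
      exact (h.zpow_right j).eq.symm
  have Finj : Function.Injective F := by
    refine (injective_iff_map_eq_one F).mpr ?_
    rintro ⟨a, π⟩ h
    rw [MonoidHom.noncommCoprod_apply] at h
    obtain ⟨j, hj⟩ := (Submonoid.mem_powers_iff _ _).mp (mem_powers_iff_mem_zpowers.mpr (inv_mem (e1 a).2))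
    have hπ : p.ψ (π : S7) = p.v ^ j := by
      rw [hj]
      exact eq_inv_of_mul_eq_one_right h
    have hπ1 : π = 1 := Subtype.ext (p.ψ_pow hπ)
    subst hπ1
    rw [map_one, mul_one] at h
    exact Prod.ext (e1.injective ((Subtype.ext h).trans (map_one e1).symm)) rfl
  have Frange : F.range = centralizer ((zpowers p.v : Subgroup G) : Set G) := by
    refine le_antisymm ?_ fun x hx => ?_
    · rintro _ ⟨⟨a, π⟩, rfl⟩
      rw [MonoidHom.noncommCoprod_apply]
      refine mem.mpr (Commute.mul_left ?_ (p.v_comm _ (Equiv.Perm.mem_alternatingGroup.mp π.2)).symm)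
      obtain ⟨j, hj⟩ := mem_zpowers_iff.mp (e1 a).2
      show Commute ((e1 a : ↥(zpowers p.v)) : G) p.v
      rw [← hj]
      exact (Commute.refl p.v).zpow_left j
    · have hxv := mem.mp hx
      have hxY : x ∈ p.Yp := Or.inl (mul_inv_eq_iff_eq_mul.mpr hxv.eq)
      obtain ⟨π, hπ⟩ := H.surj (QuotientGroup.mk ⟨x, hxY⟩)
      rw [hH] at hπ
      obtain ⟨j, hj⟩ := p.mem_Vn.mp (QuotientGroup.eq.mp hπ)
      have hx' : x = p.ψ π * p.v ^ j := by
        rw [hj]
        show x = p.ψ π * ((p.ψ π)⁻¹ * x)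
        rw [mul_inv_cancel_left]
      have hψ : Commute (p.ψ π) p.v := by
        have := hxv.mul_left (((Commute.refl p.v).pow_left j).inv_left)
        rwa [hx', mul_inv_cancel_right] at this
      have hs := p.even_of_comm hψ
      refine ⟨(e1.symm ⟨p.v ^ j, pow_mem (mem_zpowers _) j⟩, ⟨π, Equiv.Perm.mem_alternatingGroup.mpr hs⟩), ?_⟩
      rw [MonoidHom.noncommCoprod_apply, hx']
      show ((e1 (e1.symm _) : ↥(zpowers p.v)) : G) * p.ψ π = _
      rw [e1.apply_symm_apply]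
      exact ((p.v_comm π hs).pow_left j).eq
  exact ⟨((MonoidHom.ofInjective Finj).trans (MulEquiv.subgroupCongr Frange)).symm⟩

end Sev

end Cfsg.Lib.ConwayType.Seven

namespace Cfsg.Lib.ConwayType.Fr

variable {G : Type*} [Group G] [Finite G] {z : G}

/-- A subgroup of order seven with centralizer the product of cyclic and alternating groups. -/
theorem exists_seven (p : Fr z) : ∃ V : Subgroup G, Nat.card V = 7 ∧
    Nonempty (↥(Subgroup.centralizer (V : Set G)) ≃* Multiplicative (ZMod 7) × alternatingGroup (Fin 7)) := by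
  obtain ⟨q⟩ := Seven.exists_sev p
  exact ⟨Subgroup.zpowers q.v, by rw [Nat.card_zpowers, q.v_order], q.centralizer_iso⟩

end Cfsg.Lib.ConwayType.Fr
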