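import Cfsg.Agent.ConwayType.Locals.Seven.FourData
import Cfsg.Agent.ConwayType.Locals.Three.List

/-!
A subgroup of the centralizer of a dodecad commuting with the four-group and meeting the code trivially is small.
-/

set_option autoImplicit false
set_option maxRecDepth 100000
set_option maxHeartbeats 1000000
set_option linter.unusedSectionVars false
set_option linter.style.haveILetI false
set_option Elab.async false

namespace Cfsg.Lib.ConwayType

open Subgroup Cfsg.Lib.Golay Cfsg.Lib.ConwayType.Local Cfsg.Lib.ConwayType.Dod Cfsg.Lib.ConwayType.Seven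

universe u

variable {G : Type u} [Group G] [Finite G] {z : G}

namespace Fr

variable (p : Fr z)

/-- The matrix of such an element is in the list. -/
theorem four_list {W' U1 U2 : G} (hW : p.Maps W' Tri.mW68) (hWM : W' ∈ p.Mt) (hU : p.Maps U1 mU1)
    (hV : p.Maps U2 mU2) (cU : Commute W' U1) (cV : Commute W' U2) {m : G} (hm : m ∈ p.Mt)
    (mU : Commute m U1) (mV : Commute m U2) : ∃ M ∈ cFour, p.Maps m M := by
  obtain ⟨hpre, hmat, h68, h1, hinv, -, -, -, hb, -⟩ := Seven.move_ok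
  obtain ⟨hfilter, o254, a28, a226, a254, u254, v254⟩ := fixed_four
  obtain ⟨bR, lR⟩ := hb mMove4 (by simp)
  obtain ⟨bU, lU⟩ := hb mU1 (by simp)
  obtain ⟨bV, lV⟩ := hb mU2 (by simp)
  obtain ⟨bW, lW⟩ := hb Tri.mW68 (by simp)
  -- the image of 254
  obtain ⟨y, hy, e⟩ := p.coord_conj hm.1 (x := 254) (by norm_num)
  have fixes : ∀ (U : G) (M : List ℕ), p.Maps U M → M.all (fun y => decide (y < 2048)) = true →
      lap M 254 = 254 → Commute m U → lap M y = y := fun U M hM hlt h254 hc => by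
    have hU254 : Commute U (p.ev 254) := mul_inv_eq_iff_eq_mul.mp ((hM.ev 254).trans (congrArg p.ev h254))
    have : Commute U (p.ev y) := e ▸ (hc.symm.mul_right hU254).mul_right hc.symm.inv_right
    have h := hM.ev (x := y)
    rw [this.eq, mul_inv_cancel_right] at h
    exact (p.ev_inj hy (lap_lt hlt y) h).symm
  have hfour : oFour y = true := by
    simp only [oFour, Bool.and_eq_true, decide_eq_true_eq, Bool.not_eq_true'] at o254 ⊢
    refine ⟨⟨hy, (p.class_conj (by norm_num) hy e) ▸ o254.1.2⟩, ?_⟩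
    rw [← p.class_conj (n := m) (x := 254 ^^^ 68) (by decide) (Nat.xor_lt_two_pow (n := 11) hy (by norm_num)) (by
      rw [p.ev_xor, p.ev_xor, show m * (p.ev 254 * p.ev 68) * m⁻¹ = m * p.ev 254 * m⁻¹ * (m * p.ev 68 * m⁻¹) by group,
        e, (p.mem_Ht.mp hm.2).eq, mul_inv_cancel_right])]
    exact o254.2
  have hyl : y ∈ ([28, 226, 254] : List ℕ) := by
    rw [← hfilter, List.mem_filter]
    refine ⟨List.mem_range.mpr hy, ?_⟩
    simp only [Bool.and_eq_true, beq_iff_eq]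
    exact ⟨⟨fixes U1 mU1 hU bU u254 mU, fixes U2 mU2 hV bV v254 mV⟩, hfour⟩
  obtain ⟨P, hP, Pn, hPn, mP, eP, cPU, cPV⟩ : ∃ P ∈ [idM, Tri.mW68, comp Tri.mW68 Tri.mW68], ∃ Pn ∈ p.Mt,
      p.Maps Pn P ∧ Pn * p.ev 254 * Pn⁻¹ = p.ev y ∧ Commute Pn U1 ∧ Commute Pn U2 := by
    simp only [List.mem_cons, List.not_mem_nil, or_false] at hyl
    rcases hyl with rfl | rfl | rfl
    · exact ⟨_, by simp, W', hWM, hW, by rw [hW.ev, a254], cU, cV⟩
    · refine ⟨_, by simp, W' * W', mul_mem hWM hWM, hW.mul hW lW, ?_, cU.mul_left cU, cV.mul_left cV⟩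
      rw [show W' * W' * p.ev 254 * (W' * W')⁻¹ = W' * (W' * p.ev 254 * W'⁻¹) * W'⁻¹ by group, hW.ev, a254, hW.ev, a28]
    · exact ⟨_, by simp, 1, one_mem _, p.maps_one, by simp, Commute.one_left _, Commute.one_left _⟩
  -- the transporting element
  obtain ⟨R, hRn, hR⟩ := p.maps_pp hpre
  rw [hmat] at hR
  have hRM : R ∈ p.Mt := ⟨hRn, p.mem_Ht.mpr (mul_inv_eq_iff_eq_mul.mp ((hR.ev 68).trans (congrArg p.ev h68)))⟩
  have hR1 : R * p.ev 1 * R⁻¹ = p.ev 254 := by rw [hR.ev, h1]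
  have hRi : p.Maps R⁻¹ mMove4 := fun i hi => by
    have h := hR.ev (x := mMove4.getD i 0)
    rw [hinv i hi, p.ev_bit hi] at h
    rw [← h]; group
  obtain ⟨r, hr⟩ : ∃ r, r = R⁻¹ * (Pn⁻¹ * m) * R := ⟨_, rfl⟩
  have hrM : r ∈ p.Mt ⊓ centralizer ({p.ev 1} : Set G) := by
    refine Subgroup.mem_inf.mpr ⟨hr ▸ mul_mem (mul_mem (inv_mem hRM) (mul_mem (inv_mem hPn) hm)) hRM,
      mem_centralizer_singleton_iff.mpr (mul_inv_eq_iff_eq_mul.mp ?_)⟩
    rw [hr, show R⁻¹ * (Pn⁻¹ * m) * R * p.ev 1 * (R⁻¹ * (Pn⁻¹ * m) * R)⁻¹ =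
      R⁻¹ * (Pn⁻¹ * (m * (R * p.ev 1 * R⁻¹) * m⁻¹) * Pn) * R by group, hR1, e, ← eP,
      show R⁻¹ * (Pn⁻¹ * (Pn * p.ev 254 * Pn⁻¹) * Pn) * R = R⁻¹ * p.ev 254 * R by group, ← hR1]
    group
  obtain ⟨j, hj, hJ⟩ := p.four_table.1 r hrM
  have brow : (row lFour j).all (fun y => decide (y < 2048)) = true :=
    List.all_eq_true.mp rows_lt j (List.mem_range.mpr hj)
  have lcomp : ∀ {A B : List ℕ}, B.length = 11 → (comp A B).length = 11 := fun {A B} h => by simp [comp, h]
  have back : ∀ (U : G) (M : List ℕ), p.Maps U M → M.length = 11 → M.all (fun y => decide (y < 2048)) = true →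
      Commute m U → Commute Pn U →
      comp (row lFour j) (comp mMove4 (comp M mMove4)) = comp (comp mMove4 (comp M mMove4)) (row lFour j) := by
    intro U M hM lM bM c1 c2
    have hc : Commute r (R⁻¹ * U * R) := by
      have := (Commute.conj_iff R⁻¹).mpr (c2.inv_left.mul_left c1)
      rw [inv_inv] at this
      exact hr ▸ this
    have hUR : p.Maps (R⁻¹ * U * R) (comp mMove4 (comp M mMove4)) := by
      rw [mul_assoc]
      exact hRi.mul (hM.mul hR lR) (lcomp lR)
    exact (hJ.mul hUR (lcomp (lcomp lR))).congr (B := comp (comp mMove4 (comp M mMove4)) (row lFour j))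
      (by rw [hc.eq]; exact hUR.mul hJ (row_length _ _)) (lcomp (lcomp (lcomp lR)))
      (lcomp (row_length _ _)) (comp_lt brow _) (comp_lt (comp_lt bR _) _)
  have hjr : j ∈ rowsFour := by
    refine List.mem_filter.mpr ⟨List.mem_range.mpr hj, ?_⟩
    simp only [backFour, List.all_cons, List.all_nil, Bool.and_true, Bool.and_eq_true, beq_iff_eq]
    exact ⟨back U1 mU1 hU lU bU mU cPU, back U2 mU2 hV lV bV mV cPV⟩
  refine ⟨comp P (comp mMove4 (comp (row lFour j) mMove4)),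
    List.mem_flatMap.mpr ⟨P, hP, List.mem_map.mpr ⟨j, hjr, rfl⟩⟩, ?_⟩
  have hmm : m = Pn * (R * (r * R⁻¹)) := by rw [hr]; group
  rw [hmm]
  exact mP.mul (hR.mul (hJ.mul hRi lR) (lcomp lR)) (lcomp (lcomp lR))

/-- Such a subgroup has at most twenty-four elements. -/
theorem four_bound {W' U1 U2 : G} (hW : p.Maps W' Tri.mW68) (hWM : W' ∈ p.Mt) (hU : p.Maps U1 mU1)
    (hV : p.Maps U2 mU2) (cU : Commute W' U1) (cV : Commute W' U2) (D : Subgroup G) (hD : D ≤ p.Mt)
    (hc : ∀ m ∈ D, Commute m U1 ∧ Commute m U2) (hA : ∀ m ∈ D, m ∈ p.Ag → m = 1) : Nat.card ↥D ≤ 24 := by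
  classical
  choose f hf hfm using fun m : ↥D => p.four_list hW hWM hU hV cU cV (hD m.2) (hc m m.2).1 (hc m m.2).2
  have hinj : Function.Injective (fun m : ↥D => (⟨f m, List.mem_toFinset.mpr (hf m)⟩ : ↥cFour.toFinset)) := by
    intro a b h
    have he : f a = f b := congrArg Subtype.val h
    have := p.same_action (hfm a) (hfm b) fun i _ => by rw [he]
    exact Subtype.ext (inv_mul_eq_one.mp (hA _ (mul_mem (inv_mem b.2) a.2) this)).symm
  refine (Nat.card_le_card_of_injective _ hinj).trans ?_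
  rw [Nat.card_eq_finsetCard]
  refine (List.toFinset_card_le _).trans ?_
  simp [cFour, rows_count]

end Fr

end Cfsg.Lib.ConwayType
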