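import Cfsg.Agent.ConwayType.Locals.TriCheck
import Cfsg.Agent.ConwayType.Locals.Table

/-!
The matrices commuting with a four-group inside the centralizer of a dodecad.
-/

set_option autoImplicit false
set_option maxRecDepth 100000
set_option maxHeartbeats 1000000
set_option Elab.async false

namespace Cfsg.Lib.ConwayType.Seven

open Cfsg.Lib.Golay Cfsg.Lib.ConwayType.Dod Cfsg.Lib.ConwayType.Local Cfsg.Lib.ConwayType.Tri
open Cfsg.Lib.PermCert (PP)

/-- An element fixing 68 and exchanging 1 and 254. -/
def gMove : PP := (4208698397104217258069757656184912358599366123384541696148691317659735172217567660279092272717685337966812659716, 4208698397104217258069757656184912358599366123384541696148691317659735172217567660279092272717685337966812659716)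

/-- Its matrix. -/
def mMove4 : List ℕ := [254, 225, 1485, 859, 1674, 1722, 1417, 975, 1090, 1037, 1128]

/-- The first involution of the four-group. -/
def mU1 : List ℕ := [29, 224, 1017, 1297, 1780, 1664, 957, 1343, 603, 421, 1210]

/-- The second involution of the four-group. -/
def mU2 : List ℕ := [29, 224, 772, 1292, 1556, 1632, 832, 1314, 766, 510, 1278]

/-- The action of the first involution on the fixed coordinates. -/
def line1 : Fin 8 → Fin 8 := ![0, 1, 2, 3, 5, 4, 7, 6]

/-- The action of the second involution on the fixed coordinates. -/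
def line2 : Fin 8 → Fin 8 := ![0, 1, 3, 2, 5, 4, 6, 7]

/-- The matrices with the given action on the fixed coordinates and on the four-group. -/
def pickFour (L : Fin 8 → Fin 8) : List (List ℕ) :=
  cTri.filter fun M => lap M (lap mN 1) == lap mN 1 && lap M (lap mN 2) == lap mN 2 &&
    (List.finRange 8).all fun i => lap M (lap mN (atPt i)) == lap mN (atPt (L i))

theorem pick_ok : pickFour line1 = [mU1] ∧ pickFour line2 = [mU2] := by decide +kernel

theorem move_ok : preserves gMove = true ∧ matOf gMove = mMove4 ∧ lap mMove4 68 = 68 ∧ lap mMove4 1 = 254 ∧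
    (∀ i < 11, lap mMove4 (mMove4.getD i 0) = 2 ^ i) ∧ mMove4.length = 11 ∧ mU1.length = 11 ∧ mU2.length = 11 ∧
    (∀ M ∈ [mMove4, mU1, mU2, mW68, comp mW68 mW68, idM], M.all (fun y => decide (y < 2048)) = true ∧ M.length = 11) ∧
    lap mN 1 = 254 := by
  decide +kernel

theorem fixed_four : ((List.range 2048).filter fun y => lap mU1 y == y && lap mU2 y == y && oFour y) = [28, 226, 254] ∧
    oFour 254 = true ∧ lap mW68 28 = 226 ∧ lap mW68 226 = 254 ∧ lap mW68 254 = 28 ∧
    lap mU1 254 = 254 ∧ lap mU2 254 = 254 := by decide +kernel

/-- The two matrices seen from 1. -/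
def backFour : List (List ℕ) := [comp mMove4 (comp mU1 mMove4), comp mMove4 (comp mU2 mMove4)]

/-- The matrices fixing 1 and commuting with the two. -/
def rowsFour : List ℕ :=
  (List.range 384).filter fun j => backFour.all fun M => comp (row lFour j) M == comp M (row lFour j)

/-- The matrices commuting with the four-group. -/
def cFour : List (List ℕ) :=
  [idM, mW68, comp mW68 mW68].flatMap fun P => rowsFour.map fun j => comp P (comp mMove4 (comp (row lFour j) mMove4))

theorem rows_count : rowsFour.length = 8 := by decide +kernel

end Cfsg.Lib.ConwayType.Seven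

namespace Cfsg.Lib.ConwayType.Seven

open Cfsg.Lib.Golay Cfsg.Lib.ConwayType.Dod Cfsg.Lib.ConwayType.Local Cfsg.Lib.ConwayType.Tri

theorem rows_lt : ((List.range 384).all fun j => (row lFour j).all fun y => decide (y < 2048)) = true := by
  decide +kernel

end Cfsg.Lib.ConwayType.Seven
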