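import Cfsg.Agent.InvolCalc.DihedralEightCentralizer
import Cfsg.Agent.InvolCalc.FoursCent.Small
import Cfsg.Agent.LocalThree.HallJankoType.OrderFormula

/-!
Groups with an involution whose centralizer is dihedral of order eight and a permuted four-group.
-/

set_option autoImplicit false
set_option linter.unusedSectionVars false
set_option linter.style.haveILetI false

namespace Cfsg.Lib.ConwayType.Seven

open Subgroup

universe u

/-- The orders of such groups. -/
theorem dihedral_card {H : Type u} [Group H] [Finite H] {c r u π : H} (hc : orderOf c = 2) (hr : r * r = c)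
    (hu : orderOf u = 2) (huc : u * c = c * u) (hne : u ≠ c) (hur : u * r * u = r⁻¹)
    (hC : Nat.card (centralizer ({c} : Set H)) = 8) (h3 : π * π * π = 1)
    (h1 : π * c * π⁻¹ = u) (h2 : π * u * π⁻¹ = c * u) :
    Nat.card H = 24 ∨ Nat.card H = 120 ∨ ((Nat.card H = 168 ∨ Nat.card H = 360) ∧ IsSimpleGroup H) := by
  classical
  haveI : Fact (Nat.Prime 2) := ⟨Nat.prime_two⟩
  have cc : c * c = 1 := by rw [← pow_two, ← hc, pow_orderOf_eq_one]
  have uu : u * u = 1 := by rw [← pow_two, ← hu, pow_orderOf_eq_one]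
  have c1 : c ≠ 1 := fun e => by rw [e, orderOf_one] at hc; omega
  have u1 : u ≠ 1 := fun e => by rw [e, orderOf_one] at hu; omega
  have r4 : orderOf r = 4 := by
    refine orderOf_eq_prime_pow (p := 2) (n := 1) ?_ ?_
    · rw [pow_one, pow_two, hr]; exact c1
    · rw [show (2 : ℕ) ^ (1 + 1) = 2 * 2 from rfl, pow_mul, pow_two, pow_two, hr, cc]
  set C := centralizer ({c} : Set H) with hCdef
  have mC : ∀ {x : H}, x ∈ C ↔ x * c = c * x := fun {x} => mem_centralizer_singleton_iff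
  have rC : r ∈ C := mC.2 (by rw [← hr]; group)
  have uC : u ∈ C := mC.2 huc
  have hu_nz : u ∉ zpowers r := fun h => by
    obtain ⟨i, hi⟩ := mem_zpowers_iff.1 h
    have hc' : u * r * u = r := by
      rw [(hi ▸ (Commute.refl r).zpow_left i : Commute u r).eq, mul_assoc, uu, mul_one]
    rw [hur] at hc'
    have : r * r = 1 := by nth_rewrite 1 [← hc']; exact inv_mul_cancel r
    exact c1 (hr.symm.trans this)
  have hcases : ∀ x ∈ C, x ∈ zpowers r ∨ u * x ∈ zpowers r := by
    intro x hx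
    let R := (zpowers r).subgroupOf C
    have hR : R.index = 2 := by
      have h := R.card_mul_index
      rw [hC, Nat.card_congr (subgroupOfEquivOfLe (zpowers_le.2 rC)).toEquiv, Nat.card_zpowers, r4] at h
      omega
    by_cases hm : x ∈ zpowers r
    · exact Or.inl hm
    · refine Or.inr ?_
      have := (mul_mem_iff_of_index_two hR (a := ⟨u, uC⟩) (b := ⟨x, hx⟩))
      simp only [R, mem_subgroupOf, Subgroup.coe_mul] at this
      exact this.2 ⟨fun h => absurd h hu_nz, fun h => absurd h hm⟩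
  have hZ : ∀ x ∈ C, x * r = r * x → x * u = u * x → x = 1 ∨ x = c := by
    intro x hx hxr hxu
    rcases hcases x hx with h | h
    · obtain ⟨i, rfl⟩ := mem_zpowers_iff.1 h
      have hinv : u * r ^ i * u = (r ^ i)⁻¹ := by
        have hu' : u⁻¹ = u := inv_eq_of_mul_eq_one_right uu
        rw [← inv_zpow, ← hur]
        nth_rewrite 2 [← hu']
        nth_rewrite 4 [← hu']
        exact (conj_zpow).symm
      rw [← hxu, mul_assoc, uu, mul_one] at hinv
      have hz2 : r ^ i * r ^ i = 1 := by nth_rewrite 1 [hinv]; exact inv_mul_cancel _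
      rw [← zpow_add, ← orderOf_dvd_iff_zpow_eq_one, r4] at hz2
      rw [← zpow_mod_orderOf, r4]
      have : i % 4 = 0 ∨ i % 4 = 2 := by push_cast at hz2; omega
      push_cast
      rcases this with e | e <;> rw [e]
      · exact Or.inl (zpow_zero r)
      · exact Or.inr (by rw [zpow_two, hr])
    · exfalso
      obtain ⟨i, hi⟩ := mem_zpowers_iff.1 h
      have hur' : Commute u r := by
        have e : u = r ^ i * x⁻¹ := by rw [hi, mul_inv_cancel_right]
        rw [e]
        exact ((Commute.refl r).zpow_left i).mul_left (Commute.inv_left hxr)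
      rw [hur'.eq, mul_assoc, uu, mul_one] at hur
      have : r * r = 1 := by nth_rewrite 1 [hur]; exact inv_mul_cancel r
      exact c1 (hr.symm.trans this)
  have hC2 : IsPGroup 2 C := IsPGroup.of_card (n := 3) (by rw [hC]; norm_num)
  obtain ⟨S, hS⟩ := hC2.exists_le_sylow
  have hSC : (S : Subgroup H) = C := by
    refine le_antisymm (fun s hs => ?_) hS
    haveI : Nontrivial (S : Subgroup H) := ⟨⟨⟨c, hS (mC.2 rfl)⟩, 1, fun e => c1 (congrArg Subtype.val e)⟩⟩
    haveI := S.isPGroup'.center_nontrivial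
    obtain ⟨⟨⟨z0, hz0⟩, hzc⟩, hz1⟩ := exists_ne (1 : center (S : Subgroup H))
    have hcomm : ∀ t ∈ (S : Subgroup H), t * z0 = z0 * t := fun t ht =>
      congrArg Subtype.val (mem_center_iff.1 hzc ⟨t, ht⟩)
    have hzC : z0 ∈ C := mC.2 (hcomm c (hS (mC.2 rfl))).symm
    rcases hZ z0 hzC (hcomm r (hS rC)).symm (hcomm u (hS uC)).symm with e | e
    · exact absurd (Subtype.ext (Subtype.ext e)) hz1
    · exact mC.2 (by rw [← e]; exact hcomm s hs)
  by_cases htwo : ∀ K : Subgroup H, K.index ≠ 2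
  · have hS' : Cfsg.Lib.DihedralCent.Setup c r u := ⟨htwo, hc, hC, ⟨S, hSC⟩, hr, hu, huc, hur⟩
    exact Or.inr (Or.inr ⟨Cfsg.Lib.DihedralCent.order_cases hS', Cfsg.Lib.DihedralCent.simple hS'⟩)
  push Not at htwo
  obtain ⟨K, hK⟩ := htwo
  haveI hKn := normal_of_index_eq_two hK
  have sqK : ∀ x : H, x * x ∈ K := fun x => (mul_mem_iff_of_index_two hK).2 Iff.rfl
  have cK : c ∈ K := hr ▸ sqK r
  have uK : u ∈ K := h1 ▸ hKn.conj_mem c cK π
  have πK : π ∈ K := by
    have : π = π * π * (π * π) := by rw [← mul_assoc, h3, one_mul]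
    rw [this]; exact sqK _
  set C0 := centralizer ({(⟨c, cK⟩ : K)} : Set K) with hC0
  have mC0 : ∀ {x : K}, x ∈ C0 ↔ (x : H) * c = c * x := fun {x} => by
    rw [hC0, mem_centralizer_singleton_iff, Subtype.ext_iff]; rfl
  have hmap : C0.map K.subtype = C ⊓ K := by
    ext x
    simp only [mem_map, mem_inf, mC]
    exact ⟨fun ⟨y, hy, e⟩ => e ▸ ⟨mC0.1 hy, y.2⟩, fun h => ⟨⟨x, h.2⟩, mC0.2 h.1, rfl⟩⟩
  have hcard0 : Nat.card C0 = 4 := by
    have e : Nat.card C0 = Nat.card ↥(C ⊓ K) := by rw [← hmap, card_map_of_injective K.subtype_injective]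
    have hd : Nat.card ↥(C ⊓ K) ∣ 8 := hC ▸ card_dvd_of_le inf_le_left
    have hlt : Nat.card ↥(C ⊓ K) ≠ 8 := fun h8 => by
      have heq : C ⊓ K = C := eq_of_le_of_card_ge inf_le_left (le_of_eq (hC.trans h8.symm))
      have hle : C ≤ K := inf_eq_left.1 heq
      have := S.not_dvd_index
      rw [hSC] at this
      exact this (hK ▸ index_dvd_of_le hle)
    have h4 : 4 ≤ Nat.card ↥(C ⊓ K) := by
      let f : Fin 4 → ↥(C ⊓ K) := ![1, ⟨c, mC.2 rfl, cK⟩, ⟨u, uC, uK⟩, ⟨c * u, mul_mem (mC.2 rfl) uC, mul_mem cK uK⟩]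
      have hf : Function.Injective f := by
        have n1 : c * u ≠ 1 := fun e => hne (by rw [← inv_eq_of_mul_eq_one_right e, inv_eq_of_mul_eq_one_right cc])
        have n2 : c * u ≠ c := fun e => u1 (mul_eq_left.1 e)
        have n3 : c * u ≠ u := fun e => c1 (mul_eq_right.1 e)
        intro a b e
        have e' := congrArg Subtype.val e
        fin_cases a <;> fin_cases b <;>
          first
            | rfl
            | (simp [f] at e'; first
                | exact absurd e' c1 | exact absurd e'.symm c1 | exact absurd e' u1 | exact absurd e'.symm u1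
                | exact absurd e' hne | exact absurd e'.symm hne | exact absurd e' n1 | exact absurd e'.symm n1
               )
      simpa using Nat.card_le_card_of_injective f hf
    have hle := Nat.le_of_dvd (by norm_num) hd
    rcases (by omega : Nat.card ↥(C ⊓ K) = 4 ∨ Nat.card ↥(C ⊓ K) = 5 ∨ Nat.card ↥(C ⊓ K) = 6 ∨
      Nat.card ↥(C ⊓ K) = 7) with h | h | h | h
    · exact e.trans h
    all_goals rw [h] at hd; norm_num at hd
  have mem0 : ∀ x ∈ C0, (x : H) = 1 ∨ (x : H) = c ∨ (x : H) = u ∨ (x : H) = c * u := by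
    intro x hx
    have hxu : ∀ y ∈ C0, (y : H) * u = u * y := by
      haveI : Fact (Nat.Prime 2) := ⟨Nat.prime_two⟩
      haveI := IsPGroup.isMulCommutative_of_card_eq_prime_sq (G := C0) (p := 2) (by rw [hcard0]; norm_num)
      intro y hy
      exact congrArg (fun z : C0 => ((z : K) : H)) (mul_comm' (⟨y, hy⟩ : C0) ⟨⟨u, uK⟩, mC0.2 huc⟩)
    have hxC : (x : H) ∈ C := mC.2 (mC0.1 hx)
    rcases hcases _ hxC with h | h
    all_goals obtain ⟨i, hi⟩ := mem_zpowers_iff.1 h
    · have he : x ∈ C0 := hx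
      have hxr : (x : H) * r = r * x := by rw [← hi]; exact ((Commute.refl r).zpow_left i).eq
      rcases hZ _ hxC hxr (hxu x he) with e | e
      exacts [Or.inl e, Or.inr (Or.inl e)]
    · have hxr : (u * x : H) * r = r * (u * x) := by rw [← hi]; exact ((Commute.refl r).zpow_left i).eq
      have hux : (u * x : H) * u = u * (u * x) := by rw [mul_assoc, hxu x hx]
      rcases hZ _ (mul_mem uC hxC) hxr hux with e | e
      · exact Or.inr (Or.inr (Or.inl (by rw [← inv_eq_of_mul_eq_one_right e, inv_eq_of_mul_eq_one_right uu])))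
      · refine Or.inr (Or.inr (Or.inr ?_))
        rw [← huc, ← e, ← mul_assoc, uu, one_mul]
  have hc0 : orderOf (⟨c, cK⟩ : K) = 2 := by rw [Subgroup.orderOf_mk]; exact hc
  have hsq0 : ∀ x ∈ C0, x ^ 2 = 1 := fun x hx => Subtype.ext (by
    rw [SubmonoidClass.coe_pow, OneMemClass.coe_one, pow_two]
    rcases mem0 x hx with e | e | e | e <;> rw [e]
    · exact one_mul 1
    · exact cc
    · exact uu
    · rw [mul_assoc, ← mul_assoc u, huc, mul_assoc c u, uu, mul_one, cc])
  set π0 : K := ⟨π, πK⟩ with hπ0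
  have e1 : π0 * ⟨c, cK⟩ * π0⁻¹ = ⟨u, uK⟩ := Subtype.ext h1
  have e2 : π0 * ⟨u, uK⟩ * π0⁻¹ = ⟨c * u, mul_mem cK uK⟩ := Subtype.ext h2
  have conj0 : ∀ v ∈ C0, v ≠ 1 → IsConj (⟨c, cK⟩ : K) v := by
    intro v hv hv1
    rcases mem0 v hv with e | e | e | e
    · exact absurd (Subtype.ext e) hv1
    · rw [show v = ⟨c, cK⟩ from Subtype.ext e]
    · rw [show v = ⟨u, uK⟩ from Subtype.ext e]; exact isConj_iff.2 ⟨π0, e1⟩
    · rw [show v = ⟨c * u, mul_mem cK uK⟩ from Subtype.ext e]
      exact (isConj_iff.2 ⟨π0, e1⟩ : IsConj (⟨c, cK⟩ : K) ⟨u, uK⟩).trans (isConj_iff.2 ⟨π0, e2⟩)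
  have hC02 : IsPGroup 2 C0 := IsPGroup.of_card (n := 2) (by rw [hcard0]; norm_num)
  obtain ⟨P, hP⟩ := hC02.exists_le_sylow
  have hPC : (P : Subgroup K) = C0 := by
    refine (eq_of_le_of_card_ge hP ?_).symm
    haveI : Nontrivial (P : Subgroup K) :=
      ⟨⟨⟨⟨c, cK⟩, hP (mC0.2 rfl)⟩, 1, fun e => c1 (congrArg (fun y : (P : Subgroup K) => ((y : K) : H)) e)⟩⟩
    haveI := P.isPGroup'.center_nontrivial
    obtain ⟨⟨⟨z0, hz0⟩, hzc⟩, hz1⟩ := exists_ne (1 : center (P : Subgroup K))
    have hcomm : ∀ t ∈ (P : Subgroup K), t * z0 = z0 * t := fun t ht =>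
      congrArg Subtype.val (mem_center_iff.1 hzc ⟨t, ht⟩)
    have hz : z0 ∈ C0 := mC0.2 (congrArg Subtype.val (hcomm (⟨c, cK⟩ : K) (hP (mC0.2 rfl))).symm)
    obtain ⟨g, hg⟩ := isConj_iff.1 (conj0 z0 hz fun e => hz1 (Subtype.ext (Subtype.ext e)))
    calc Nat.card (P : Subgroup K) ≤ Nat.card (centralizer ({z0} : Set K)) :=
          card_le_of_le fun t ht => mem_centralizer_singleton_iff.2 (hcomm t ht)
      _ = Nat.card C0 := by
        rw [← hg]
        exact (Nat.card_congr ((MulAut.conj g).toEquiv.subtypeEquiv fun b => by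
          show b ∈ C0 ↔ g * b * g⁻¹ ∈ centralizer ({g * ⟨c, cK⟩ * g⁻¹} : Set K)
          rw [hC0, mem_centralizer_singleton_iff, mem_centralizer_singleton_iff,
            show g * b * g⁻¹ * (g * ⟨c, cK⟩ * g⁻¹) = g * (b * ⟨c, cK⟩) * g⁻¹ by group,
            show g * ⟨c, cK⟩ * g⁻¹ * (g * b * g⁻¹) = g * (⟨c, cK⟩ * b) * g⁻¹ by group, mul_left_inj,
            mul_right_inj])).symm
  have hKH : Nat.card H = 2 * Nat.card K := by rw [← K.card_mul_index, hK, mul_comm]
  by_cases hE : ∀ E : Subgroup K, E.Normal → Cfsg.IsElementaryAbelian 2 E → Nat.card ↥E ≠ 2 ∧ Nat.card ↥E ≠ 4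
  · have hnc : ¬ Cfsg.HasNormalPComplement 2 K := fun h => by
      obtain ⟨N, hN, hco, k, hk⟩ := Cfsg.Lib.Transfer.hasNormalPComplement_iff.1 h
      haveI := hN
      have mem := Cfsg.Lib.Transfer.mem_iff_coprime_orderOf hco hk
      have hπN : π0 ∈ N := by
        refine (mem π0).2 (Nat.Coprime.coprime_dvd_left (orderOf_dvd_of_pow_eq_one (n := 3) ?_) (by norm_num))
        rw [pow_succ, pow_two]; exact Subtype.ext h3
      have hd : π0 * (⟨c, cK⟩ * π0⁻¹ * ⟨c, cK⟩⁻¹) ∈ N := mul_mem hπN (hN.conj_mem _ (inv_mem hπN) _)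
      rw [← mul_assoc, ← mul_assoc, e1] at hd
      have := (mem _).1 hd
      rw [orderOf_eq_prime (p := 2) (Subtype.ext (show (u * c⁻¹) ^ 2 = 1 by
        rw [inv_eq_of_mul_eq_one_right cc, pow_two, huc, mul_assoc, ← mul_assoc u, huc, mul_assoc c u, uu,
          mul_one, cc])) (fun e => hne (mul_inv_eq_one.1 (congrArg Subtype.val e)))] at this
      norm_num at this
    obtain ⟨e⟩ := Cfsg.FoursCent.small_case (⟨c, cK⟩ : K) hc0 hcard0 hsq0 P hPC hnc hE
    refine Or.inr (Or.inl ?_)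
    rw [hKH, Nat.card_congr e.toEquiv, Nat.card_eq_fintype_card, card_alternatingGroup, Fintype.card_fin]
    rfl
  push Not at hE
  obtain ⟨E, hEn, hEa, hE24⟩ := hE
  haveI := hEn
  have hE2 : IsPGroup 2 E := fun x => ⟨1, Subtype.ext (hEa.2 x x.2)⟩
  have hEC : E ≤ C0 := by
    obtain ⟨Q, hQ⟩ := hE2.exists_le_sylow
    obtain ⟨g, rfl⟩ := MulAction.exists_smul_eq K Q P
    intro x hx
    have := hQ (hEn.conj_mem x hx g⁻¹)
    rw [inv_inv] at this
    rw [← hPC, Sylow.coe_subgroup_smul, mem_pointwise_smul_iff_inv_smul_mem]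
    rw [← map_inv, MulAut.smul_def, MulAut.conj_apply, inv_inv]
    exact this
  obtain ⟨e, he, he1⟩ : ∃ e ∈ E, e ≠ 1 := by
    by_contra! h
    have : E = ⊥ := (eq_bot_iff_forall E).2 h
    rw [this, card_bot] at hE24
    norm_num at hE24
  have hall : ∀ v ∈ C0, v ≠ 1 → v ∈ E := by
    intro v hv hv1
    obtain ⟨g, hg⟩ := isConj_iff.1 ((conj0 e (hEC he) he1).symm.trans (conj0 v hv hv1))
    exact hg ▸ hEn.conj_mem e he g
  have horb : Nat.card {x : K // IsConj (⟨c, cK⟩ : K) x} ≤ 3 := by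
    have hsub : ∀ x : {x : K // IsConj (⟨c, cK⟩ : K) x}, x.1 ∈ C0 ∧ x.1 ≠ 1 := fun x => by
      obtain ⟨g, hg⟩ := isConj_iff.1 x.2
      refine ⟨hEC (hg ▸ hEn.conj_mem _ (hall _ (mC0.2 rfl) fun e => c1 (congrArg Subtype.val e)) g), fun e => ?_⟩
      rw [e, conj_eq_one_iff] at hg
      exact c1 (congrArg Subtype.val hg)
    calc Nat.card {x : K // IsConj (⟨c, cK⟩ : K) x} ≤ Nat.card {y : C0 // y ≠ 1} :=
          Nat.card_le_card_of_injective (fun x => ⟨⟨x.1, (hsub x).1⟩, fun e => (hsub x).2 (congrArg Subtype.val e)⟩)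
            fun a b e => Subtype.ext (congrArg (fun y : {y : C0 // y ≠ 1} => (y.1 : K)) e)
      _ = 3 := by
        haveI := Fintype.ofFinite C0
        rw [Nat.card_eq_fintype_card, Fintype.card_subtype_compl, Fintype.card_subtype_eq,
          ← Nat.card_eq_fintype_card, hcard0]
  have hK12 := Cfsg.Lib.HallJankoType.card_class_mul (⟨c, cK⟩ : K)
  rw [← hC0, hcard0] at hK12
  have h3d : 3 ∣ Nat.card K := by
    have : orderOf π0 = 3 := by
      haveI : Fact (Nat.Prime 3) := ⟨Nat.prime_three⟩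
      refine orderOf_eq_prime (by rw [pow_succ, pow_two]; exact Subtype.ext h3) fun e => hne ?_
      rw [show π = 1 from congrArg Subtype.val e] at h1
      simpa using h1.symm
    exact this ▸ orderOf_dvd_natCard π0
  left
  have := Nat.card_pos (α := K)
  omega

end Cfsg.Lib.ConwayType.Seven
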