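import Cfsg.Agent.ConwayType.Locals.Seven.GammaTwo
import Cfsg.Agent.ConwayType.Locals.Seven.Small

/-!
The centralizer of the outer involution and the element of order seven is the one in the symmetric group.
-/

set_option autoImplicit false
set_option synthInstance.maxSize 4096
set_option maxRecDepth 100000
set_option maxHeartbeats 1000000
set_option linter.unusedSectionVars false
set_option linter.style.haveILetI false
set_option Elab.async false

namespace Cfsg.Lib.ConwayType.Seven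

open Subgroup

universe u

variable {G : Type u} [Group G] [Finite G] {z : G}

theorem g7_even : (g48.filter fun x => decide (Equiv.Perm.sign x = 1)).length = 24 ∧
    ((g48.filter fun x => decide (Equiv.Perm.sign x = 1)).map fun x : S7 => (List.finRange 7).map fun i => x i).Nodup ∧
    commV r7 g7 = true ∧ commV p7 g7 = true ∧ commV u7 g7 = true ∧ commV c7 g7 = true := by decide +kernel

namespace Sev

variable (p : Sev z)

theorem Kc_facts : ∀ x ∈ p.Kc, ∀ r : ℕ, r.Prime → x ^ r = 1 → x ≠ 1 → r = 2 ∨ r = 3 ∨ r = 11 := by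
  intro x hx r hr hxr hx1
  haveI : Fact r.Prime := ⟨hr⟩
  obtain ⟨hg, hv, -⟩ := p.mem_Kc.mp hx
  have hd := orderOf_dvd_natCard (⟨x, mem_centralizer_singleton_iff.mpr hg.eq⟩ : ↥(centralizer ({p.ψ g7} : Set G)))
  rw [Subgroup.orderOf_mk, orderOf_eq_prime hxr hx1, p.toNine.card_cent_g,
    show (2 : ℕ) ^ 11 * 190080 = 2 ^ 18 * (3 ^ 3 * (5 * 11)) by norm_num] at hd
  rcases (Nat.Prime.dvd_mul hr).mp hd with h | h
  · exact Or.inl ((Nat.prime_dvd_prime_iff_eq hr Nat.prime_two).mp (hr.dvd_of_dvd_pow h))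
  rcases (Nat.Prime.dvd_mul hr).mp h with h | h
  · exact Or.inr (Or.inl ((Nat.prime_dvd_prime_iff_eq hr Nat.prime_three).mp (hr.dvd_of_dvd_pow h)))
  rcases (Nat.Prime.dvd_mul hr).mp h with h | h
  · obtain rfl := (Nat.prime_dvd_prime_iff_eq hr (by norm_num : Nat.Prime 5)).mp h
    exact absurd (p.no_five hxr hv hg) hx1
  · exact Or.inr (Or.inr ((Nat.prime_dvd_prime_iff_eq hr (by norm_num : Nat.Prime 11)).mp h))

theorem eight_of_d8 {π : S7} (h : π ∈ d8') : p.ψ π ^ 8 = 1 := by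
  have hall : d8'.all (fun x => sameV (x * x * (x * x) * (x * x * (x * x))) 1) = true := by decide +kernel
  have e := eq_of_sameV (List.all_eq_true.mp hall π h)
  rw [← map_pow, show π ^ 8 = π * π * (π * π) * (π * π * (π * π)) by simp only [pow_succ, pow_zero, one_mul, mul_assoc], e, map_one]

/-- An invariant Sylow subgroup of odd order has a fixed element. -/
theorem odd_prime {r : ℕ} [Fact r.Prime] (h2 : r ≠ 2) (hdvd : r ∣ Nat.card ↥p.Kc)
    (hsyl : ¬ 3 ∣ Nat.card (Sylow r ↥p.Kc))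
    (hfix : ∀ P : Sylow r ↥p.Kc, Nat.card (P : Subgroup ↥p.Kc) % 3 ≠ 1) : False := by
  classical
  let e : ↥p.Kc ≃* ↥p.Kc := { p.rot with
    map_mul' := fun a b => Subtype.ext (by
      show p.w * ((a : G) * b) * p.w⁻¹ = p.w * a * p.w⁻¹ * (p.w * b * p.w⁻¹)
      group) }
  have he : ∀ x, ((e x : ↥p.Kc) : G) = p.w * x * p.w⁻¹ := fun x => rfl
  have he3 : ∀ x, e (e (e x)) = x := fun x => Subtype.ext (p.rot_cube x)
  have hcard : ∀ P : Sylow r ↥p.Kc, ∃ Q : Sylow r ↥p.Kc, (Q : Subgroup ↥p.Kc) = (P : Subgroup ↥p.Kc).map e.toMonoidHom :=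
    fun P => ⟨Sylow.ofCard ((P : Subgroup ↥p.Kc).map e.toMonoidHom)
      (by rw [card_map_of_injective (f := e.toMonoidHom) e.injective, P.card_eq_multiplicity]), rfl⟩
  choose f hf using hcard
  have hf3 : ∀ P, f (f (f P)) = P := fun P => Sylow.ext (by
    rw [hf, hf, hf, Subgroup.map_map, Subgroup.map_map]
    rw [show (e.toMonoidHom.comp e.toMonoidHom).comp e.toMonoidHom = MonoidHom.id ↥p.Kc from MonoidHom.ext he3,
      Subgroup.map_id])
  let σ : Equiv.Perm (Sylow r ↥p.Kc) := ⟨f, fun P => f (f P), hf3, hf3⟩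
  obtain ⟨P, hP⟩ := exists_fixed (p := 3) hsyl (σ := σ) (by rw [pow_succ, pow_two]; exact Equiv.ext hf3)
  have hmem : ∀ x ∈ (P : Subgroup ↥p.Kc), e x ∈ (P : Subgroup ↥p.Kc) := fun x hx => by
    have := congrArg (fun Q : Sylow r ↥p.Kc => (Q : Subgroup ↥p.Kc)) hP
    rw [← this]
    exact (hf P).ge ⟨x, hx, rfl⟩
  let τ : Equiv.Perm ↥(P : Subgroup ↥p.Kc) :=
    ⟨fun x => ⟨e x, hmem x x.2⟩, fun x => ⟨e (e x), hmem _ (hmem x x.2)⟩, fun x => Subtype.ext (he3 x),
      fun x => Subtype.ext (he3 x)⟩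
  have hmod := fixed_mod_three (σ := τ) (by rw [pow_succ, pow_two]; exact Equiv.ext fun x => Subtype.ext (he3 x))
  have hone : Nat.card {a // τ a = a} = 1 := by
    refine Nat.card_eq_one_iff_exists.mpr ⟨⟨1, Subtype.ext (map_one e)⟩, fun ⟨x, hx⟩ => ?_⟩
    obtain ⟨π, hπ, hπx⟩ := p.fixed_d8 (x : ↥p.Kc).2 (congrArg (fun y : ↥(P : Subgroup ↥p.Kc) => ((y : ↥p.Kc) : G)) hx)
    obtain ⟨k, hk⟩ := P.isPGroup' x
    have h8 : x ^ 8 = 1 := Subtype.ext (Subtype.ext (by
      simp only [SubmonoidClass.coe_pow, OneMemClass.coe_one]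
      rw [← hπx]; exact p.eight_of_d8 hπ))
    have := pow_gcd_eq_one.mpr ⟨hk, h8⟩
    rw [Nat.Coprime.gcd_eq_one (Nat.Coprime.pow_left _ ((Nat.coprime_primes Fact.out Nat.prime_two).mpr h2 |>.pow_right 3)),
      pow_one] at this
    exact Subtype.ext this
  rw [hone] at hmod
  exact hfix P hmod.symm

theorem Kc_three : ¬ 3 ∣ Nat.card ↥p.Kc := fun hd => by
  haveI : Fact (Nat.Prime 3) := ⟨Nat.prime_three⟩
  refine p.odd_prime (r := 3) (by norm_num) hd (fun h => ?_) fun P h => ?_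
  · have := card_sylow_modEq_one 3 ↥p.Kc
    rw [Nat.ModEq] at this
    omega
  · obtain ⟨k, hk⟩ := IsPGroup.iff_card.mp P.isPGroup'
    have hpos : 0 < k := Nat.pos_of_ne_zero fun e => by
      have h3 : 3 ∣ Nat.card (P : Subgroup ↥p.Kc) := by
        rw [P.card_eq_multiplicity]
        exact dvd_pow_self 3 (Nat.Prime.factorization_pos_of_dvd Nat.prime_three Nat.card_pos.ne' hd).ne'
      rw [hk, e, pow_zero] at h3
      norm_num at h3
    rw [hk] at h
    have h0 : 3 ∣ 3 ^ k := dvd_pow_self 3 hpos.ne'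
    omega

theorem Kc_two : IsPGroup 2 ↥p.Kc := by
  haveI : Fact (Nat.Prime 2) := ⟨Nat.prime_two⟩
  refine IsPGroup.of_card (n := (Nat.card ↥p.Kc).primeFactorsList.length)
    (Nat.eq_prime_pow_of_unique_prime_dvd Nat.card_pos.ne' fun {r} hr hd => ?_)
  haveI : Fact r.Prime := ⟨hr⟩
  obtain ⟨⟨x, hx⟩, ox⟩ := exists_prime_orderOf_dvd_card' (G := ↥p.Kc) r hd
  rw [Subgroup.orderOf_mk] at ox
  have hx1 : x ≠ 1 := fun e => by rw [e, orderOf_one] at ox; exact hr.ne_one ox.symm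
  rcases p.Kc_facts x hx r hr (ox ▸ pow_orderOf_eq_one x) hx1 with e | e | e
  · exact e
  · subst e; exact absurd hd p.Kc_three
  · subst e
    exfalso
    refine p.odd_prime (r := 11) (by norm_num) hd (fun h => p.Kc_three ?_) fun P h => ?_
    · obtain ⟨P⟩ : Nonempty (Sylow 11 ↥p.Kc) := inferInstance
      exact h.trans (P.card_dvd_index.trans (Subgroup.index_dvd_card _))
    · obtain ⟨k, hk⟩ := IsPGroup.iff_card.mp P.isPGroup'
      have hdv : 11 ^ k ∣ Nat.card ↥(centralizer ({p.ψ g7} : Set G)) := by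
        rw [← hk]
        exact (card_subgroup_dvd_card _).trans (card_dvd_of_le fun y hy =>
          mem_centralizer_singleton_iff.mpr (p.mem_Kc.mp hy).1.eq)
      rw [p.toNine.card_cent_g] at hdv
      have hk1 : k < 2 := by
        by_contra hk2
        exact absurd ((pow_dvd_pow 11 (show 2 ≤ k by omega)).trans hdv) (by norm_num)
      have hpos : 0 < k := Nat.pos_of_ne_zero fun e => by
        have h11 : 11 ∣ Nat.card (P : Subgroup ↥p.Kc) := by
          rw [P.card_eq_multiplicity]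
          exact dvd_pow_self 11 (Nat.Prime.factorization_pos_of_dvd (by norm_num) Nat.card_pos.ne' hd).ne'
        rw [hk, e, pow_zero] at h11
        norm_num at h11
      obtain rfl : k = 1 := by omega
      rw [hk] at h
      norm_num at h

/-- The centralizer is dihedral of order eight. -/
theorem Kc_eq : ∀ x ∈ p.Kc, ∃ π ∈ d8', p.ψ π = x := by
  classical
  haveI : Fact (Nat.Prime 2) := ⟨Nat.prime_two⟩
  obtain ⟨hlen, hnd⟩ := d8'_facts
  let D : Subgroup G := p.Kc ⊓ centralizer ({p.w} : Set G)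
  have mD : ∀ {x}, x ∈ D ↔ ∃ π ∈ d8', p.ψ π = x := fun {x} => by
    constructor
    · intro hx
      obtain ⟨h1, h2⟩ := Subgroup.mem_inf.mp hx
      exact p.fixed_d8 h1 (mul_inv_eq_iff_eq_mul.mpr (mem_centralizer_singleton_iff.mp h2).symm)
    · rintro ⟨π, hπ, rfl⟩
      exact Subgroup.mem_inf.mpr ⟨(p.d8_Kc hπ).1, mem_centralizer_singleton_iff.mpr (p.ψ_w π).1.eq⟩
  have hD8 : Nat.card ↥D = 8 := by
    rw [← hlen]
    exact card_of_list (nodup_of_values hnd) p.ψ p.ψ_inj (P := fun b => b ∈ D) fun b => mD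
  obtain ⟨-, hinv, -, hmem, hcu⟩ := d8'_checks
  have hu2 : p.ψ u7 ∈ D := mD.mpr ⟨u7, mem_d8'_of (List.all_eq_true.mp hmem u7 (by simp)), rfl⟩
  let N : Subgroup G := p.Kc ⊓ normalizer (D : Set G)
  have hDN : D ≤ N := le_inf inf_le_left le_normalizer
  let T : Finset G := ([p.ψ u7, p.ψ (c7 * u7), p.ψ h7, p.ψ (c7 * h7)] : List G).toFinset
  let F : Finset G := (p.four).toFinset
  haveI := Fintype.ofFinite ↥N
  have hN16 : Nat.card ↥N ≤ 16 := by
    rw [Nat.card_eq_fintype_card, ← Finset.card_univ]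
    have himg : (Finset.univ.image fun a : ↥N => (a : G) * p.ψ u7 * (a : G)⁻¹) ⊆ T := by
      intro y hy
      obtain ⟨⟨a, ha⟩, -, rfl⟩ := Finset.mem_image.mp hy
      obtain ⟨haK, han⟩ := Subgroup.mem_inf.mp ha
      obtain ⟨π, hπ, e⟩ := mD.mp ((mem_normalizer_iff.mp han _).mp hu2)
      show a * p.ψ u7 * a⁻¹ ∈ T
      have hc : Commute a (p.ψ c7) := (p.mem_Kc.mp haK).2.2
      obtain ⟨t, ht, hπt⟩ := List.any_eq_true.mp (List.all_eq_true.mp hinv π hπ)
      simp only [Bool.or_eq_true, Bool.not_eq_true'] at hπt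
      have n0 : u7 ≠ 1 := ne_of_sameV (by decide +kernel)
      have n1 : u7 ≠ c7 := ne_of_sameV (by decide +kernel)
      rcases hπt with ((h | h) | h) | h
      · exfalso
        have hsq : π * π = 1 := p.ψ_inj (by
          rw [map_mul, e, map_one, show a * p.ψ u7 * a⁻¹ * (a * p.ψ u7 * a⁻¹) = a * (p.ψ u7 * p.ψ u7) * a⁻¹ by group,
            ← map_mul, basic.2.2.2.2.1, map_one, mul_one, mul_inv_cancel])
        rw [hsq, sameV_self] at h
        exact Bool.noConfusion h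
      · exfalso
        rw [eq_of_sameV h, map_one] at e
        exact n0 (p.ψ_inj ((conj_eq_one_iff.mp e.symm).trans (map_one _).symm))
      · exfalso
        rw [eq_of_sameV h, ← mul_inv_eq_iff_eq_mul.mpr hc.eq, mul_left_inj, mul_right_inj] at e
        exact n1 (p.ψ_inj e.symm)
      · rw [← e, eq_of_sameV h]
        simp only [List.mem_cons, List.not_mem_nil, or_false] at ht
        simp only [T, List.mem_toFinset, List.mem_cons, List.not_mem_nil, or_false]
        rcases ht with rfl | rfl | rfl | rfl <;> simp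
    refine (Finset.card_le_mul_card_image (f := fun a : ↥N => (a : G) * p.ψ u7 * (a : G)⁻¹) Finset.univ F.card
      fun y hy => ?_).trans ?_
    · obtain ⟨b, -, rfl⟩ := Finset.mem_image.mp hy
      refine Finset.card_le_card_of_injOn (fun a : ↥N => (b : G)⁻¹ * a) (fun a ha => ?_) fun a _ a' _ h =>
        Subtype.ext (mul_left_cancel h)
      have ha' : (a : G) * p.ψ u7 * (a : G)⁻¹ = (b : G) * p.ψ u7 * (b : G)⁻¹ := (Finset.mem_filter.mp ha).2
      refine List.mem_toFinset.mpr (p.cent_four _ (mul_mem (inv_mem b.2.1) a.2.1) (mul_inv_eq_iff_eq_mul.mp ?_))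
      rw [show (b : G)⁻¹ * a * p.ψ u7 * ((b : G)⁻¹ * a)⁻¹ = (b : G)⁻¹ * (a * p.ψ u7 * (a : G)⁻¹) * b by group, ha']
      group
    · have hT : T.card ≤ 4 := (List.toFinset_card_le _).trans (by simp)
      have hF : F.card ≤ 4 := (List.toFinset_card_le _).trans (by simp [four])
      exact Nat.mul_le_mul hF ((Finset.card_le_card himg).trans hT)
  have hwN : ∀ x ∈ N, p.w * x * p.w⁻¹ ∈ N := by
    intro x hx
    obtain ⟨h1, h2⟩ := Subgroup.mem_inf.mp hx
    have fixD : ∀ {d}, d ∈ D → p.w * d * p.w⁻¹ = d := fun hd =>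
      mul_inv_eq_iff_eq_mul.mpr (mem_centralizer_singleton_iff.mp (Subgroup.mem_inf.mp hd).2).symm
    have fixD' : ∀ {d}, p.w * d * p.w⁻¹ ∈ D → p.w * d * p.w⁻¹ = d := fun {d} hd => by
      have := fixD hd
      exact mul_left_cancel (mul_right_cancel this)
    refine Subgroup.mem_inf.mpr ⟨p.w_Kc h1, mem_set_normalizer_iff.mpr fun d => ?_⟩
    constructor
    · intro hd
      have hy := (mem_normalizer_iff.mp h2 d).mp hd
      have : p.w * x * p.w⁻¹ * d * (p.w * x * p.w⁻¹)⁻¹ = x * d * x⁻¹ := by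
        rw [← fixD hd, show p.w * x * p.w⁻¹ * (p.w * d * p.w⁻¹) * (p.w * x * p.w⁻¹)⁻¹ =
          p.w * (x * d * x⁻¹) * p.w⁻¹ by group, fixD hy, fixD hd]
      show _ ∈ D
      rwa [this]
    · intro hd
      have hd' : p.w * (x * (p.w⁻¹ * d * p.w) * x⁻¹) * p.w⁻¹ ∈ D := by
        rw [show p.w * (x * (p.w⁻¹ * d * p.w) * x⁻¹) * p.w⁻¹ =
          p.w * x * p.w⁻¹ * d * (p.w * x * p.w⁻¹)⁻¹ by group]
        exact hd
      rw [fixD' hd'] at hd'
      have hd2 := (mem_normalizer_iff.mp h2 _).mpr hd'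
      have := fixD hd2
      rw [show p.w * (p.w⁻¹ * d * p.w) * p.w⁻¹ = d by group] at this
      show d ∈ D
      rw [this]; exact hd2
  let σ : Equiv.Perm ↥N :=
    { toFun := fun x => ⟨p.w * x * p.w⁻¹, hwN x x.2⟩
      invFun := fun x => ⟨p.w * (p.w * x * p.w⁻¹) * p.w⁻¹, hwN _ (hwN x x.2)⟩
      left_inv := fun x => Subtype.ext (p.rot_cube x)
      right_inv := fun x => Subtype.ext (p.rot_cube x) }
  have hfix : Nat.card {x : ↥N // σ x = x} = 8 := by
    rw [← hD8]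
    exact Nat.card_congr
      { toFun := fun x => ⟨x.1.1, Subgroup.mem_inf.mpr ⟨x.1.2.1,
          mem_centralizer_singleton_iff.mpr (mul_inv_eq_iff_eq_mul.mp (congrArg Subtype.val x.2)).symm⟩⟩
        invFun := fun y => ⟨⟨y.1, hDN y.2⟩,
          Subtype.ext (mul_inv_eq_iff_eq_mul.mpr (mem_centralizer_singleton_iff.mp y.2.2).symm)⟩
        left_inv := fun x => rfl
        right_inv := fun y => rfl }
  have hmod := fixed_mod_three (σ := σ) (by rw [pow_succ, pow_two]; exact Equiv.ext fun x => Subtype.ext (p.rot_cube x))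
  rw [hfix] at hmod
  have hN8 : Nat.card ↥N = 8 := by
    obtain ⟨k, hk⟩ := IsPGroup.iff_card.mp (p.Kc_two.to_le (inf_le_left : N ≤ p.Kc))
    have h8 : 8 ≤ Nat.card ↥N := hD8 ▸ card_le_of_le hDN
    rw [hk] at h8 hN16 hmod ⊢
    have hk4 : k < 5 := by
      by_contra hk'
      have := Nat.pow_le_pow_right (n := 2) two_pos (show 5 ≤ k by omega)
      omega
    interval_cases k <;> simp_all
  have hND : N = D := (eq_of_le_of_card_ge hDN (by rw [hD8, hN8])).symm
  haveI := p.Kc_two.isNilpotent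
  have hsub : D.subgroupOf p.Kc = ⊤ := by
    by_contra hne
    obtain ⟨y, hy, hy'⟩ := SetLike.exists_of_lt
      (Group.normalizerCondition_of_isNilpotent _ (lt_top_iff_ne_top.mpr hne))
    refine hy' (mem_subgroupOf.mpr (hND ▸ Subgroup.mem_inf.mpr ⟨y.2, mem_set_normalizer_iff.mpr fun d => ?_⟩))
    constructor
    · intro hd
      exact mem_subgroupOf.mp ((mem_normalizer_iff.mp hy ⟨d, (Subgroup.mem_inf.mp hd).1⟩).mp (mem_subgroupOf.mpr hd))
    · intro hd
      have hdK : d ∈ p.Kc := by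
        have := mul_mem (mul_mem (inv_mem y.2) (Subgroup.mem_inf.mp hd).1) y.2
        rwa [show (y : G)⁻¹ * ((y : G) * d * (y : G)⁻¹) * y = d by group] at this
      exact mem_subgroupOf.mp ((mem_normalizer_iff.mp hy ⟨d, hdK⟩).mpr (mem_subgroupOf.mpr hd))
  intro x hx
  exact mD.mp (mem_subgroupOf.mp (hsub ▸ mem_top (⟨x, hx⟩ : ↥p.Kc)))

/-- The centralizer of the outer involution and the element of order seven. -/
theorem Kg_eq : ∀ x, Commute x (p.ψ g7) → Commute x p.v → ∃ π, Equiv.Perm.sign π = 1 ∧ x = p.ψ π := by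
  classical
  obtain ⟨hlen, hnd, hr, hp, hu, hc⟩ := g7_even
  have inK : ∀ {π : S7}, Commute π g7 → Equiv.Perm.sign π = 1 → p.ψ π ∈ p.Kg := fun h hs =>
    p.mem_Kg.mpr ⟨h.map p.ψ, (p.v_comm _ hs).symm⟩
  obtain ⟨s1, s2, s3, -, -, -, -, -, s9, -, -, -⟩ := signs
  obtain ⟨brr, bcc, -, -, buu, -, -, -, bur, -, buc, -, bp3, bp1, bp2, -⟩ := basic
  let K := p.Kg
  let mk : (π : S7) → Commute π g7 → Equiv.Perm.sign π = 1 → ↥p.Kg := fun π h hs => ⟨p.ψ π, inK h hs⟩
  let c := mk c7 (eq_of_sameV hc) s1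
  let r := mk r7 (eq_of_sameV hr) s2
  let u := mk u7 (eq_of_sameV hu) s3
  let π := mk p7 (eq_of_sameV hp) s9
  have ext : ∀ {a b : S7}, a = b → p.ψ a = p.ψ b := fun h => congrArg p.ψ h
  have oInv : ∀ {a : S7} (h : Commute a g7) (hs : Equiv.Perm.sign a = 1), a * a = 1 → a ≠ 1 →
      orderOf (mk a h hs) = 2 := fun {a} h hs h2 h1 => by
    rw [Subgroup.orderOf_mk, orderOf_injective p.ψ p.ψ_inj]
    exact orderOf_eq_prime (by rw [pow_two]; exact h2) h1
  have oc : orderOf c = 2 := oInv (eq_of_sameV hc) s1 bcc (ne_of_sameV (by decide +kernel))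
  have ou : orderOf u = 2 := oInv (eq_of_sameV hu) s3 buu (ne_of_sameV (by decide +kernel))
  have hC : Nat.card ↥(centralizer ({c} : Set ↥p.Kg)) = 8 := by
    obtain ⟨hlen8, hnd8⟩ := d8'_facts
    rw [← hlen8]
    have key := card_of_list (nodup_of_values hnd8) p.ψ p.ψ_inj (P := fun b => b ∈ p.Kc)
      fun b => ⟨fun hb => p.Kc_eq b hb, fun ⟨π, hπ, e⟩ => e ▸ (p.d8_Kc hπ).1⟩
    rw [← key]
    exact Nat.card_congr
      { toFun := fun y => ⟨y.1.1, Subgroup.mem_inf.mpr ⟨y.1.2,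
          mem_centralizer_singleton_iff.mpr (congrArg Subtype.val (mem_centralizer_singleton_iff.mp y.2))⟩⟩
        invFun := fun b => ⟨⟨b.1, (Subgroup.mem_inf.mp b.2).1⟩,
          mem_centralizer_singleton_iff.mpr (Subtype.ext (mem_centralizer_singleton_iff.mp (Subgroup.mem_inf.mp b.2).2))⟩
        left_inv := fun y => rfl
        right_inv := fun b => rfl }
  have up : ∀ {a b : ↥p.Kg}, (a : G) = (b : G) → a = b := fun h => Subtype.ext h
  have h := dihedral_card (c := c) (r := r) (u := u) (π := π) oc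
    (up (by show p.ψ r7 * p.ψ r7 = p.ψ c7; rw [← map_mul, brr])) ou
    (up (by show p.ψ u7 * p.ψ c7 = p.ψ c7 * p.ψ u7; rw [← map_mul, ← map_mul, buc]))
    (fun e => (ne_of_sameV (x := u7) (y := c7) (by decide +kernel)) (p.ψ_inj (congrArg Subtype.val e)))
    (up (by show p.ψ u7 * p.ψ r7 * p.ψ u7 = (p.ψ r7)⁻¹; rw [← map_mul, ← map_mul, ← map_inv, bur]))
    hC (up (by show p.ψ p7 * p.ψ p7 * p.ψ p7 = 1; rw [← map_mul, ← map_mul, bp3, map_one]))
    (up (by show p.ψ p7 * p.ψ c7 * (p.ψ p7)⁻¹ = p.ψ u7; rw [← map_inv, ← map_mul, ← map_mul, bp1]))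
    (up (by show p.ψ p7 * p.ψ u7 * (p.ψ p7)⁻¹ = p.ψ c7 * p.ψ u7; rw [← map_inv, ← map_mul, ← map_mul, bp2, map_mul]))
  have no : ∀ r : ℕ, r.Prime → (r = 5 ∨ r = 7) → ¬ r ∣ Nat.card ↥p.Kg := fun r hr hr' hd => by
    haveI : Fact r.Prime := ⟨hr⟩
    obtain ⟨⟨x, hx⟩, ox⟩ := exists_prime_orderOf_dvd_card' (G := ↥p.Kg) r hd
    rw [Subgroup.orderOf_mk] at ox
    obtain ⟨hg, hv⟩ := p.mem_Kg.mp hx
    have h1 : x = 1 := by
      rcases hr' with rfl | rfl
      exacts [p.no_five (ox ▸ pow_orderOf_eq_one x) hv hg, p.no_seven (ox ▸ pow_orderOf_eq_one x) hg]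
    rw [h1, orderOf_one] at ox
    exact hr.ne_one ox.symm
  have h24 : Nat.card ↥p.Kg = 24 := by
    rcases h with e | e | ⟨e | e, -⟩
    · exact e
    · exact absurd (by rw [e]; norm_num) (no 5 (by norm_num) (Or.inl rfl))
    · exact absurd (by rw [e]; norm_num) (no 7 (by norm_num) (Or.inr rfl))
    · exact absurd (by rw [e]; norm_num) (no 5 (by norm_num) (Or.inl rfl))
  intro x hxg hxv
  let L := g48.filter fun x => decide (Equiv.Perm.sign x = 1)
  have hL : ∀ a ∈ L, p.ψ a ∈ p.Kg := fun a ha => by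
    obtain ⟨h1, h2⟩ := List.mem_filter.mp ha
    exact inK (eq_of_sameV (List.all_eq_true.mp g48_facts.2.2 a h1)) (of_decide_eq_true h2)
  let f : {a // a ∈ L.toFinset} → ↥p.Kg := fun a => ⟨p.ψ a.1, hL a.1 (List.mem_toFinset.mp a.2)⟩
  obtain ⟨⟨a, ha⟩, e⟩ := ((Nat.bijective_iff_injective_and_card f).mpr
    ⟨fun a b e => Subtype.ext (p.ψ_inj (congrArg Subtype.val e)), by
      rw [Nat.card_eq_finsetCard, List.toFinset_card_of_nodup (nodup_of_values hnd), hlen, h24]⟩).2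
    ⟨x, p.mem_Kg.mpr ⟨hxg, hxv⟩⟩
  exact ⟨a, of_decide_eq_true (List.mem_filter.mp (List.mem_toFinset.mp ha)).2, (congrArg Subtype.val e).symm⟩

end Sev

end Cfsg.Lib.ConwayType.Seven
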