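import Cfsg.Agent.ConwayType.Locals.Seven.Perms
import Cfsg.Agent.InvolCalc.Dihedral
import Cfsg.Agent.Transfer.Basic

/-!
A group with an embedded symmetric group of degree seven and a small centralizer of an outer involution: the
two-subgroups and the conjugacy of the inner involutions.
-/

set_option autoImplicit false
set_option maxRecDepth 100000
set_option linter.unusedSectionVars false
set_option linter.style.haveILetI false

namespace Cfsg.Lib.ConwayType.Seven

open Subgroup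
open scoped Pointwise

universe u

/-- The hypotheses for recognising the symmetric group of degree seven. -/
structure Hyp7 (Y : Type u) [Group Y] where
  ι : S7 →* Y
  inj : Function.Injective ι
  ε : Y →* ℤˣ
  sgn : ∀ π, ε (ι π) = Equiv.Perm.sign π
  cg : ∀ y, ε y = 1 → Commute y (ι g7) → ∃ π, y = ι π
  cb : ∀ y, ε y = 1 → Commute y (ι b7) → ∃ π, y = ι π
  apart : ¬ IsConj (ι g7) (ι t7)

/-- A list with distinct values has distinct entries. -/
theorem nodup_of_values {l : List S7} (h : (l.map fun x : S7 => (List.finRange 7).map fun i => x i).Nodup) :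
    l.Nodup :=
  List.Nodup.of_map _ h

/-- The number of elements of a set given by a list. -/
theorem card_of_list {α β : Type*} {l : List α} (hl : l.Nodup) (f : α → β) (hf : Function.Injective f) {P : β → Prop}
    (h : ∀ b, P b ↔ ∃ a ∈ l, f a = b) : Nat.card {b // P b} = l.length := by
  classical
  rw [← Nat.card_congr (Equiv.ofBijective (fun a : {a // a ∈ l.toFinset} =>
      (⟨f a.1, (h _).mpr ⟨a.1, List.mem_toFinset.mp a.2, rfl⟩⟩ : {b // P b}))
      ⟨fun a b e => Subtype.ext (hf (congrArg Subtype.val e)), fun b => by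
        obtain ⟨a, ha, e⟩ := (h b.1).mp b.2
        exact ⟨⟨a, List.mem_toFinset.mpr ha⟩, Subtype.ext e⟩⟩), Nat.card_eq_finsetCard,
    List.toFinset_card_of_nodup hl]

namespace Hyp7

variable {Y : Type u} [Group Y] [Finite Y] (D : Hyp7 Y)

/-- The inner elements. -/
def X : Subgroup Y := D.ε.ker

theorem mem_X {y : Y} : y ∈ D.X ↔ D.ε y = 1 := MonoidHom.mem_ker

theorem ι_X {π : S7} : D.ι π ∈ D.X ↔ Equiv.Perm.sign π = 1 := by rw [D.mem_X, D.sgn]

theorem ι_comm {a b : S7} : Commute (D.ι a) (D.ι b) ↔ Commute a b :=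
  ⟨fun h => D.inj (by rw [map_mul, map_mul]; exact h), fun h => h.map D.ι⟩

/-- An element centralizing the outer involution is a permutation centralizing it. -/
theorem cent_g {y : Y} (h : Commute y (D.ι g7)) : ∃ π, y = D.ι π ∧ Commute π g7 := by
  obtain ⟨π, rfl⟩ : ∃ π, y = D.ι π := by
    rcases Int.units_eq_one_or (D.ε y) with e | e
    · exact D.cg y e h
    · obtain ⟨π, hπ⟩ := D.cg (y * D.ι g7) (by rw [map_mul, e, D.sgn, signs.2.2.2.2.1]; rfl)
        (h.mul_left (Commute.refl _))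
      exact ⟨π * g7, by rw [map_mul, ← hπ, mul_assoc, ← map_mul, basic.2.2.1, map_one, mul_one]⟩
  exact ⟨π, rfl, D.ι_comm.mp h⟩

theorem apart_of {a b : S7} (ha : IsConj g7 a) (hb : IsConj t7 b) : ¬ IsConj (D.ι a) (D.ι b) := fun h =>
  D.apart ((D.ι.map_isConj ha).trans (h.trans (D.ι.map_isConj hb).symm))

/-- The even permutations commuting with the inner involution and the transposition. -/
theorem mem_d8' {x : S7} : x ∈ d8' ↔ Commute x c7 ∧ Commute x t7 ∧ Equiv.Perm.sign x = 1 := by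
  simp only [d8', List.mem_filter, Bool.and_eq_true, decide_eq_true_eq]
  constructor
  · rintro ⟨h1, h2, h3⟩
    exact ⟨eq_of_sameV (List.all_eq_true.mp c48_facts.2.2 x h1), eq_of_sameV h2, h3⟩
  · rintro ⟨h1, h2, h3⟩
    exact ⟨mem_c48 h1, commV_of h2, h3⟩

/-- A two-subgroup of inner elements is conjugate to a group of permutations fixing the two involutions. -/
theorem two_inner {P : Subgroup Y} (hP : IsPGroup 2 P) (hX : P ≤ D.X) :
    ∃ h : Y, ∀ y ∈ P, ∃ π ∈ d8', h * y * h⁻¹ = D.ι π := by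
  classical
  haveI : Fact (Nat.Prime 2) := ⟨Nat.prime_two⟩
  let B : Subgroup S7 := centralizer {c7} ⊓ centralizer {g7}
  let R : Subgroup Y := B.map D.ι
  have mB : ∀ {x : S7}, x ∈ B ↔ Commute x c7 ∧ Commute x g7 := fun {x} => by
    rw [mem_inf, mem_centralizer_singleton_iff, mem_centralizer_singleton_iff]; rfl
  have hR : IsPGroup 2 R := by
    refine IsPGroup.map (fun x => ⟨2, Subtype.ext ?_⟩) D.ι
    have hall : (c48.filter fun x => commV x g7).all (fun x => sameV (powV 4 x) 1) = true := by decide +kernel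
    have := eq_of_sameV (List.all_eq_true.mp hall x
      (List.mem_filter.mpr ⟨mem_c48 (mB.mp x.2).1, commV_of (mB.mp x.2).2⟩))
    rw [powV_eq] at this
    rw [SubmonoidClass.coe_pow, OneMemClass.coe_one]
    exact this
  obtain ⟨T, hT⟩ := hR.exists_le_sylow
  have hTR : (T : Subgroup Y) = R := by
    by_contra hne
    have hlt : R.subgroupOf T < ⊤ := lt_top_iff_ne_top.mpr fun e => hne
      (le_antisymm (fun t ht => mem_subgroupOf.mp (e ▸ mem_top (⟨t, ht⟩ : (T : Subgroup Y)))) hT)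
    haveI := T.isPGroup'.isNilpotent
    obtain ⟨⟨x, hxT⟩, hxN, hxR⟩ := SetLike.exists_of_lt (Group.normalizerCondition_of_isNilpotent _ hlt)
    rw [mem_subgroupOf] at hxR
    have hn : ∀ π ∈ B, ∃ ρ ∈ B, x * D.ι π * x⁻¹ = D.ι ρ := fun π hπ => by
      obtain ⟨ρ, hρ, e⟩ := mem_subgroupOf.mp ((mem_normalizer_iff.mp hxN ⟨D.ι π, hT ⟨π, hπ, rfl⟩⟩).mp
        (mem_subgroupOf.mpr ⟨π, hπ, rfl⟩))
      exact ⟨ρ, hρ, e.symm⟩
    have hxn' : ∀ ρ ∈ B, ∃ π ∈ B, x * D.ι π * x⁻¹ = D.ι ρ := fun ρ hρ => by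
      obtain ⟨π, hπ, e⟩ := mem_subgroupOf.mp ((mem_normalizer_iff''.mp hxN ⟨D.ι ρ, hT ⟨ρ, hρ, rfl⟩⟩).mp
        (mem_subgroupOf.mpr ⟨ρ, hρ, rfl⟩))
      refine ⟨π, hπ, ?_⟩
      rw [e]
      show x * (x⁻¹ * D.ι ρ * x) * x⁻¹ = D.ι ρ
      group
    have cen : ∀ w ∈ B, (∀ b ∈ B, Commute w b) → ∀ ρ, x * D.ι w * x⁻¹ = D.ι ρ → w * w = 1 →
        (ρ = 1 ∨ ρ = c7 ∨ ρ = g7 ∨ ρ = t7) ∧ Equiv.Perm.sign ρ = Equiv.Perm.sign w := by
      intro w hw hwc ρ e hw2
      have hρB : ρ ∈ B := by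
        obtain ⟨ρ', hρ', e'⟩ := hn w hw
        rwa [D.inj (e.symm.trans e')]
      have hρc : ∀ b ∈ B, Commute ρ b := fun b hb => by
        obtain ⟨π, hπ, eπ⟩ := hxn' b hb
        rw [← D.ι_comm, ← e, ← eπ]
        exact (Commute.conj_iff x).mpr ((hwc π hπ).map D.ι)
      refine ⟨?_, ?_⟩
      · obtain ⟨-, -, -, -, -, -, hgct, -, hur, hhr, huc, hhc, -⟩ := basic
        have bB : ∀ {q : S7}, commV q c7 = true → commV q g7 = true → q ∈ B := fun {q} a b =>
          mB.mpr ⟨eq_of_sameV a, eq_of_sameV b⟩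
        have ht : commV ρ t7 = true := commV_of (by
          have := (hρc c7 (bB (by decide +kernel) (by decide +kernel))).mul_right (mB.mp hρB).2
          rwa [hgct, ← mul_assoc, (by exact eq_of_sameV (by decide +kernel) : c7 * c7 = (1 : S7)), one_mul] at this)
        have h := List.all_eq_true.mp centre16 ρ (List.mem_filter.mpr ⟨mem_c48 (mB.mp hρB).1, by
          rw [ht, commV_of (hρc r7 (bB (by decide +kernel) (by decide +kernel))),
            commV_of (hρc u7 (bB (by decide +kernel) (by decide +kernel))),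
            commV_of (hρc h7 (bB (by decide +kernel) (by decide +kernel)))]
          rfl⟩)
        simp only [Bool.or_eq_true] at h
        rcases h with ((h | h) | h) | h
        · exact Or.inl (eq_of_sameV h)
        · exact Or.inr (Or.inl (eq_of_sameV h))
        · exact Or.inr (Or.inr (Or.inl (eq_of_sameV h)))
        · exact Or.inr (Or.inr (Or.inr (eq_of_sameV h)))
      · have := congrArg D.ε e
        rw [map_mul, map_mul, map_inv, mul_comm (D.ε x), mul_inv_cancel_right, D.sgn, D.sgn] at this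
        exact this.symm
    have hgB : g7 ∈ B := mB.mpr ⟨eq_of_sameV (by decide +kernel), Commute.refl _⟩
    have hcB : c7 ∈ B := mB.mpr ⟨Commute.refl _, eq_of_sameV (by decide +kernel)⟩
    obtain ⟨-, hcc, hgg, -⟩ := basic
    obtain ⟨sc, -, -, -, sg, -⟩ := signs
    obtain ⟨ρ, -, e⟩ := hn g7 hgB
    obtain ⟨hρ, hs⟩ := cen g7 hgB (fun b hb => (mB.mp hb).2.symm) ρ e hgg
    have hxg : Commute x (D.ι g7) := by
      rcases hρ with rfl | rfl | rfl | rfl
      · rw [sg] at hs; simp at hs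
      · rw [sg, sc] at hs; exact absurd hs (by decide)
      · exact mul_inv_eq_iff_eq_mul.mp e
      · exact absurd (isConj_iff.mpr ⟨x, e⟩) D.apart
    obtain ⟨σ, rfl, hσ⟩ := D.cent_g hxg
    obtain ⟨ρ, -, e⟩ := hn c7 hcB
    obtain ⟨hρ, hs⟩ := cen c7 hcB (fun b hb => (mB.mp hb).1.symm) ρ e hcc
    refine hxR ⟨σ, mB.mpr ⟨?_, hσ⟩, rfl⟩
    have hne : c7 ≠ 1 := ne_of_sameV (by decide +kernel)
    rw [← map_inv, ← map_mul, ← map_mul] at e
    have e' := D.inj e
    rcases hρ with rfl | rfl | rfl | rfl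
    · rw [conj_eq_one_iff] at e'; exact absurd e' hne
    · exact mul_inv_eq_iff_eq_mul.mp e'
    · rw [sg, sc] at hs; exact absurd hs (by decide)
    · rw [signs.2.2.2.2.2.1, sc] at hs; exact absurd hs (by decide)
  obtain ⟨Q, hQ⟩ := hP.exists_le_sylow
  obtain ⟨h, hh⟩ := MulAction.exists_smul_eq Y Q T
  refine ⟨h, fun y hy => ?_⟩
  have hm : h * y * h⁻¹ ∈ R := by
    rw [← hTR, ← hh, Sylow.coe_subgroup_smul]
    exact smul_mem_pointwise_smul y (MulAut.conj h) _ (hQ hy)
  obtain ⟨π, hπ, e⟩ := hm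
  refine ⟨π, mem_d8'.mpr ⟨(mB.mp hπ).1, ?_, ?_⟩, e.symm⟩
  · have hπg := (mB.mp hπ).1.mul_right (mB.mp hπ).2
    rwa [basic.2.2.2.2.2.2.1, ← mul_assoc, basic.2.1, one_mul] at hπg
  · rw [← D.sgn, e, map_mul, map_mul, map_inv, D.mem_X.mp (hX hy), mul_one, mul_inv_cancel]

/-- The inner involutions are conjugate. -/
theorem inner_conj {x : Y} (hx : x ∈ D.X) (x2 : x * x = 1) (x1 : x ≠ 1) : IsConj (D.ι c7) x := by
  haveI : Fact (Nat.Prime 2) := ⟨Nat.prime_two⟩
  have ho : orderOf x = 2 := orderOf_eq_prime (by rw [pow_two]; exact x2) x1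
  obtain ⟨h, hh⟩ := D.two_inner (P := zpowers x) (IsPGroup.of_card (n := 1) (by rw [Nat.card_zpowers, ho, pow_one]))
    (zpowers_le.mpr hx)
  obtain ⟨π, hπ, e⟩ := hh x (mem_zpowers x)
  have p2 : π * π = 1 := D.inj (by rw [map_mul, ← e, map_one,
    show h * x * h⁻¹ * (h * x * h⁻¹) = h * (x * x) * h⁻¹ by group, x2, mul_one, mul_inv_cancel])
  have p1 : π ≠ 1 := fun p => x1 (conj_eq_one_iff.mp (e.trans (by rw [p, map_one])))
  obtain ⟨hc, -, hs⟩ := mem_d8'.mp hπ
  have hf : sameV π 1 = false := Bool.eq_false_iff.mpr fun k => p1 (eq_of_sameV k)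
  have := List.all_eq_true.mp invol_conj π (List.mem_filter.mpr ⟨mem_c48 hc, by
    rw [hf, decide_eq_true hs, p2, sameV_self]; rfl⟩)
  have hconj : IsConj π c7 := by
    simp only [Bool.or_eq_true, List.any_eq_true] at this
    rcases this with ⟨q, -, hq⟩ | ⟨a, -, q, -, hq | hq⟩
    · exact isConj_iff.mpr ⟨q, eq_of_sameV hq⟩
    · exact (isConj_iff.mpr ⟨a, rfl⟩ : IsConj π (a * π * a⁻¹)).trans (isConj_iff.mpr ⟨q, eq_of_sameV hq⟩)
    · refine ((isConj_iff.mpr ⟨a, rfl⟩ : IsConj π (a * π * a⁻¹)).trans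
        (isConj_iff.mpr ⟨q, rfl⟩)).trans (isConj_iff.mpr ⟨Equiv.swap 0 1 * Equiv.swap 4 5, ?_⟩)
      rw [inv_eq_of_mul_eq_one_right (eq_of_sameV (by decide +kernel) :
        (Equiv.swap 0 1 * Equiv.swap 4 5 : S7) * (Equiv.swap 0 1 * Equiv.swap 4 5) = 1)]
      exact eq_of_sameV hq
  exact ((D.ι.map_isConj hconj).symm.trans (e ▸ (isConj_iff.mpr ⟨h, rfl⟩ : IsConj x (h * x * h⁻¹))).symm)

end Hyp7

end Cfsg.Lib.ConwayType.Seven
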