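import Cfsg.Agent.ConwayType.Locals.Seven.Transport
import Cfsg.Agent.ConwayType.Locals.Seven.Recog

/-!
The centralizer of the outer involution, an inner one and the element of order seven is dihedral of order eight.
-/

set_option autoImplicit false
set_option synthInstance.maxSize 4096
set_option maxRecDepth 100000
set_option maxHeartbeats 1000000
set_option linter.unusedSectionVars false
set_option linter.style.haveILetI false
set_option Elab.async false

namespace Cfsg.Lib.ConwayType.Seven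

open Subgroup

universe u

variable {G : Type u} [Group G] [Finite G] {z : G}

/-- The number of fixed points of a permutation of order dividing three. -/
theorem fixed_mod_three {α : Type*} [Finite α] {σ : Equiv.Perm α} (h : σ ^ 3 = 1) :
    Nat.card {a // σ a = a} % 3 = Nat.card α % 3 := by
  classical
  haveI := Fintype.ofFinite α
  haveI : Fact (Nat.Prime 3) := ⟨Nat.prime_three⟩
  have := Equiv.Perm.card_compl_support_modEq (n := 1) (p := 3) (σ := σ) (by rwa [pow_one])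
  rw [Nat.card_eq_fintype_card, Fintype.card_subtype, Nat.card_eq_fintype_card]
  rw [show (Finset.univ.filter fun a => σ a = a) = σ.supportᶜ by ext a; simp]
  exact this

theorem d8'_commute : ∀ x ∈ d8', Commute x g7 := fun x hx =>
  eq_of_sameV (List.all_eq_true.mp (by decide +kernel : d8'.all (fun x => commV x g7) = true) x hx)

theorem d8'_checks :
    (d8'.all fun x => !commV x u7 || sameV x 1 || sameV x c7 || sameV x u7 || sameV x (c7 * u7)) = true ∧
    (d8'.all fun x => [u7, c7 * u7, h7, c7 * h7].any fun y => !sameV (x * x) 1 || sameV x 1 || sameV x c7 || sameV x y) = true ∧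
    (d8'.all fun x => [c7, u7].all fun y => [(1 : S7), c7, u7, c7 * u7].any fun t => sameV (x * y * x⁻¹) t) = true ∧
    ([r7, u7, h7, c7, c7 * u7, c7 * h7].all fun x => d8'.any fun y => sameV x y) = true ∧
    sameV (c7 * u7) (u7 * c7) = true := by
  decide +kernel

theorem mem_d8'_of {x : S7} (h : (d8'.any fun y => sameV x y) = true) : x ∈ d8' := by
  obtain ⟨y, hy, e⟩ := List.any_eq_true.mp h
  exact eq_of_sameV e ▸ hy

namespace Sev

variable (p : Sev z)

/-- The centralizer of the outer involution and the element of order seven. -/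
noncomputable def Kg : Subgroup G := centralizer ({p.ψ g7} : Set G) ⊓ centralizer ({p.v} : Set G)

theorem mem_Kg {x : G} : x ∈ p.Kg ↔ Commute x (p.ψ g7) ∧ Commute x p.v :=
  and_congr mem_centralizer_singleton_iff mem_centralizer_singleton_iff

/-- Its part centralizing the inner involution. -/
noncomputable def Kc : Subgroup G := p.Kg ⊓ centralizer ({p.ψ c7} : Set G)

theorem mem_Kc {x : G} : x ∈ p.Kc ↔ Commute x (p.ψ g7) ∧ Commute x p.v ∧ Commute x (p.ψ c7) := by
  rw [Kc, Subgroup.mem_inf, p.mem_Kg, mem_centralizer_singleton_iff, and_assoc]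
  rfl

theorem w_norm {x : G} (hv : Commute x p.v) : Commute (p.w * x * p.w⁻¹) p.v := by
  obtain ⟨a, ha⟩ := p.v_w
  have h := ((Commute.conj_iff p.w).mpr hv).pow_right 1
  rw [pow_one, ha] at h
  have hcop : a.Coprime (orderOf p.v) := by
    rw [p.v_order, Nat.coprime_comm, (by norm_num : Nat.Prime 7).coprime_iff_not_dvd]
    rintro ⟨j, rfl⟩
    rw [pow_mul, p.v7, one_pow, conj_eq_one_iff] at ha
    exact p.v1 ha
  obtain ⟨m, hm⟩ := exists_pow_eq_self_of_coprime hcop
  exact hm ▸ h.pow_right m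

theorem w_Kc {x : G} (hx : x ∈ p.Kc) : p.w * x * p.w⁻¹ ∈ p.Kc := by
  obtain ⟨hg, hv, hc⟩ := p.mem_Kc.mp hx
  exact p.mem_Kc.mpr ⟨((p.ψ_w g7).1.symm.mul_left hg).mul_left (p.ψ_w g7).1.symm.inv_left, p.w_norm hv,
    ((p.ψ_w c7).1.symm.mul_left hc).mul_left (p.ψ_w c7).1.symm.inv_left⟩

/-- Conjugation by the element of order three. -/
noncomputable def rot : Equiv.Perm ↥p.Kc where
  toFun x := ⟨p.w * x * p.w⁻¹, p.w_Kc x.2⟩
  invFun x := ⟨p.w * (p.w * x * p.w⁻¹) * p.w⁻¹, p.w_Kc (p.w_Kc x.2)⟩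
  left_inv x := Subtype.ext (by
    show p.w * (p.w * (p.w * (x : G) * p.w⁻¹) * p.w⁻¹) * p.w⁻¹ = x
    rw [show p.w * (p.w * (p.w * (x : G) * p.w⁻¹) * p.w⁻¹) * p.w⁻¹ = p.w * p.w * p.w * x * (p.w * p.w * p.w)⁻¹ by group,
      p.toTri.w3, inv_one, one_mul, mul_one])
  right_inv x := Subtype.ext (by
    show p.w * (p.w * (p.w * (x : G) * p.w⁻¹) * p.w⁻¹) * p.w⁻¹ = x
    rw [show p.w * (p.w * (p.w * (x : G) * p.w⁻¹) * p.w⁻¹) * p.w⁻¹ = p.w * p.w * p.w * x * (p.w * p.w * p.w)⁻¹ by group,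
      p.toTri.w3, inv_one, one_mul, mul_one])

theorem rot_cube (x : G) : p.w * (p.w * (p.w * x * p.w⁻¹) * p.w⁻¹) * p.w⁻¹ = x := by
  rw [show p.w * (p.w * (p.w * x * p.w⁻¹) * p.w⁻¹) * p.w⁻¹ = p.w * p.w * p.w * x * (p.w * p.w * p.w)⁻¹ by group,
    p.toTri.w3, inv_one, one_mul, mul_one]

/-- The fixed elements of the rotation are the dihedral group. -/
theorem fixed_d8 {x : G} (hx : x ∈ p.Kc) (hw : p.w * x * p.w⁻¹ = x) : ∃ π ∈ d8', p.ψ π = x := by
  obtain ⟨hg, hv, hc⟩ := p.mem_Kc.mp hx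
  obtain ⟨π, hs, hπg, rfl⟩ := p.cent_three (mul_inv_eq_iff_eq_mul.mp hw).symm hg hv
  have hπc : Commute π c7 := p.ψ_inj (by rw [map_mul, map_mul]; exact hc.eq)
  have ht : t7 = c7 * g7 := eq_of_sameV (by decide +kernel)
  refine ⟨π, ?_, rfl⟩
  simp only [d8', List.mem_filter, Bool.and_eq_true, decide_eq_true_eq]
  exact ⟨mem_c48 hπc, commV_of (ht ▸ hπc.mul_right hπg), hs⟩

theorem d8_Kc {π : S7} (h : π ∈ d8') : p.ψ π ∈ p.Kc ∧ p.w * p.ψ π * p.w⁻¹ = p.ψ π := by
  have h' := h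
  simp only [d8', List.mem_filter, Bool.and_eq_true, decide_eq_true_eq] at h'
  obtain ⟨hc, -, hs⟩ := h'
  exact ⟨p.mem_Kc.mpr ⟨(d8'_commute π h).map p.ψ, (p.v_comm π hs).symm,
    Commute.map (show Commute π c7 from eq_of_sameV (List.all_eq_true.mp c48_facts.2.2 π hc)) p.ψ⟩,
    mul_inv_eq_iff_eq_mul.mpr (p.ψ_w π).1.symm.eq⟩

/-- The four-group. -/
noncomputable def four : List G := [1, p.ψ c7, p.ψ u7, p.ψ (c7 * u7)]

theorem d8_four {π : S7} (h : π ∈ d8') (hu : Commute (p.ψ π) (p.ψ u7)) : p.ψ π ∈ p.four := by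
  have hu' : Commute π u7 := p.ψ_inj (by rw [map_mul, map_mul]; exact hu.eq)
  have := List.all_eq_true.mp d8'_checks.1 π h
  simp only [Bool.or_eq_true, Bool.not_eq_true', commV_of hu', Bool.true_eq_false, false_or] at this
  simp only [four, List.mem_cons, List.not_mem_nil, or_false]
  rcases this with ((e | e) | e) | e <;> rw [eq_of_sameV e]
  · exact Or.inl (map_one _)
  · exact Or.inr (Or.inl rfl)
  · exact Or.inr (Or.inr (Or.inl rfl))
  · exact Or.inr (Or.inr (Or.inr rfl))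

theorem four_nodup : p.four.Nodup := by
  have h : ([1, c7, u7, c7 * u7] : List S7).Nodup := nodup_of_values (by decide +kernel)
  have e : p.four = ([1, c7, u7, c7 * u7] : List S7).map p.ψ := by simp [four]
  rw [e]
  exact h.map p.ψ_inj

/-- The centralizer of the four-group is itself. -/
theorem cent_four : ∀ x ∈ p.Kc, Commute x (p.ψ u7) → x ∈ p.four := by
  classical
  let R : Subgroup G := p.Kc ⊓ centralizer ({p.ψ u7} : Set G)
  have mR : ∀ {x}, x ∈ R ↔ x ∈ p.Kc ∧ Commute x (p.ψ u7) := fun {x} =>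
    and_congr Iff.rfl mem_centralizer_singleton_iff
  obtain ⟨c, hc, hWM, hW, hU, hV⟩ := p.exists_transport
  -- elements of the product with the rotations
  have hwR : ∀ x ∈ R, p.w * x * p.w⁻¹ ∈ R := fun x hx => mR.mpr ⟨p.w_Kc (mR.mp hx).1,
    ((p.ψ_w u7).1.symm.mul_left (mR.mp hx).2).mul_left (p.ψ_w u7).1.symm.inv_left⟩
  have hnorm : zpowers p.w ≤ normalizer (R : Set G) := by
    refine zpowers_le.mpr ?_
    rw [mem_set_normalizer_iff]
    refine fun x => ⟨hwR x, fun hx => ?_⟩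
    have := hwR _ (hwR _ hx)
    rwa [p.rot_cube] at this
  let D : Subgroup G := R ⊔ zpowers p.w
  have memD : ∀ x ∈ D, ∃ r ∈ R, ∃ k : ℕ, x = r * p.w ^ k := by
    intro x hx
    have hx' : x ∈ ((R ⊔ zpowers p.w : Subgroup G) : Set G) := hx
    rw [coe_mul_of_right_le_normalizer_left R (zpowers p.w) hnorm] at hx'
    obtain ⟨r, hr, y, hy, rfl⟩ := hx'
    rw [SetLike.mem_coe, ← mem_powers_iff_mem_zpowers, Submonoid.mem_powers_iff] at hy
    obtain ⟨k, rfl⟩ := hy
    exact ⟨r, hr, k, rfl⟩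
  let D' := D.map (MulAut.conj c).toMonoidHom
  have hDM : D' ≤ p.toFr.Mt := by
    rw [Subgroup.map_le_iff_le_comap, sup_le_iff, zpowers_le]
    refine ⟨fun x hx => ?_, hWM⟩
    show c * x * c⁻¹ ∈ p.toFr.Mt
    rw [← p.toFr.dodecad_centralizer, p.toFr.mem_Ht, ← hc]
    exact (Commute.conj_iff c).mpr (p.mem_Kc.mp (mR.mp hx).1).1
  have hcD : ∀ m ∈ D', Commute m (c * p.ψ c7 * c⁻¹) ∧ Commute m (c * p.ψ u7 * c⁻¹) := by
    rintro _ ⟨x, hx, rfl⟩
    obtain ⟨r, hr, k, rfl⟩ := memD x hx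
    exact ⟨(Commute.conj_iff c).mpr ((p.mem_Kc.mp (mR.mp hr).1).2.2.mul_left ((p.ψ_w c7).1.symm.pow_left k)),
      (Commute.conj_iff c).mpr ((mR.mp hr).2.mul_left ((p.ψ_w u7).1.symm.pow_left k))⟩
  have kzero : ∀ {k : ℕ}, p.w ^ k ∈ R → k % 3 = 0 := by
    intro k hk
    have hv := (p.mem_Kc.mp (mR.mp hk).1).2.1
    by_contra h0
    refine p.v_nw ?_
    rcases (by omega : k % 3 = 1 ∨ k % 3 = 2) with h | h
    · rwa [p.toTri.w_mod (show k % 3 = 1 % 3 from h), pow_one] at hv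
    · have h4 := hv.mul_left hv
      rwa [← pow_add, p.toTri.w_mod (show (k + k) % 3 = 1 % 3 by omega), pow_one] at h4
  have hDA : ∀ m ∈ D', m ∈ p.toFr.Ag → m = 1 := by
    rintro _ ⟨x, hx, rfl⟩ hA
    obtain ⟨r, hr, k, rfl⟩ := memD x hx
    change c * (r * p.w ^ k) * c⁻¹ ∈ p.toFr.Ag at hA
    show c * (r * p.w ^ k) * c⁻¹ = 1
    have hsq : r * p.w ^ k * (r * p.w ^ k) = 1 := by
      obtain ⟨a, -, ea⟩ := hA
      have := p.toFr.ev_sq a
      rw [ea, show c * (r * p.w ^ k) * c⁻¹ * (c * (r * p.w ^ k) * c⁻¹) =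
        c * (r * p.w ^ k * (r * p.w ^ k)) * c⁻¹ by group] at this
      exact conj_eq_one_iff.mp this
    have hk : k % 3 = 0 := by
      have hr' : p.w ^ k * r * (p.w ^ k)⁻¹ ∈ R :=
        (mem_set_normalizer_iff.mp (hnorm (pow_mem (mem_zpowers _) k)) r).mp hr
      have h2 : p.w ^ (k + k) ∈ R := by
        have e : p.w ^ (k + k) = (r * (p.w ^ k * r * (p.w ^ k)⁻¹))⁻¹ := by
          rw [pow_add, eq_inv_iff_mul_eq_one, mul_eq_one_comm, ← hsq]
          group
        rw [e]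
        exact inv_mem (mul_mem hr hr')
      have := kzero h2
      omega
    have hw1 : p.w ^ k = 1 := by rw [p.toTri.w_mod (show k % 3 = 0 % 3 from hk), pow_zero]
    rw [hw1, mul_one] at hA ⊢
    rw [p.code_trivial (p.mem_Kc.mp (mR.mp hr).1).2.1 (p.mem_Kc.mp (mR.mp hr).1).2.2 hA, mul_one, mul_inv_cancel]
  have h24 := p.toFr.four_bound hW hWM hU hV ((Commute.conj_iff c).mpr (p.ψ_w c7).1.symm)
    ((Commute.conj_iff c).mpr (p.ψ_w u7).1.symm) D' hDM hcD hDA
  have hprod : Nat.card ↥R * 3 ≤ Nat.card ↥D := by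
    rw [show 3 = Nat.card (Fin 3) by simp, ← Nat.card_prod]
    refine Nat.card_le_card_of_injective (fun e : ↥R × Fin 3 =>
      (⟨(e.1 : G) * p.w ^ e.2.val, mul_mem (mem_sup_left e.1.2) (mem_sup_right (pow_mem (mem_zpowers _) _))⟩ : ↥D)) ?_
    rintro ⟨⟨r, hr⟩, i⟩ ⟨⟨r', hr'⟩, j⟩ h
    have h' : r * p.w ^ i.val = r' * p.w ^ j.val := congrArg Subtype.val h
    have hk : p.w ^ (i.val + 2 * j.val) ∈ R := by
      have e : p.w ^ (i.val + 2 * j.val) = r⁻¹ * r' := by
        rw [eq_inv_mul_iff_mul_eq, pow_add, ← mul_assoc, h', mul_assoc, ← pow_add,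
          p.toTri.w_mod (show (j.val + 2 * j.val) % 3 = 0 % 3 by omega), pow_zero, mul_one]
      rw [e]
      exact mul_mem (inv_mem hr) hr'
    have hij : i = j := Fin.ext (by have := kzero hk; omega)
    subst hij
    exact Prod.ext (Subtype.ext (mul_right_cancel h')) rfl
  have hD' : Nat.card ↥D' = Nat.card ↥D := card_map_of_injective (MulAut.conj c).injective
  have hR8 : Nat.card ↥R ≤ 8 := by omega
  -- the four-group inside
  have hfour : ∀ y ∈ p.four, y ∈ R := by
    intro y hy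
    obtain ⟨-, -, -, hmem, hcu⟩ := d8'_checks
    simp only [List.all_eq_true] at hmem
    have mm : ∀ π, π ∈ [r7, u7, h7, c7, c7 * u7, c7 * h7] → Commute π u7 → p.ψ π ∈ R := fun π hπ hu =>
      mR.mpr ⟨(p.d8_Kc (mem_d8'_of (hmem π hπ))).1, hu.map p.ψ⟩
    have hcu' : Commute c7 u7 := eq_of_sameV hcu
    simp only [four, List.mem_cons, List.not_mem_nil, or_false] at hy
    rcases hy with rfl | rfl | rfl | rfl
    · exact one_mem _
    · exact mm c7 (by simp) hcu'
    · exact mm u7 (by simp) (Commute.refl _)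
    · exact mm _ (by simp) (hcu'.mul_left (Commute.refl _))
  let σ : Equiv.Perm ↥R :=
    { toFun := fun x => ⟨p.w * x * p.w⁻¹, hwR x x.2⟩
      invFun := fun x => ⟨p.w * (p.w * x * p.w⁻¹) * p.w⁻¹, hwR _ (hwR x x.2)⟩
      left_inv := fun x => Subtype.ext (p.rot_cube x)
      right_inv := fun x => Subtype.ext (p.rot_cube x) }
  have hσ : σ ^ 3 = 1 := by
    rw [pow_succ, pow_two]
    exact Equiv.ext fun x => Subtype.ext (p.rot_cube x)
  have hfix : Nat.card {x : ↥R // σ x = x} = 4 := by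
    have : {x : ↥R // σ x = x} ≃ {y : G // y ∈ p.four} :=
      { toFun := fun x => ⟨x.1.1, by
          obtain ⟨π, hπ, e⟩ := p.fixed_d8 (mR.mp x.1.2).1 (congrArg Subtype.val x.2)
          rw [← e]
          exact p.d8_four hπ (by rw [e]; exact (mR.mp x.1.2).2)⟩
        invFun := fun y => ⟨⟨y.1, hfour y.1 y.2⟩, Subtype.ext (by
          have : ∃ π, p.ψ π = y.1 := by
            have hy := y.2
            simp only [four, List.mem_cons, List.not_mem_nil, or_false] at hy
            rcases hy with e | e | e | e <;> rw [e]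
            exacts [⟨1, map_one _⟩, ⟨_, rfl⟩, ⟨_, rfl⟩, ⟨_, rfl⟩]
          obtain ⟨π, e⟩ := this
          show p.w * y.1 * p.w⁻¹ = y.1
          rw [← e]
          exact mul_inv_eq_iff_eq_mul.mpr (p.ψ_w π).1.symm.eq)⟩
        left_inv := fun x => rfl
        right_inv := fun y => rfl }
    rw [Nat.card_congr this, Nat.card_congr (Equiv.subtypeEquivRight fun y => List.mem_toFinset.symm),
      Nat.card_eq_finsetCard, List.toFinset_card_of_nodup p.four_nodup]
    rfl
  have hmod := fixed_mod_three hσ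
  rw [hfix] at hmod
  have hpow : Nat.card ↥R = 4 := by
    have h4 : 4 ≤ Nat.card ↥R := by
      rw [← hfix]
      exact Nat.card_le_card_of_injective Subtype.val Subtype.val_injective
    have h7 : Nat.card ↥R ≠ 7 := fun e => by
      haveI : Fact (Nat.Prime 7) := ⟨by norm_num⟩
      obtain ⟨⟨y, hy⟩, oy⟩ := exists_prime_orderOf_dvd_card' (G := ↥R) 7 (by rw [e])
      rw [Subgroup.orderOf_mk] at oy
      have := p.no_seven (oy ▸ pow_orderOf_eq_one y) (p.mem_Kc.mp (mR.mp hy).1).1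
      rw [this, orderOf_one] at oy
      norm_num at oy
    omega
  intro x hx hu
  have hall : Nat.card {x : ↥R // σ x = x} = Nat.card ↥R := hfix.trans hpow.symm
  obtain ⟨⟨y, hy⟩, e⟩ := ((Nat.bijective_iff_injective_and_card (Subtype.val : {x : ↥R // σ x = x} → ↥R)).mpr
    ⟨Subtype.val_injective, hall⟩).2 ⟨x, mR.mpr ⟨hx, hu⟩⟩
  obtain rfl : y = ⟨x, mR.mpr ⟨hx, hu⟩⟩ := e
  obtain ⟨π, hπ, e'⟩ := p.fixed_d8 hx (congrArg Subtype.val hy)
  rw [← e']
  exact p.d8_four hπ (by rw [e']; exact hu)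

end Sev

end Cfsg.Lib.ConwayType.Seven
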