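import Cfsg.Agent.SelfCentThree.Arith
import Cfsg.Agent.Small.Order168
import Cfsg.Agent.ConwayType.Locals.Three.Eight

/-!
A group with a self-centralizing element of order three and two self-centralizing invariant four-groups.
-/

set_option autoImplicit false
set_option maxRecDepth 100000
set_option maxHeartbeats 1000000
set_option linter.unusedSectionVars false
set_option linter.style.haveILetI false
set_option Elab.async false

namespace Cfsg.Lib.ConwayType.Seven

open Subgroup Cfsg.Lib.SelfCentThree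

universe u

/-- The properties of the invariant four-groups. -/
structure Fixer {H : Type u} [Group H] (x : H) (D : Subgroup H) : Prop where
  two : IsPGroup 2 ↥D
  ne : D ≠ ⊥
  inv : Inv x D
  self : ∀ y : H, (∀ d ∈ D, Commute y d) → y ∈ D
  irr : ∀ Y : Subgroup H, Y ≤ D → Inv x Y → Y = ⊥ ∨ Y = D

theorem Fixer.p3 {H : Type u} [Group H] [Finite H] {x : H} {D : Subgroup H} (h : Fixer x D) : P3 D := fun h3 => by
  haveI : Fact (Nat.Prime 2) := ⟨Nat.prime_two⟩
  obtain ⟨k, hk⟩ := IsPGroup.iff_card.mp h.two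
  rw [hk] at h3
  exact absurd (Nat.prime_three.dvd_of_dvd_pow h3) (by norm_num)

/-- The group is simple of order 168. -/
theorem order_168 {H : Type u} [Group H] [Finite H] {x : H} (h : Hyp x) {E F : Subgroup H}
    (hE : Fixer x E) (hF : Fixer x F) (hne : E ≠ F) (h8 : 8 ∣ Nat.card H) :
    Nat.card H = 168 ∧ IsSimpleGroup H := by
  classical
  haveI : Fact (Nat.Prime 2) := ⟨Nat.prime_two⟩
  obtain ⟨K, hKn, hK, hi⟩ := concl h
  haveI := hKn
  have small : ∀ D : Subgroup H, Fixer x D → (K.index = 3 ∨ K.index = 6 ∨ K.index = 60) → D ≤ K := by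
    intro D hD hi'
    rcases hi' with e | e | e
    · exact le_of_index h hK (Or.inl e) hD.p3 hD.inv
    · exact le_of_index h hK (Or.inr e) hD.p3 hD.inv
    obtain ⟨-, hK2, -, -⟩ := (hi.resolve_left (by omega)).resolve_left (by omega)
    rcases hD.irr (K ⊓ D) inf_le_right (inv_of_normal.inf hD.inv) with h0 | h0
    swap
    · exact h0 ▸ inf_le_left
    exfalso
    by_cases hbot : K = ⊥
    · have := K.card_mul_index
      rw [e, hbot, card_bot, one_mul] at this
      rw [← this] at h8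
      norm_num at h8
    haveI := (Subgroup.nontrivial_iff_ne_bot K).mpr hbot
    letI : MulAction ↥D ↥K :=
      MulAction.compHom ↥K ((MulAut.conjNormal : H →* MulAut ↥K).comp D.subtype)
    have hsmul : ∀ (d : ↥D) (k : ↥K), ((d • k : ↥K) : H) = (d : H) * k * (d : H)⁻¹ := fun d k =>
      MulAut.conjNormal_apply (G := H) (H := K) (d : H) k
    have h2K : 2 ∣ Nat.card ↥K := by
      obtain ⟨k, hk⟩ := IsPGroup.iff_card.mp hK2
      rcases Nat.eq_zero_or_pos k with h0' | h0'
      · rw [h0', pow_zero] at hk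
        exact absurd (Subgroup.card_eq_one.mp hk) hbot
      · exact hk ▸ dvd_pow_self 2 h0'.ne'
    obtain ⟨k, hk, hk1⟩ := hD.two.exists_fixed_point_of_prime_dvd_card_of_fixed_point ↥K h2K
      (a := (1 : ↥K)) (fun d => Subtype.ext (by rw [hsmul]; simp))
    have hkD : (k : H) ∈ K ⊓ D := ⟨k.2, hD.self _ fun d hd => by
      have := congrArg Subtype.val (hk ⟨d, hd⟩)
      rw [hsmul] at this
      exact (mul_inv_eq_iff_eq_mul.mp this).symm⟩
    rw [h0, Subgroup.mem_bot] at hkD
    exact hk1 (Subtype.ext hkD.symm)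
  have key : ¬ (K.index = 3 ∨ K.index = 6 ∨ K.index = 60) := by
    intro hi'
    have hE' := small E hE hi'
    have hF' := small F hF hi'
    haveI : Nontrivial ↥K := (Subgroup.nontrivial_iff_ne_bot K).mpr fun e => hE.ne (le_bot_iff.mp (e ▸ hE'))
    haveI := isNilpotent h hK inv_of_normal
    let Z := (center ↥K).map K.subtype
    have hZ : Z ≠ ⊥ := fun e => Group.IsNilpotent.center_ne_bot (G := ↥K)
      ((map_eq_bot_iff_of_injective _ K.subtype_injective).mp e)
    have hinv : Inv x Z := by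
      rintro _ ⟨⟨r, hr⟩, hrz, rfl⟩
      refine ⟨⟨x * r * x⁻¹, hKn.conj_mem r hr x⟩, mem_center_iff.mpr fun ⟨y, hy⟩ => Subtype.ext ?_, rfl⟩
      have := congrArg Subtype.val (mem_center_iff.mp hrz ⟨x⁻¹ * y * x, by
        have := hKn.conj_mem y hy x⁻¹
        rwa [inv_inv] at this⟩)
      simp only [Subgroup.coe_mul] at this
      show y * (x * r * x⁻¹) = x * r * x⁻¹ * y
      calc y * (x * r * x⁻¹) = x * (x⁻¹ * y * x * r) * x⁻¹ := by group
        _ = x * (r * (x⁻¹ * y * x)) * x⁻¹ := by rw [this]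
        _ = x * r * x⁻¹ * y := by group
    have eq : ∀ D : Subgroup H, Fixer x D → D ≤ K → Z = D := fun D hD hle => by
      refine (hD.irr Z ?_ hinv).resolve_left hZ
      rintro _ ⟨r, hr, rfl⟩
      exact hD.self _ fun d hd => (congrArg Subtype.val (mem_center_iff.mp hr ⟨d, hle hd⟩)).symm
    exact hne ((eq E hE hE').symm.trans (eq F hF hF'))
  rcases hi with e | e | ⟨e | e, -, hbot, hm⟩
  · exact absurd (Or.inl e) key
  · exact absurd (Or.inr (Or.inl e)) key
  · exact absurd (Or.inr (Or.inr e)) key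
  have hb := hbot e
  subst hb
  have h168 : Nat.card H = 168 := by
    rw [← e, index_bot]
  haveI : Nontrivial H := Finite.one_lt_card_iff_nontrivial.mp (by omega)
  exact ⟨h168, ⟨fun N hN => hm N hN bot_le⟩⟩

open scoped Pointwise in
/-- An element of order seven normalised by the element of order three, unique up to the inverting involution. -/
theorem exists_seven {H : Type u} [Group H] [Finite H] {x t : H} (h : Hyp x) (ht : Inverts t x)
    (hs : IsSimpleGroup H) (hc : Nat.card H = 168) :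
    ∃ v : H, orderOf v = 7 ∧ x * v * x⁻¹ ∈ zpowers v ∧
      ∀ v', orderOf v' = 7 → x * v' * x⁻¹ ∈ zpowers v' → v' ∈ zpowers v ∨ v' ∈ zpowers (t * v * t⁻¹) := by
  classical
  haveI := hs
  haveI : Fact (Nat.Prime 7) := ⟨by norm_num⟩
  haveI : Fact (Nat.Prime 3) := ⟨Nat.prime_three⟩
  have hx3 : x ^ 3 = 1 := h.pow3
  obtain ⟨P, hP⟩ := exists_fixed (α := Sylow 7 H) (p := 3)
    (by rw [Small.Order168.card_sylow_seven hc]; norm_num) (σ := MulAction.toPerm x)
    (by rw [show (MulAction.toPerm x : Equiv.Perm (Sylow 7 H)) = MulAction.toPermHom H _ x from rfl, ← map_pow, hx3,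
      map_one])
  have hxN : x ∈ normalizer ((P : Subgroup H) : Set H) := Sylow.smul_eq_iff_mem_normalizer.mp hP
  obtain ⟨⟨v, hvP⟩, hv⟩ := exists_prime_orderOf_dvd_card' (G := ↥(P : Subgroup H)) 7
    (by rw [Small.Order168.sylow_seven_card hc P])
  rw [Subgroup.orderOf_mk] at hv
  have hPv : (P : Subgroup H) = zpowers v := (eq_of_le_of_card_ge (zpowers_le.mpr hvP)
    (by rw [Small.Order168.sylow_seven_card hc P, Nat.card_zpowers, hv])).symm
  refine ⟨v, hv, ?_, fun v' hv' hxv' => ?_⟩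
  · have := (mem_normalizer_iff.mp hxN v).mp hvP
    rwa [hPv] at this
  have h7 : Nat.factorization 168 7 = 1 := by
    rw [show (168 : ℕ) = 7 * 24 from rfl, Nat.factorization_mul (by norm_num) (by norm_num), Finsupp.add_apply,
      (by norm_num : Nat.Prime 7).factorization_self, Nat.factorization_eq_zero_of_not_dvd (by norm_num)]
  have hQ : ∃ Q : Sylow 7 H, (Q : Subgroup H) = zpowers v' :=
    ⟨Sylow.ofCard (zpowers v') (by rw [Nat.card_zpowers, hv', hc, h7, pow_one]), rfl⟩
  obtain ⟨Q, hQ⟩ := hQ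
  obtain ⟨g, hg⟩ := MulAction.exists_smul_eq H P Q
  have hxQ : x ∈ normalizer ((Q : Subgroup H) : Set H) := by
    rw [mem_normalizer_iff_map_conj_eq, hQ, MonoidHom.map_zpowers]
    refine eq_of_le_of_card_ge (zpowers_le.mpr hxv') (le_of_eq ?_)
    rw [Nat.card_zpowers, Nat.card_zpowers]
    exact ((MulAut.conj x).orderOf_eq v').symm
  have hgx : g⁻¹ * x * g ∈ normalizer ((P : Subgroup H) : Set H) := by
    refine Sylow.smul_eq_iff_mem_normalizer.mp ?_
    rw [mul_smul, mul_smul, hg, Sylow.smul_eq_iff_mem_normalizer.mpr hxQ, inv_smul_eq_iff, hg]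
  set N := normalizer ((P : Subgroup H) : Set H) with hN
  have h21 : Nat.card ↥N = 21 := Small.Order168.card_normalizer_seven hc P
  have h3 : Nat.factorization 21 3 = 1 := by
    rw [show (21 : ℕ) = 3 * 7 from rfl, Nat.factorization_mul (by norm_num) (by norm_num), Finsupp.add_apply,
      Nat.prime_three.factorization_self, Nat.factorization_eq_zero_of_not_dvd (by norm_num)]
  have syl : ∀ a : H, orderOf a = 3 → ∀ ha : a ∈ N,
      ∃ S : Sylow 3 ↥N, (S : Subgroup ↥N) = zpowers ⟨a, ha⟩ := fun a oa ha =>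
    ⟨Sylow.ofCard (zpowers (⟨a, ha⟩ : ↥N)) (by rw [Nat.card_zpowers, Subgroup.orderOf_mk, oa, h21, h3, pow_one]), rfl⟩
  obtain ⟨S1, hS1⟩ := syl x h.ord hxN
  obtain ⟨S2, hS2⟩ := syl _ (by
    have := (h.conj g⁻¹).ord
    rwa [inv_inv] at this) hgx
  obtain ⟨⟨n, hn⟩, hn'⟩ := MulAction.exists_smul_eq ↥N S2 S1
  have hmem : (⟨n, hn⟩ : ↥N) * ⟨g⁻¹ * x * g, hgx⟩ * ⟨n, hn⟩⁻¹ ∈ zpowers (⟨x, hxN⟩ : ↥N) := by
    rw [← hS1, ← hn', Sylow.coe_subgroup_smul, hS2]
    exact ⟨_, mem_zpowers _, rfl⟩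
  obtain ⟨k, hk⟩ := mem_zpowers_iff.mp hmem
  have hconj : n * g⁻¹ * x * (n * g⁻¹)⁻¹ ∈ zpowers x := by
    refine mem_zpowers_iff.mpr ⟨k, ?_⟩
    have := congrArg Subtype.val hk
    simp only [Subgroup.coe_zpow, Subgroup.coe_mul, Subgroup.coe_inv] at this
    rw [this]; group
  have hnP : n • P = P := Sylow.smul_eq_iff_mem_normalizer.mpr hn
  have hxP : ∀ y ∈ zpowers x, y • P = P := fun y hy =>
    Sylow.smul_eq_iff_mem_normalizer.mpr (zpowers_le.mpr hxN hy)
  have hv'Q : v' ∈ (Q : Subgroup H) := hQ ▸ mem_zpowers v'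
  rcases ht.normalizer_cases h hconj with e | e
  · refine Or.inl ?_
    have : g • P = P := by
      rw [show g = (n * g⁻¹)⁻¹ * n by group, mul_smul, hnP]
      exact hxP _ (inv_mem e)
    rw [← hPv, ← this, hg]
    exact hv'Q
  · refine Or.inr ?_
    have htP : g • P = t • P := by
      rw [show g = (t * (n * g⁻¹))⁻¹ * t * n by group, mul_smul, hnP, mul_smul]
      have hy := inv_mem e
      set y := (t * (n * g⁻¹))⁻¹
      have hty : t⁻¹ * y * t ∈ zpowers x := by
        obtain ⟨j, hj⟩ := mem_zpowers_iff.mp hy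
        refine mem_zpowers_iff.mpr ⟨-j, ?_⟩
        rw [← hj, ht.inv_eq, zpow_neg, ← inv_zpow, ← ht.conj, conj_zpow, ht.inv_eq]
      rw [show y • t • P = t • (t⁻¹ * y * t) • P by rw [← mul_smul, ← mul_smul]; congr 1; group, hxP _ hty]
    have : v' ∈ ((t • P : Sylow 7 H) : Subgroup H) := by rw [← htP, hg]; exact hv'Q
    rw [Sylow.coe_subgroup_smul, hPv] at this
    obtain ⟨y, hy, e'⟩ := this
    obtain ⟨j, hj⟩ := mem_zpowers_iff.mp hy
    refine mem_zpowers_iff.mpr ⟨j, ?_⟩
    rw [← e', conj_zpow, hj]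
    rfl

end Cfsg.Lib.ConwayType.Seven
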