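import Cfsg.Agent.ConwayType.Locals.Seven.Nine
import Cfsg.Agent.ConwayType.Locals.Seven.Order

/-!
The element of order seven centralized by the alternating group of degree seven.
-/

set_option autoImplicit false
set_option synthInstance.maxSize 4096
set_option maxRecDepth 100000
set_option maxHeartbeats 1000000
set_option linter.unusedSectionVars false
set_option linter.style.haveILetI false
set_option Elab.async false

namespace Cfsg.Lib.ConwayType.Seven

open Subgroup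
open Cfsg.Lib.ConwayType.Alt9 (A8 A9 emb)

universe u

variable {G : Type u} [Group G] [Finite G] {z : G}

/-- The data with the element of order seven. -/
structure Sev (z : G) extends Nine z where
  v : G
  v7 : v ^ 7 = 1
  v1 : v ≠ 1
  v_comm : ∀ π : S7, Equiv.Perm.sign π = 1 → Commute v (toNine.ψ π)
  v_w : ∃ k : ℕ, w * v * w⁻¹ = v ^ k
  v_nw : ¬ Commute w v
  v_g : toNine.ψ g7 * v * (toNine.ψ g7)⁻¹ = v⁻¹

namespace Nine

variable (p : Nine z)

theorem g7_sq : p.ψ g7 * p.ψ g7 = 1 := by rw [← map_mul, basic.2.2.1, map_one]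

theorem exists_move : ∃ c : G, c * p.ψ g7 * c⁻¹ = p.toFr.ev 68 ∧ ∃ n ∈ normalizer (p.toFr.Ag : Set G),
    p.toFr.Maps n Tri.mN ∧ n * p.toFr.ev Tri.e2 * n⁻¹ = p.toFr.ev 44 ∧
      n * p.toFr.ev Tri.e1 * n⁻¹ = p.toFr.ev 68 ∧ p.toFr.Maps (n * p.w * n⁻¹) Tri.mW68 ∧ c = n * (p.φ y9)⁻¹ := by
  obtain ⟨n, hn, hN, f1, f2, hW⟩ := p.toTri.exists_mover
  refine ⟨_, ?_, n, hn, hN, f2, f1, hW, rfl⟩
  obtain ⟨hy, -, -, he⟩ := y9_facts
  rw [← f1, ← p.toTri.iota8_e0, ← p.φ_emb, he,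
    show n * (p.φ y9)⁻¹ * p.ψ g7 * (n * (p.φ y9)⁻¹)⁻¹ = n * ((p.φ y9)⁻¹ * p.ψ g7 * p.φ y9) * n⁻¹ by group]
  congr 2
  show (p.φ y9)⁻¹ * p.φ (ext7 g7) * p.φ y9 = _
  rw [← hy, map_mul, map_mul, map_inv]
  group

theorem card_cent_g : Nat.card ↥(centralizer ({p.ψ g7} : Set G)) = 2 ^ 11 * 190080 := by
  obtain ⟨c, hc, -⟩ := p.exists_move
  rw [← p.toFr.card_Ht]
  refine Nat.card_congr ((MulAut.conj c).toEquiv.subtypeEquiv fun x => ?_)
  show x ∈ centralizer ({p.ψ g7} : Set G) ↔ c * x * c⁻¹ ∈ p.toFr.Ht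
  rw [p.toFr.mem_Ht, mem_centralizer_singleton_iff, ← hc]
  exact (Commute.conj_iff c).symm

theorem not_seven {x : G} (h7 : x ^ 7 = 1) (hc : Commute x (p.ψ g7)) : x = 1 := by
  by_contra hne
  haveI : Fact (Nat.Prime 7) := ⟨by norm_num⟩
  have h := orderOf_dvd_natCard (⟨x, mem_centralizer_singleton_iff.mpr hc⟩ :
    ↥(centralizer ({p.ψ g7} : Set G)))
  rw [Subgroup.orderOf_mk, orderOf_eq_prime h7 hne, p.card_cent_g] at h
  norm_num at h

/-- The four-group as a subgroup. -/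
noncomputable def E4 : Subgroup G where
  carrier := {x | p.toPt.InE x}
  one_mem' := Or.inl rfl
  mul_mem' ha hb := p.toPt.E_cases ha _ hb
  inv_mem' ha := p.toPt.E_inv ha

theorem E4_moves {x : G} (hx : p.toPt.InE x) : p.toPt.InE (p.w * x * p.w⁻¹) ∧ p.toPt.InE (p.τ * x * p.τ⁻¹) := by
  obtain ⟨a, b, c, d⟩ := p.toTri.moves
  have m : ∀ (g u v : G), g * u * g⁻¹ * (g * v * g⁻¹) = g * (u * v) * g⁻¹ := fun g u v => by group
  rcases hx with rfl | rfl | rfl | rfl
  · simp only [mul_one, mul_inv_cancel]; exact ⟨Or.inl rfl, Or.inl rfl⟩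
  · rw [a, c]; exact ⟨Or.inr (Or.inr (Or.inl rfl)), Or.inr (Or.inl rfl)⟩
  · rw [b, d]; exact ⟨Or.inr (Or.inr (Or.inr rfl)), Or.inr (Or.inr (Or.inr rfl))⟩
  · rw [← m p.w z, ← m p.τ z, a, b, c, d]
    refine ⟨Or.inr (Or.inl ?_), Or.inr (Or.inr (Or.inl ?_))⟩
    · rw [← mul_assoc, ← p.toPt.sz.symm.eq, mul_assoc, p.toPt.ss, mul_one]
    · rw [← mul_assoc, p.X.zz, one_mul]

theorem s_not_fixed : ¬ Commute p.τ p.s := fun h => by
  have := p.toTri.moves.2.2.2
  rw [h.eq, mul_inv_cancel_right] at this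
  exact p.X.ne (mul_eq_right.mp this.symm)

/-- The outer involution does not normalise the four-group. -/
theorem g7_moves : ¬ p.toPt.InE (p.ψ g7 * z * (p.ψ g7)⁻¹) := by
  intro h
  obtain ⟨hgw, hgt⟩ := p.ψ_w g7
  set g := p.ψ g7 with hg
  obtain ⟨a, b, c, d⟩ := p.toTri.moves
  have hfix : Commute p.τ (g * z * g⁻¹) :=
    (hgt.symm.mul_right (mul_inv_eq_iff_eq_mul.mp c : p.τ * z = z * p.τ)).mul_right hgt.symm.inv_right
  have hgz : g * z * g⁻¹ = z := by
    rcases h with e | e | e | e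
    · exact absurd (conj_eq_one_iff.mp e) p.X.ne
    · exact e
    · exact absurd (e ▸ hfix) p.s_not_fixed
    · have hz' : Commute p.τ z := mul_inv_eq_iff_eq_mul.mp c
      exact absurd (by
        have := hz'.mul_right (e ▸ hfix)
        rwa [← mul_assoc, p.X.zz, one_mul] at this) p.s_not_fixed
  have hgz' : Commute g z := mul_inv_eq_iff_eq_mul.mp hgz
  have hgs : Commute g p.s := by
    rw [← a]
    exact (hgw.mul_right hgz').mul_right hgw.inv_right
  obtain ⟨π, hπ⟩ := p.toTri.iota8_range (p.toTri.mem_L8.mpr ⟨p.toPt.mem_Tg.mpr ⟨hgz', hgs⟩, hgw⟩)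
  have e : emb π = ext7 g7 := p.φ_inj (by rw [p.φ_emb, hπ]; rfl)
  have h8 := Alt9.emb_last π
  rw [e, ext7_apply] at h8
  revert h8
  decide +kernel

theorem w_sq : p.w * p.w ≠ 1 := fun e => by
  have := p.toTri.w3
  rw [e, one_mul] at this
  exact p.toTri.w_ne this

include p in
/-- An element of order seven. -/
theorem exists_sev : Nonempty (Sev z) := by
  classical
  haveI : Fact (Nat.Prime 7) := ⟨by norm_num⟩
  obtain ⟨hgw, hgt⟩ := p.ψ_w g7
  have hg2 := p.g7_sq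
  have gi : (p.ψ g7)⁻¹ = p.ψ g7 := inv_eq_of_mul_eq_one_right hg2
  have hgK : ∀ {x : G}, x ∈ p.K7 → p.ψ g7 * x * (p.ψ g7)⁻¹ ∈ p.K7 := fun {x} hx => p.K7_conj g7 hx
  set g := p.ψ g7 with hg
  let wK : ↥p.K7 := ⟨p.w, p.w_K7⟩
  let tK : ↥p.K7 := ⟨p.τ, p.t_K7⟩
  have ow : orderOf wK = 3 := by rw [Subgroup.orderOf_mk]; exact p.toTri.w_order
  have hH : SelfCentThree.Hyp wK := ⟨ow, fun y hy => by
    obtain ⟨k, hk⟩ := p.cent_w y.2 (congrArg Subtype.val hy.eq)
    exact mem_zpowers_iff.mpr ⟨k, Subtype.ext (by rw [zpow_natCast, SubmonoidClass.coe_pow]; exact hk.symm)⟩⟩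
  have hT : SelfCentThree.Inverts tK wK := ⟨Subtype.ext p.tt, Subtype.ext p.inv⟩
  -- the two four-groups
  have winv : ∀ {D : Subgroup G}, (∀ x ∈ D, p.w * x * p.w⁻¹ ∈ D) → SelfCentThree.Inv wK (D.subgroupOf p.K7) :=
    fun hD r hr => mem_subgroupOf.mpr (hD _ (mem_subgroupOf.mp hr))
  have moveE := p.toTri.moves
  have irrE : ∀ Y : Subgroup G, Y ≤ p.E4 → (∀ y ∈ Y, p.w * y * p.w⁻¹ ∈ Y) → Y = ⊥ ∨ Y = p.E4 := by
    intro Y hY hinv
    by_cases hb : Y = ⊥
    · exact Or.inl hb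
    refine Or.inr (le_antisymm hY ?_)
    obtain ⟨y, hy, hy1⟩ := Y.bot_or_exists_ne_one.resolve_left hb
    obtain ⟨a, b, -, -⟩ := moveE
    have c : p.w * (z * p.s) * p.w⁻¹ = z := by
      rw [show p.w * (z * p.s) * p.w⁻¹ = p.w * z * p.w⁻¹ * (p.w * p.s * p.w⁻¹) by group, a, b, ← mul_assoc,
        ← p.toPt.sz.symm.eq, mul_assoc, p.toPt.ss, mul_one]
    have all : z ∈ Y ∧ p.s ∈ Y := by
      rcases hY hy with e | e | e | e
      · exact absurd e hy1
      · subst e; exact ⟨hy, a ▸ hinv _ hy⟩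
      · subst e
        have h2 := hinv _ hy
        rw [b] at h2
        exact ⟨c ▸ hinv _ h2, hy⟩
      · subst e
        have h2 := hinv _ hy
        rw [c] at h2
        exact ⟨h2, a ▸ hinv _ h2⟩
    rintro x (rfl | rfl | rfl | rfl)
    exacts [one_mem _, all.1, all.2, mul_mem all.1 all.2]
  have hE : Fixer wK (p.E4.subgroupOf p.K7) := by
    refine ⟨fun x => ⟨1, Subtype.ext (Subtype.ext ?_)⟩, fun e => ?_, winv fun x hx => (p.E4_moves hx).1, fun y hy => ?_,
      fun Y hY hI => ?_⟩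
    · rw [pow_one, pow_two]
      exact p.toPt.E_sq (mem_subgroupOf.mp x.2)
    · have h : (⟨z, p.E_K7 (Or.inr (Or.inl rfl))⟩ : ↥p.K7) ∈ p.E4.subgroupOf p.K7 :=
        mem_subgroupOf.mpr (Or.inr (Or.inl rfl))
      rw [e, Subgroup.mem_bot] at h
      exact p.X.ne (congrArg Subtype.val h)
    · refine mem_subgroupOf.mpr (p.cent_E y.2 ?_ ?_)
      · exact congrArg Subtype.val (hy ⟨z, p.E_K7 (Or.inr (Or.inl rfl))⟩ (mem_subgroupOf.mpr (Or.inr (Or.inl rfl)))).eq
      · exact congrArg Subtype.val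
          (hy ⟨p.s, p.E_K7 (Or.inr (Or.inr (Or.inl rfl)))⟩ (mem_subgroupOf.mpr (Or.inr (Or.inr (Or.inl rfl))))).eq
    · rcases irrE (Y.map p.K7.subtype) (by
          rintro _ ⟨y, hy, rfl⟩
          exact mem_subgroupOf.mp (hY hy)) (by
          rintro _ ⟨y, hy, rfl⟩
          exact ⟨_, hI y hy, rfl⟩) with e | e
      · exact Or.inl ((map_eq_bot_iff_of_injective _ p.K7.subtype_injective).mp e)
      · refine Or.inr ?_
        rw [← e]
        exact (comap_map_eq_self_of_injective p.K7.subtype_injective Y).symm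
  let α : ↥p.K7 →* ↥p.K7 :=
    ((MulAut.conj g).toMonoidHom.comp p.K7.subtype).codRestrict p.K7 fun x => hgK x.2
  have hαα : ∀ x, α (α x) = x := fun x => Subtype.ext (by
    show g * (g * x * g⁻¹) * g⁻¹ = x
    rw [show g * (g * (x : G) * g⁻¹) * g⁻¹ = g * g * x * (g * g)⁻¹ by group, hg2, inv_one, one_mul, mul_one])
  have hαw : α wK = wK := Subtype.ext (mul_inv_eq_iff_eq_mul.mpr hgw.eq)
  set E1 := p.E4.subgroupOf p.K7 with hE1
  have memα : ∀ y, y ∈ E1.comap α ↔ α y ∈ E1 := fun y => Iff.rfl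
  have hF : Fixer wK (E1.comap α) := by
    have hinj : Function.Injective α := Function.LeftInverse.injective hαα
    refine ⟨hE.two.comap_of_injective α hinj, fun e => ?_, ?_, fun y hy => ?_, fun Y hY hI => ?_⟩
    · obtain ⟨y, hy, hy1⟩ := E1.bot_or_exists_ne_one.resolve_left hE.ne
      have : α y ∈ E1.comap α := by rw [memα, hαα]; exact hy
      rw [e, Subgroup.mem_bot] at this
      exact hy1 (by rw [← hαα y, this, map_one])
    · have := SelfCentThree.Inv.comap α (R := E1) (x := wK) (by rw [hαw]; exact hE.inv)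
      exact this
    · rw [memα]
      refine hE.self _ fun d hd => ?_
      have hd' := (hy (α d) (by rw [memα, hαα]; exact hd)).map α
      rwa [hαα] at hd'
    · rcases hE.irr (Y.comap α) (fun y hy => by
          have := hY hy
          rw [memα, hαα] at this
          exact this) (SelfCentThree.Inv.comap α (R := Y) (x := wK) (by rw [hαw]; exact hI)) with e | e
      · refine Or.inl ((eq_bot_iff_forall Y).mpr fun y hy => ?_)
        have : α y ∈ Y.comap α := by rw [mem_comap, hαα]; exact hy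
        rw [e, Subgroup.mem_bot] at this
        rw [← hαα y, this, map_one]
      · refine Or.inr (le_antisymm hY fun y hy => ?_)
        rw [memα] at hy
        rw [← hαα y]
        exact (e ▸ hy : α y ∈ Y.comap α)
  have hne : E1 ≠ E1.comap α := fun e => p.g7_moves (by
    have h : (⟨z, p.E_K7 (Or.inr (Or.inl rfl))⟩ : ↥p.K7) ∈ E1 := mem_subgroupOf.mpr (Or.inr (Or.inl rfl))
    rw [e, memα] at h
    exact mem_subgroupOf.mp h)
  have h8 : 8 ∣ Nat.card ↥p.K7 := by
    let S : Subgroup G := p.E4 ⊔ zpowers p.τ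
    have hS : IsPGroup 2 ↥S := by
      refine IsPGroup.to_sup_of_normal_left' (fun x => ⟨1, Subtype.ext ?_⟩) (IsPGroup.of_card (n := 1) ?_)
        (zpowers_le.mpr ?_)
      · rw [SubmonoidClass.coe_pow, pow_one, pow_two]; exact p.toPt.E_sq x.2
      · rw [Nat.card_zpowers, pow_one]
        exact orderOf_eq_prime (by rw [pow_two]; exact p.tt) fun e => p.s_not_fixed (e ▸ Commute.one_left _)
      · rw [mem_set_normalizer_iff]
        refine fun x => ⟨fun hx => (p.E4_moves hx).2, fun hx => ?_⟩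
        have := (p.E4_moves hx).2
        rwa [show p.τ * (p.τ * x * p.τ⁻¹) * p.τ⁻¹ = p.τ * p.τ * x * (p.τ * p.τ)⁻¹ by group, p.tt, inv_one, one_mul,
          mul_one] at this
    have hSK : S ≤ p.K7 := sup_le (fun x hx => p.E_K7 hx) (zpowers_le.mpr p.t_K7)
    obtain ⟨k, hk⟩ := IsPGroup.iff_card.mp hS
    have h5 : 5 ≤ Nat.card ↥S := by
      have mE : ∀ {x}, p.toPt.InE x → x ∈ S := fun hx => mem_sup_left hx
      let f : Fin 5 → ↥S := ![1, ⟨z, mE (Or.inr (Or.inl rfl))⟩, ⟨p.s, mE (Or.inr (Or.inr (Or.inl rfl)))⟩,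
        ⟨z * p.s, mE (Or.inr (Or.inr (Or.inr rfl)))⟩, ⟨p.τ, mem_sup_right (mem_zpowers _)⟩]
      have t1 : p.τ ≠ 1 := fun e => p.s_not_fixed (e ▸ Commute.one_left _)
      have t2 : p.τ ≠ z := fun e => p.s_not_fixed (by rw [e]; exact p.toPt.sz.symm)
      have t3 : p.τ ≠ p.s := fun e => p.s_not_fixed (e ▸ Commute.refl _)
      have t4 : p.τ ≠ z * p.s := fun e => p.s_not_fixed (e ▸ p.toPt.sz.symm.mul_left (Commute.refl _))
      obtain ⟨n1, n2, n3⟩ := p.toPt.zs_ne
      obtain ⟨m1, m2⟩ := p.toPt.s_ne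
      have m0 := p.X.ne
      have hnd : ([1, z, p.s, z * p.s, p.τ] : List G).Nodup := by
        simp only [List.nodup_cons, List.mem_cons, List.not_mem_nil, or_false, not_or, List.nodup_nil, and_true]
        exact ⟨⟨m0.symm, m1.symm, n1.symm, t1.symm⟩, ⟨m2.symm, n2.symm, t2.symm⟩, ⟨n3.symm, t3.symm⟩, t4.symm,
          not_false⟩
      have hf : Function.Injective f := fun a b e => by
        have e' : ([1, z, p.s, z * p.s, p.τ] : List G)[a.val]'(by simp [a.isLt]) =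
            ([1, z, p.s, z * p.s, p.τ] : List G)[b.val]'(by simp [b.isLt]) := by
          have := congrArg Subtype.val e
          fin_cases a <;> fin_cases b <;> exact this
        exact Fin.ext ((hnd.getElem_inj_iff).mp e')
      simpa using Nat.card_le_card_of_injective f hf
    have hk3 : 3 ≤ k := by
      by_contra hk'
      have := Nat.pow_le_pow_right (n := 2) two_pos (show k ≤ 2 by omega)
      omega
    exact (pow_dvd_pow 2 hk3).trans (hk ▸ card_dvd_of_le hSK)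
  obtain ⟨h168, hsimple⟩ := order_168 hH hE hF hne h8
  obtain ⟨vK, ov, hwv, huniq⟩ := exists_seven hH hT hsimple h168
  set v : G := (vK : G) with hvdef
  have v7 : v ^ 7 = 1 := by
    rw [hvdef, ← SubmonoidClass.coe_pow, ← ov, pow_orderOf_eq_one, OneMemClass.coe_one]
  have v1 : v ≠ 1 := fun e => by
    rw [show vK = 1 from Subtype.ext e, orderOf_one] at ov
    norm_num at ov
  have ovG : orderOf v = 7 := orderOf_eq_prime v7 v1
  obtain ⟨a, ha⟩ : ∃ k : ℕ, p.w * v * p.w⁻¹ = v ^ k := by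
    rw [← mem_powers_iff_mem_zpowers, Submonoid.mem_powers_iff] at hwv
    obtain ⟨k, hk⟩ := hwv
    exact ⟨k, (congrArg Subtype.val hk).symm⟩
  have hnw : ¬ Commute p.w v := fun h => by
    obtain ⟨k, hk⟩ := p.cent_w vK.2 h.symm
    have : v ^ 3 = 1 := by rw [hvdef, hk, ← pow_mul, mul_comm, pow_mul, p.toTri.w_pow3, one_pow]
    have := ovG ▸ orderOf_dvd_of_pow_eq_one this
    norm_num at this
  have pow_eq : ∀ {i j : ℕ}, v ^ i = v ^ j → i % 7 = j % 7 := fun {i j} h => by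
    have := pow_eq_pow_iff_modEq.mp h
    rw [ovG] at this
    exact this
  have pow_mod : ∀ {i j : ℕ}, i % 7 = j % 7 → v ^ i = v ^ j := fun {i j} h => by
    rw [← pow_mod_orderOf v i, ← pow_mod_orderOf v j, ovG, h]
  have conjpow : ∀ (c u : G) (n : ℕ), c * u ^ n * c⁻¹ = (c * u * c⁻¹) ^ n := fun c u n => (conj_pow).symm
  have ha3 : a * a * a % 7 = 1 := by
    refine (pow_eq (i := a * a * a) (j := 1) ?_).trans (by norm_num)
    rw [pow_mul, pow_mul, ← ha, ← conjpow, ← ha,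
      show p.w * (p.w * v * p.w⁻¹) * p.w⁻¹ = p.w * p.w * v * (p.w * p.w)⁻¹ by group, ← conjpow, ← ha,
      show p.w * p.w * (p.w * v * p.w⁻¹) * (p.w * p.w)⁻¹ = p.w * p.w * p.w * v * (p.w * p.w * p.w)⁻¹ by group,
      p.toTri.w3]
    simp
  refine ⟨⟨p, v, v7, v1, fun π hπ => p.mem_K7.mp vK.2 π hπ, ⟨a, ha⟩, hnw, ?_⟩⟩
  show g * v * g⁻¹ = v⁻¹
  have ov' : orderOf (α vK) = 7 := by
    rw [← ov]
    exact orderOf_injective α (Function.LeftInverse.injective hαα) vK
  have hwv' : wK * α vK * wK⁻¹ ∈ zpowers (α vK) := by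
    obtain ⟨k, hk⟩ := mem_zpowers_iff.mp hwv
    refine mem_zpowers_iff.mpr ⟨k, ?_⟩
    rw [← map_zpow, hk, map_mul, map_mul, map_inv, hαw]
  rcases huniq _ ov' hwv' with h | h
  · rw [← mem_powers_iff_mem_zpowers, Submonoid.mem_powers_iff] at h
    obtain ⟨j, hj⟩ := h
    have hj' : g * v * g⁻¹ = v ^ j := (congrArg Subtype.val hj).symm
    have h2 : j * j % 7 = 1 := by
      refine (pow_eq (i := j * j) (j := 1) ?_).trans (by norm_num)
      rw [pow_mul, ← hj', ← conjpow, ← hj',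
        show g * (g * v * g⁻¹) * g⁻¹ = g * g * v * (g * g)⁻¹ by group, hg2]
      simp
    have hcases : j % 7 = 1 ∨ j % 7 = 6 := by
      rw [Nat.mul_mod] at h2
      have := Nat.mod_lt j (show 7 > 0 by norm_num)
      generalize j % 7 = r at h2 this ⊢
      interval_cases r <;> simp_all
    rcases hcases with e | e
    · rw [pow_mod (show j % 7 = 1 % 7 from e), pow_one] at hj'
      exact absurd (p.not_seven v7 (show Commute v g from (mul_inv_eq_iff_eq_mul.mp hj').symm)) v1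
    · rw [hj', pow_mod (show j % 7 = 6 % 7 from e)]
      exact eq_inv_of_mul_eq_one_left (by rw [← pow_succ, v7])
  · exfalso
    rw [← mem_powers_iff_mem_zpowers, Submonoid.mem_powers_iff] at h
    obtain ⟨j, hj⟩ := h
    have hj' : g * v * g⁻¹ = p.τ * v ^ j * p.τ⁻¹ := by
      have := (congrArg Subtype.val hj).symm
      rw [SubmonoidClass.coe_pow] at this
      rw [conjpow]
      exact this
    have hj0 : j % 7 ≠ 0 := fun e => by
      rw [pow_mod (show j % 7 = 0 % 7 from e), pow_zero, mul_one, mul_inv_cancel, conj_eq_one_iff] at hj'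
      exact v1 hj'
    obtain ⟨x, hx⟩ : ∃ x, x = p.τ * g := ⟨_, rfl⟩
    have hxv : x * v * x⁻¹ = v ^ j := by
      rw [hx, show p.τ * g * v * (p.τ * g)⁻¹ = p.τ * (g * v * g⁻¹) * p.τ⁻¹ by group, hj',
        show p.τ * (p.τ * v ^ j * p.τ⁻¹) * p.τ⁻¹ = p.τ * p.τ * v ^ j * (p.τ * p.τ)⁻¹ by group, p.tt]
      simp
    have hxw : x * p.w * x⁻¹ = p.w⁻¹ := by
      rw [hx, show p.τ * g * p.w * (p.τ * g)⁻¹ = p.τ * (g * p.w * g⁻¹) * p.τ⁻¹ by group,
        mul_inv_eq_iff_eq_mul.mpr hgw.eq, p.inv]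
    have h1 : p.w⁻¹ * v ^ j * p.w = v ^ (j * a) := by
      have := congrArg (fun y => x * y * x⁻¹) ha
      simp only [conjpow x v a, hxv, ← pow_mul] at this
      rw [← this, show x * (p.w * v * p.w⁻¹) * x⁻¹ = x * p.w * x⁻¹ * (x * v * x⁻¹) * (x * p.w * x⁻¹)⁻¹ by group,
        hxw, hxv, inv_inv]
    have h2 : v ^ j = v ^ (a * (j * a)) := by
      rw [pow_mul, ← ha, ← conjpow, ← h1]; group
    have h3 := pow_eq h2
    have ha1 : a % 7 = 1 := by
      rw [Nat.mul_mod, Nat.mul_mod j a] at h3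
      rw [Nat.mul_mod, Nat.mul_mod a a] at ha3
      have hr := Nat.mod_lt a (show 7 > 0 by norm_num)
      have hs := Nat.mod_lt j (show 7 > 0 by norm_num)
      revert h3 ha3 hj0
      generalize a % 7 = r at hr ⊢
      generalize j % 7 = s at hs ⊢
      interval_cases r <;> interval_cases s <;> simp
    refine hnw (mul_inv_eq_iff_eq_mul.mp ?_)
    rw [ha, pow_mod (show a % 7 = 1 % 7 from ha1), pow_one]

end Nine

/-- Such data exist. -/
theorem exists_sev (p : Fr z) : Nonempty (Sev z) := by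
  obtain ⟨t⟩ := p.exists_tri
  obtain ⟨q⟩ := exists_nine t
  exact q.exists_sev

end Cfsg.Lib.ConwayType.Seven
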