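import Cfsg.Agent.ConwayType.Pair

/-!
An element of order seven in the isometry group generates its centralizer, and the consequence in a group of
Conway type.
-/

set_option autoImplicit false
set_option maxRecDepth 100000
set_option maxHeartbeats 1000000
set_option linter.unusedSectionVars false
set_option linter.style.haveILetI false
set_option Elab.async false

namespace Cfsg.Lib.ConwayType.Seven

open Subgroup Cfsg.Lib.ConwayType.Code

/-- Siegel pairs for the element of order seven. -/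
def gSeven : List (ℕ × ℕ) := g2 ++ [(1, 238)]

/-- The action of the element of order seven. -/
def cSeven (x : ℕ) : ℕ := wact gSeven [4, 0, 1, 3, 4] x

/-- The coordinates of a vector of the section in a cyclic basis. -/
def coSeven (v : ℕ) : ℕ :=
  ([(1, 1), (2, 63), (3, 38), (5, 6), (6, 48), (7, 50)] : List (ℕ × ℕ)).foldr
    (fun e a => (bif v.testBit e.1 then e.2 else 0) ^^^ a) 0

/-- The linear map with given values on 1, 16 and the cyclic vector. -/
def linSeven (s y v : ℕ) : ℕ :=
  (bif v.testBit 0 then s else 0) ^^^ ((bif v.testBit 4 then s ^^^ 17 else 0) ^^^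
    (List.range 6).foldr (fun i a => (bif (coSeven v).testBit i then cSeven^[i] y else 0) ^^^ a) 0)

theorem gSeven_ok : ∀ t ∈ gSeven, t.1 < 256 ∧ t.2 < 256 ∧ qB t.1 = false ∧ pB t.1 t.2 = false := by decide +kernel

theorem cSeven_facts : (∀ x < 256, cSeven x = x → x ∈ ([0, 1, 16, 17] : List ℕ)) ∧
    (∀ x ∈ ([0, 1, 16, 17] : List ℕ), cSeven x = x) ∧
    (∀ x < 256, cSeven^[7] x = x) ∧ qB 17 = true ∧ cSeven 2 ≠ 2 ∧
    (∀ v < 256, pB 1 v = false → pB 16 v = false → v ∈ W) := by decide +kernel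

theorem linSeven_id : ∀ v < 256, linSeven 1 2 v = v := by decide +kernel

/-- An isometry commuting with the element of order seven is one of its powers. -/
theorem linSeven_power : (([1, 16] : List ℕ).all fun s => W.all fun y =>
    !((List.range 256).all fun v => qB (linSeven s y v) == qB v) ||
      !(([1, 4, 16, 64, 256] : List ℕ).contains ((List.range 256).countP fun v => linSeven s y v == v)) ||
      (List.range 7).any fun k => (List.range 256).all fun v => linSeven s y v == cSeven^[k] v) = true := by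
  decide +kernel

theorem exists_gen : ∃ g ∈ Om, g ^ 7 = 1 ∧ g ≠ 1 ∧ ∀ x < 256, cd g x = cSeven x := by
  obtain ⟨g, hg, he⟩ := exists_word gSeven gSeven_ok [4, 0, 1, 3, 4] (by decide)
  have hpow : ∀ (k : ℕ) {x : ℕ}, x < 256 → cd (g ^ k) x = cSeven^[k] x := fun k x hx => by
    induction k with
    | zero => rw [pow_zero, cd_one hx]; rfl
    | succ k ih =>
      rw [pow_succ', cd_mul, Function.iterate_succ_apply', ← ih]
      exact he _ (cd_lt _ _)
  refine ⟨g, hg, cd_ext fun x hx => ?_, fun e => ?_, he⟩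
  · rw [hpow 7 hx, cd_one hx]; exact cSeven_facts.2.2.1 x hx
  · have := he 2 (by norm_num)
    rw [e, cd_one (by norm_num)] at this
    exact cSeven_facts.2.2.2.2.1 this.symm

/-- Its centralizer. -/
theorem gen_cent {g : O8} (hg : ∀ x < 256, cd g x = cSeven x) {x : O8} (hx : x ∈ Om) (hc : Commute x g) :
    ∃ k : ℕ, x = g ^ k := by
  have hpow : ∀ (k : ℕ) {v : ℕ}, v < 256 → cd (g ^ k) v = cSeven^[k] v := fun k v hv => by
    induction k with
    | zero => rw [pow_zero, cd_one hv]; rfl
    | succ k ih =>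
      rw [pow_succ', cd_mul, Function.iterate_succ_apply', ← ih]
      exact hg _ (cd_lt _ _)
  obtain ⟨hfix, hfix', -, q17, -, hW⟩ := cSeven_facts
  have hmove : ∀ v < 256, cd x (cSeven v) = cSeven (cd x v) := fun v hv => by
    rw [← hg v hv, ← cd_mul, hc.eq, cd_mul, hg _ (cd_lt _ _)]
  have hF : ∀ v ∈ ([0, 1, 16, 17] : List ℕ), cd x v ∈ ([0, 1, 16, 17] : List ℕ) := fun v hv => by
    have hl : v < 256 := (by decide : ∀ v ∈ ([0, 1, 16, 17] : List ℕ), v < 256) v hv
    refine hfix _ (cd_lt _ _) ?_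
    rw [← hmove v hl, hfix' v hv]
  have hne : ∀ v < 256, v ≠ 0 → cd x v ≠ 0 := fun v hv h0 e =>
    h0 (cd_inj x hv (by norm_num) (e.trans (cd_zero x).symm))
  have sing : ∀ v ∈ ([1, 16] : List ℕ), cd x v = 1 ∨ cd x v = 16 := by
    intro v hv
    have hl : v < 256 := (by decide : ∀ v ∈ ([1, 16] : List ℕ), v < 256) v hv
    have h := hF v ((by decide : ∀ v ∈ ([1, 16] : List ℕ), v ∈ ([0, 1, 16, 17] : List ℕ)) v hv)
    simp only [List.mem_cons, List.not_mem_nil, or_false] at h
    rcases h with h | h | h | h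
    · exact absurd h (hne v hl ((by decide : ∀ v ∈ ([1, 16] : List ℕ), v ≠ 0) v hv))
    · exact Or.inl h
    · exact Or.inr h
    · have := cd_q x hl
      rw [h, q17, (by decide +kernel : ∀ v ∈ ([1, 16] : List ℕ), qB v = false) v hv] at this
      exact Bool.noConfusion this
  set s := cd x 1 with hs
  have hs1 : s = 1 ∨ s = 16 := sing 1 (by simp)
  have h16 : cd x 16 = s ^^^ 17 := by
    have hne' : cd x 16 ≠ s := fun e => absurd (cd_inj x (by norm_num) (by norm_num) e) (by norm_num)
    rcases hs1 with e | e <;> rcases sing 16 (by simp) with e' | e' <;>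
      first
        | exact absurd (e'.trans e.symm) hne'
        | (rw [e, e']; rfl)
  set y := cd x 2 with hy
  have hyW : y ∈ W := by
    have hp : ∀ v ∈ ([1, 16] : List ℕ), pB (cd x v) y = false := fun v hv => by
      rw [hy, cd_p x ((by decide : ∀ v ∈ ([1, 16] : List ℕ), v < 256) v hv) (by norm_num)]
      exact (by decide +kernel : ∀ v ∈ ([1, 16] : List ℕ), pB v 2 = false) v hv
    have p1 := hp 1 (by simp)
    have p2 := hp 16 (by simp)
    rw [h16] at p2
    rcases hs1 with e | e <;> rw [← hs, e] at p1 <;> rw [e] at p2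
    · exact hW y (cd_lt _ _) p1 p2
    · exact hW y (cd_lt _ _) p2 p1
  have hit : ∀ i : ℕ, cd x (cSeven^[i] 2) = cSeven^[i] y := fun i => by
    rw [← hpow i (by norm_num : 2 < 256), ← cd_mul, (hc.pow_right i).eq, cd_mul, hpow i (cd_lt _ _), hy]
  have hlin : ∀ v < 256, cd x v = linSeven s y v := by
    intro v hv
    conv_lhs => rw [← linSeven_id v hv]
    unfold linSeven
    rw [cd_xor, cd_xor, cd_bif, cd_bif, show (1 : ℕ) ^^^ 17 = 16 from rfl, h16, ← hs]
    congr 2
    have key : ∀ l : List ℕ, cd x (l.foldr (fun i a => (bif (coSeven v).testBit i then cSeven^[i] 2 else 0) ^^^ a) 0) =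
        l.foldr (fun i a => (bif (coSeven v).testBit i then cSeven^[i] y else 0) ^^^ a) 0 := by
      intro l
      induction l with
      | nil => exact cd_zero x
      | cons i l ih => rw [List.foldr_cons, List.foldr_cons, cd_xor, ih, cd_bif, hit]
    exact key _
  have hall := List.all_eq_true.mp (List.all_eq_true.mp linSeven_power s (by rcases hs1 with e | e <;> simp [e])) y hyW
  simp only [Bool.or_eq_true, Bool.not_eq_true', List.any_eq_true, List.all_eq_true, List.mem_range, beq_iff_eq] at hall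
  rcases hall with (h | h) | ⟨k, -, hk⟩
  · rw [List.all_eq_false] at h
    obtain ⟨v, hv, hv'⟩ := h
    refine absurd (beq_iff_eq.mpr ?_) hv'
    rw [← hlin v (List.mem_range.mp hv), cd_q x (List.mem_range.mp hv)]
  · exfalso
    have hcount : (fixSet x).card = (List.range 256).countP fun v => linSeven s y v == v := by
      rw [List.countP_eq_length_filter, ← List.toFinset_card_of_nodup (List.nodup_range.filter _)]
      congr 1
      ext v
      simp only [mem_fixSet, List.mem_toFinset, List.mem_filter, List.mem_range, beq_iff_eq]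
      exact and_congr_right fun hv => by rw [hlin v hv]
    have hmem := fix_count hx
    rw [hcount] at hmem
    rw [List.contains_iff_mem.mpr hmem] at h
    exact Bool.noConfusion h
  · exact ⟨k, cd_ext fun v hv => by rw [hlin v hv, hpow k hv, hk v hv]⟩

/-- An element commuting with an element of order seven has seventh power one. -/
theorem seven_cent {g x : O8} (hg : g ∈ Om) (h7 : g ^ 7 = 1) (h1 : g ≠ 1) (hx : x ∈ Om) (hc : Commute x g) :
    x ^ 7 = 1 := by
  classical
  haveI : Fact (Nat.Prime 7) := ⟨by norm_num⟩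
  obtain ⟨g0, hg0, g07, g01, hcd⟩ := exists_gen
  have hOm : Nat.card ↥Om = 174182400 := by
    have hcoe : ∀ (q' : (Fin 4 ⊕ Fin 4 → ZMod 2) → ZMod 2), q' = ⇑qf →
        Nat.card ↥(Cfsg.Omega (ZMod 2) q') = Nat.card ↥Om := fun q' e => by subst e; rfl
    rw [← hcoe _ qf_coe.symm]
    exact card_omega
  have hsylow : ∀ (a : O8) (ha : a ∈ Om), a ^ 7 = 1 → a ≠ 1 →
      ∃ S : Sylow 7 ↥Om, (S : Subgroup ↥Om) = zpowers ⟨a, ha⟩ := by
    intro a ha a7 a1
    have ho : orderOf (⟨a, ha⟩ : ↥Om) = 7 :=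
      orderOf_eq_prime (Subtype.ext a7) fun e => a1 (congrArg Subtype.val e)
    refine ⟨Sylow.ofCard (zpowers ⟨a, ha⟩) ?_, rfl⟩
    rw [Nat.card_zpowers, ho, hOm, show (174182400 : ℕ) = 7 * 24883200 from rfl,
      Nat.factorization_mul (by norm_num) (by norm_num), Finsupp.add_apply, (by norm_num : Nat.Prime 7).factorization_self,
      Nat.factorization_eq_zero_of_not_dvd (by norm_num), add_zero, pow_one]
  obtain ⟨S, hS⟩ := hsylow g hg h7 h1
  obtain ⟨S0, hS0⟩ := hsylow g0 hg0 g07 g01
  obtain ⟨⟨d, hd⟩, hd'⟩ := MulAction.exists_smul_eq ↥Om S S0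
  have hm : (⟨d, hd⟩ : ↥Om) * ⟨g, hg⟩ * ⟨d, hd⟩⁻¹ ∈ zpowers (⟨g0, hg0⟩ : ↥Om) := by
    rw [← hS0, ← hd', Sylow.coe_subgroup_smul, hS]
    exact ⟨⟨g, hg⟩, mem_zpowers _, rfl⟩
  rw [← mem_powers_iff_mem_zpowers, Submonoid.mem_powers_iff] at hm
  obtain ⟨i, hi⟩ := hm
  have hi' : g0 ^ i = d * g * d⁻¹ := congrArg Subtype.val hi
  have hcx : Commute (d * x * d⁻¹) (g0 ^ i) := hi' ▸ (Commute.conj_iff d).mpr hc
  have hcop : Nat.Coprime i (orderOf g0) := by
    rw [orderOf_eq_prime g07 g01, Nat.coprime_comm, (by norm_num : Nat.Prime 7).coprime_iff_not_dvd]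
    rintro ⟨j, rfl⟩
    rw [pow_mul, g07, one_pow] at hi'
    exact h1 (conj_eq_one_iff.mp hi'.symm)
  obtain ⟨m, hm⟩ := exists_pow_eq_self_of_coprime hcop
  have hcx' : Commute (d * x * d⁻¹) g0 := hm ▸ hcx.pow_right m
  obtain ⟨k, hk⟩ := gen_cent hcd (mul_mem (mul_mem hd hx) (inv_mem hd)) hcx'
  have : (d * x * d⁻¹) ^ 7 = 1 := by rw [hk, ← pow_mul, mul_comm, pow_mul, g07, one_pow]
  rwa [conj_pow, conj_eq_one_iff] at this

end Cfsg.Lib.ConwayType.Seven

namespace Cfsg.Lib.ConwayType

open Subgroup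

universe u

variable {G : Type u} [Group G] [Finite G] {z : G}

namespace Pt

variable (p : Pt z)

include p in
/-- Involutions commuting with z and an element of order seven are z-type, and no element of order three does. -/
theorem seven_commuting {v x : G} (hv : Commute v z) (hv7 : v ^ 7 = 1) (hv1 : v ≠ 1) (hx : Commute x z)
    (hc : Commute x v) : (x * x = 1 → x ≠ 1 → IsConj z x) ∧ (x * x * x = 1 → x = 1) := by
  have hm : Commute (p.toCtx.m x) (p.toCtx.m v) := by
    show _ = _
    rw [← p.toCtx.m_mul hx hv, hc.eq, p.toCtx.m_mul hv hx]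
  have hpow : ∀ {a : G}, Commute a z → ∀ n : ℕ, p.toCtx.m (a ^ n) = p.toCtx.m a ^ n := fun {a} ha n => by
    induction n with
    | zero => rw [pow_zero, pow_zero, p.toCtx.m_one]
    | succ n ih => rw [pow_succ, pow_succ, p.toCtx.m_mul (ha.pow_left n) ha, ih]
  have hQ : ∀ {a : G}, a ∈ p.Q → orderOf a ∣ 512 := fun {a} ha =>
    p.card ▸ Subgroup.orderOf_dvd_natCard p.Q ha
  have v7 : p.toCtx.m v ^ 7 = 1 := by rw [← hpow hv, hv7, p.toCtx.m_one]
  have v1 : p.toCtx.m v ≠ 1 := fun e => by
    haveI : Fact (Nat.Prime 7) := ⟨by norm_num⟩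
    have := hQ ((p.toCtx.m_one_iff hv).mp e)
    rw [orderOf_eq_prime hv7 hv1] at this
    norm_num at this
  have h7 := Seven.seven_cent (p.toCtx.m_mem hv) v7 v1 (p.toCtx.m_mem hx) hm
  have red : ∀ n : ℕ, x ^ n = 1 → n.Coprime 7 → x ∈ p.Q := by
    intro n hn hcop
    refine (p.toCtx.m_one_iff hx).mp ?_
    have e1 : p.toCtx.m x ^ n = 1 := by rw [← hpow hx, hn, p.toCtx.m_one]
    have := pow_gcd_eq_one.mpr ⟨e1, h7⟩
    rwa [hcop.gcd_eq_one, pow_one] at this
  refine ⟨fun h2 hne => p.Q_invol (red 2 (by rw [pow_two]; exact h2) (by norm_num)) h2 hne, fun h3 => ?_⟩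
  have h3' : x ^ 3 = 1 := by rw [pow_succ, pow_two]; exact h3
  have := Nat.dvd_gcd (orderOf_dvd_of_pow_eq_one h3') (hQ (red 3 h3' (by norm_num)))
  rwa [show Nat.gcd 3 512 = 1 from rfl, Nat.dvd_one, orderOf_eq_one_iff] at this

end Pt

end Cfsg.Lib.ConwayType
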