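import Cfsg.Agent.ConwayType.Locals.Three.NormW
import Cfsg.Agent.ConwayType.Locals.Seven.Ext
import Cfsg.Agent.ConwayType.Locals.Seven.Omega

/-!
The alternating group of degree seven inside the centralizer of the element of order three, and the centralizer of
the four-group in its centralizer.
-/

set_option autoImplicit false
set_option synthInstance.maxSize 4096
set_option maxRecDepth 100000
set_option maxHeartbeats 1000000
set_option linter.unusedSectionVars false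
set_option linter.style.haveILetI false
set_option Elab.async false

namespace Cfsg.Lib.ConwayType.Seven

open Subgroup
open Cfsg.Lib.ConwayType.Alt9 (A8 A9 emb)

universe u

variable {G : Type u} [Group G] [Finite G] {z : G}

/-- An element of order three with the alternating group of degree nine in its centralizer. -/
structure Nine (z : G) extends Tri z where
  φ : A9 →* G
  φ_inj : Function.Injective φ
  φ_emb : ∀ π, φ (emb π) = toTri.iota8 π
  φ_comm : ∀ π, Commute (φ π) w ∧ Commute (φ π) τ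
  φ_gen : ∀ y, Commute y w → ∃ (k : ℕ) (π : A9), y = w ^ k * φ π

theorem exists_nine (p : Tri z) : Nonempty (Nine z) := by
  obtain ⟨φ, h1, h2, h3, h4⟩ := p.exists_s9
  exact ⟨⟨p, φ, h1, h2, h3, h4⟩⟩

namespace Nine

open Cfsg.Lib.ConwayType.Tri (hFun hom8)

variable (p : Nine z)

/-- The symmetric group of degree seven. -/
noncomputable def ψ : S7 →* G := p.φ.comp ext7

theorem ψ_inj : Function.Injective p.ψ := p.φ_inj.comp ext7_inj

theorem ψ_emb {π : S7} {ρ : A8} (e : emb ρ = ext7 π) : p.ψ π = p.iota8 ρ := by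
  show p.φ (ext7 π) = _
  rw [← e, p.φ_emb]

theorem ψ_w (π : S7) : Commute (p.ψ π) p.w ∧ Commute (p.ψ π) p.τ := p.φ_comm _

theorem ψ_T {π : S7} (h : Equiv.Perm.sign π = 1) : p.ψ π ∈ p.toPt.Tg := by
  obtain ⟨ρ, e⟩ := ext7_eight h
  rw [p.ψ_emb e]
  exact p.toTri.iota8_T ρ

/-- The alternating group of degree seven. -/
noncomputable def L7 : Subgroup G := (alternatingGroup (Fin 7)).map p.ψ

/-- Its centralizer. -/
noncomputable def K7 : Subgroup G := centralizer (p.L7 : Set G)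

theorem mem_K7 {x : G} : x ∈ p.K7 ↔ ∀ π, Equiv.Perm.sign π = 1 → Commute x (p.ψ π) := by
  constructor
  · intro h π hπ
    exact (mem_centralizer_iff.mp h _ ⟨π, Equiv.Perm.mem_alternatingGroup.mpr hπ, rfl⟩).symm
  · rintro h
    refine mem_centralizer_iff.mpr ?_
    rintro _ ⟨π, hπ, rfl⟩
    exact (h π (Equiv.Perm.mem_alternatingGroup.mp hπ)).eq.symm

theorem w_K7 : p.w ∈ p.K7 := p.mem_K7.mpr fun π _ => (p.ψ_w π).1.symm

theorem t_K7 : p.τ ∈ p.K7 := p.mem_K7.mpr fun π _ => (p.ψ_w π).2.symm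

theorem E_K7 {e : G} (he : p.toPt.InE e) : e ∈ p.K7 :=
  p.mem_K7.mpr fun _ hπ => (p.toPt.E_central he (p.toPt.mem_Tg.mp (p.ψ_T hπ))).symm

/-- The odd permutations normalise the centralizer. -/
theorem K7_conj (g : S7) {x : G} (hx : x ∈ p.K7) : p.ψ g * x * (p.ψ g)⁻¹ ∈ p.K7 := by
  refine p.mem_K7.mpr fun π hπ => ?_
  have h := (Commute.conj_iff (p.ψ g)).mpr
    (p.mem_K7.mp hx (g⁻¹ * π * g) (by simp [hπ]))
  rwa [← map_inv p.ψ g, ← map_mul p.ψ, ← map_mul p.ψ, show g * (g⁻¹ * π * g) * g⁻¹ = π by group, map_inv] at h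

theorem cent_w {y : G} (hy : y ∈ p.K7) (hw : Commute y p.w) : ∃ k : ℕ, y = p.w ^ k := by
  obtain ⟨k, σ, rfl⟩ := p.φ_gen y hw
  refine ⟨k, ?_⟩
  rw [cent_alt7 (σ := σ) fun π hπ => p.φ_inj ?_, map_one, mul_one]
  rw [map_mul, map_mul]
  have hwk : Commute (p.w ^ k) (p.ψ π) := (p.ψ_w π).1.symm.pow_left k
  have := (hwk.inv_left).mul_left (p.mem_K7.mp hy π hπ)
  rwa [inv_mul_cancel_left] at this

theorem fixed_filter : (Code.W.filter fun w =>
    [Alt9.c0, Alt9.k1, Alt9.aE, Alt9.el (Equiv.swap 2 3 * Equiv.swap 3 4)].all fun ρ =>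
      hFun (ρ : Equiv.Perm (Fin 8)) w == w) = [0] := by decide +kernel

theorem fixed_vectors (w : ℕ) (hw : w ∈ Code.W)
    (h : ∀ ρ ∈ [Alt9.c0, Alt9.k1, Alt9.aE, Alt9.el (Equiv.swap 2 3 * Equiv.swap 3 4)],
      hFun (ρ : Equiv.Perm (Fin 8)) w = w) : w = 0 := by
  have hm : w ∈ Code.W.filter (fun w =>
      [Alt9.c0, Alt9.k1, Alt9.aE, Alt9.el (Equiv.swap 2 3 * Equiv.swap 3 4)].all fun ρ =>
        hFun (ρ : Equiv.Perm (Fin 8)) w == w) :=
    List.mem_filter.mpr (And.intro hw (List.all_eq_true.mpr fun ρ hρ => beq_iff_eq.mpr (h ρ hρ)))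
  rw [fixed_filter] at hm
  exact List.mem_singleton.mp hm

theorem fixed_gens (ρ : A8) (h : ρ ∈ [Alt9.c0, Alt9.k1, Alt9.aE, Alt9.el (Equiv.swap 2 3 * Equiv.swap 3 4)]) :
    (ρ : Equiv.Perm (Fin 8)) 7 = 7 := by
  have hall : ([Alt9.c0, Alt9.k1, Alt9.aE, Alt9.el (Equiv.swap 2 3 * Equiv.swap 3 4)].all fun ρ =>
      (ρ : Equiv.Perm (Fin 8)) 7 == 7) = true := by decide +kernel
  exact beq_iff_eq.mp (List.all_eq_true.mp hall ρ h)

/-- The centralizer of the pair and the alternating group is the four-group. -/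
theorem cent_E {y : G} (hy : y ∈ p.K7) (hz : Commute y z) (hs : Commute y p.s) : p.toPt.InE y := by
  have hT : y ∈ p.toPt.Tg := p.toPt.mem_Tg.mpr ⟨hz, hs⟩
  obtain ⟨hrange, -, hpar⟩ := p.toFr.phi_facts
  obtain ⟨π0, hπ0⟩ : p.toPt.phi ⟨y, hT⟩ ∈ hom8.range := hrange.le ⟨_, rfl⟩
  have h1 : π0 = 1 := by
    refine Alt9.emb_inj ?_
    rw [map_one]
    refine cent_alt7 fun π hπ => ?_
    obtain ⟨ρ, e⟩ := ext7_eight hπ
    obtain ⟨h8, e8⟩ := p.toTri.iota8_spec ρ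
    rw [← e]
    refine (show Commute π0 ρ from Tri.hom8_inj ?_).map emb
    rw [map_mul, map_mul, hπ0, ← e8, ← map_mul, ← map_mul]
    refine congrArg p.toPt.phi (Subtype.ext ?_)
    rw [Subgroup.coe_mul, Subgroup.coe_mul]
    show y * p.toTri.iota8 ρ = p.toTri.iota8 ρ * y
    rw [← p.ψ_emb e]
    exact (p.mem_K7.mp hy π hπ).eq
  have hR0 : y ∈ p.toPt.R0 := (p.toPt.mem_R0 hT).mpr (by rw [← hπ0, h1, map_one])
  obtain ⟨a, r, ha, hr, rfl⟩ := hpar y hR0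
  have act : ∀ ρ : A8, ∀ w ∈ Code.W, sa (p.toCtx.m (p.toTri.iota8 ρ)) w = hFun (ρ : Equiv.Perm (Fin 8)) w := by
    intro ρ w hw
    obtain ⟨h8, e8⟩ := p.toTri.iota8_spec ρ
    rw [← Tri.hom8_apply ρ ⟨w, hw⟩, ← e8]
    exact (p.toPt.phi_apply ⟨_, (p.toTri.mem_L8.mp h8).1⟩ ⟨w, hw⟩).symm
  have comm : ∀ ρ : A8, (ρ : Equiv.Perm (Fin 8)) 7 = 7 → Commute (a * r) (p.toTri.iota8 ρ) := by
    intro ρ hρ
    obtain ⟨π, hπ, e⟩ := eight_ext7 hρ
    rw [← p.ψ_emb e]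
    exact p.mem_K7.mp hy π hπ
  have hT8 : ∀ ρ, p.toPt.T (p.toTri.iota8 ρ) := fun ρ => p.toPt.mem_Tg.mp (p.toTri.iota8_T ρ)
  have diff : ∀ ρ : A8, (ρ : Equiv.Perm (Fin 8)) 7 = 7 →
      p.toPt.InE (a⁻¹ * (p.toTri.iota8 ρ * a * (p.toTri.iota8 ρ)⁻¹)) := by
    intro ρ hρ
    set x := p.toTri.iota8 ρ
    refine p.toPt.R_cap ?_ (mul_mem (inv_mem ha.1) (p.toPt.A_norm (hT8 ρ) ha).1)
    have e : a⁻¹ * (x * a * x⁻¹) = r * (x * r * x⁻¹)⁻¹ := by
      rw [eq_mul_inv_iff_mul_eq, show a⁻¹ * (x * a * x⁻¹) * (x * r * x⁻¹) = a⁻¹ * (x * (a * r) * x⁻¹) by group,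
        ← (comm ρ hρ).eq, mul_inv_cancel_right, inv_mul_cancel_left]
    rw [e]
    exact p.toPt.R_mul hr (p.toPt.R_inv (p.toPt.R_norm (hT8 ρ) hr))
  have ha0 : p.toPt.α a = 0 := by
    refine fixed_vectors _ (p.toPt.α_mem a) fun ρ hρ => ?_
    have hE := diff ρ (fixed_gens ρ hρ)
    have hA := p.toPt.A_norm (hT8 ρ) ha
    have h := p.toPt.α_E hE
    rw [p.toPt.α_mul (p.toPt.A_inv ha) hA, p.toPt.α_inv ha, p.toPt.α_conj (hT8 ρ) ha,
      act ρ _ (p.toPt.α_mem a)] at h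
    exact (xor_eq_zero'.mp h).symm
  have haE := p.toPt.α_zero ha ha0
  refine p.toPt.E_cases haE r (p.toPt.R_cap hr ((p.toPt.β_zero hr).mp ?_))
  refine fixed_vectors _ (p.toPt.β_mem r) fun ρ hρ => ?_
  rw [← act ρ _ (p.toPt.β_mem r), ← p.toPt.β_conj (hT8 ρ) hr]
  congr 1
  have hc := (comm ρ (fixed_gens ρ hρ))
  have hca : Commute a (p.toTri.iota8 ρ) := (p.toPt.E_central haE (hT8 ρ)).symm
  have := hca.inv_left.mul_left hc
  rw [inv_mul_cancel_left] at this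
  exact mul_inv_eq_iff_eq_mul.mpr this.symm

end Nine

end Cfsg.Lib.ConwayType.Seven
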