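import Mathlib.GroupTheory.SpecificGroups.Alternating
import Mathlib.Tactic.FinCases

/-!
The permutations of seven points used to recognise the symmetric group of degree seven.
-/

set_option autoImplicit false
set_option maxRecDepth 100000
set_option maxHeartbeats 1000000
set_option synthInstance.maxSize 4096
set_option Elab.async false

namespace Cfsg.Lib.ConwayType.Seven

open Equiv

/-- The permutations of seven points. -/
abbrev S7 := Perm (Fin 7)

/-- The inner involution. -/
def c7 : S7 := swap 0 1 * swap 2 3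

/-- An element of order four with square the inner involution. -/
def r7 : S7 := swap 0 3 * swap 0 1 * swap 0 2 * swap 4 5

/-- A second involution of the four-group. -/
def u7 : S7 := swap 2 3 * swap 4 5

/-- The second involution of the other four-group. -/
def h7 : S7 := swap 0 2 * swap 1 3

/-- The outer involution with three cycles. -/
def g7 : S7 := swap 0 1 * swap 2 3 * swap 4 5

/-- A transposition. -/
def t7 : S7 := swap 4 5

/-- A second transposition. -/
def t7' : S7 := swap 0 1

/-- The element moving one transposition to the other. -/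
def s7 : S7 := swap 0 4 * swap 1 5

/-- An element of order three permuting the three pairs. -/
def p7 : S7 := swap 0 2 * swap 2 4 * (swap 1 3 * swap 3 5)

/-- An element of order three fixing the transposition. -/
def q7 : S7 := swap 1 2 * swap 2 3

/-- The three-cycle on the last three points. -/
def a7 : S7 := swap 4 5 * swap 5 6

/-- The cycle on the first five points. -/
def b7 : S7 := swap 0 1 * swap 1 2 * swap 2 3 * swap 3 4

/-- Equality of values. -/
def sameV (x y : S7) : Bool := (List.finRange 7).all fun i => x i == y i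

theorem eq_of_sameV {x y : S7} (h : sameV x y = true) : x = y :=
  Equiv.ext fun i => beq_iff_eq.mp (List.all_eq_true.mp h i (List.mem_finRange i))

theorem sameV_self (x : S7) : sameV x x = true := List.all_eq_true.mpr fun i _ => beq_iff_eq.mpr rfl

theorem ne_of_sameV {x y : S7} (h : sameV x y = false) : x ≠ y := fun e => by
  rw [e, sameV_self] at h; exact Bool.noConfusion h

/-- The eight permutations of the first four points preserving the pairs. -/
def d8 : List S7 :=
  [1, swap 0 1, swap 2 3, swap 0 1 * swap 2 3, h7, swap 0 3 * swap 1 2,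
    swap 0 3 * swap 0 1 * swap 0 2, swap 0 2 * swap 0 1 * swap 0 3]

/-- The six permutations of the last three points. -/
def s3 : List S7 := [1, swap 4 5, swap 4 6, swap 5 6, swap 4 5 * swap 5 6, swap 5 6 * swap 4 5]

/-- The forty-eight permutations commuting with the inner involution. -/
def c48 : List S7 := d8.flatMap fun x => s3.map fun y => x * y

theorem c48_values : ∀ a : Fin 7, a.val < 4 → ∀ b : Fin 7, b.val < 4 → b ≠ a → b ≠ c7 a →
    ∀ d : Fin 7, 4 ≤ d.val → ∀ e : Fin 7, 4 ≤ e.val → e ≠ d → ∀ f : Fin 7, 4 ≤ f.val → f ≠ d → f ≠ e →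
    c48.any (fun x => x 0 == a && x 1 == c7 a && x 2 == b && x 3 == c7 b && x 4 == d && x 5 == e && x 6 == f)
      = true := by
  decide +kernel

theorem c7_moved : ∀ i : Fin 7, c7 i ≠ i ↔ i.val < 4 := by decide +kernel

/-- The list is complete. -/
theorem mem_c48 {x : S7} (h : Commute x c7) : x ∈ c48 := by
  have hx : ∀ i, c7 (x i) = x (c7 i) := fun i => (congrArg (fun q : S7 => q i) h.eq).symm
  have small : ∀ i : Fin 7, i.val < 4 → (x i).val < 4 := fun i hi => by
    rw [← c7_moved, hx]
    exact fun e => (c7_moved i).mpr hi (x.injective e)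
  have large : ∀ i : Fin 7, 4 ≤ i.val → 4 ≤ (x i).val := fun i hi => by
    by_contra hn
    have := (c7_moved (x i)).mpr (by omega)
    rw [hx] at this
    exact this (congrArg x (not_not.mp fun hne => absurd ((c7_moved i).mp hne) (by omega)))
  have h1 : c7 0 = 1 ∧ c7 2 = 3 := by decide +kernel
  have e1 : x 1 = c7 (x 0) := by rw [hx, h1.1]
  have e3 : x 3 = c7 (x 2) := by rw [hx, h1.2]
  have key := c48_values (x 0) (small 0 (by decide)) (x 2) (small 2 (by decide)) (x.injective.ne (by decide))
    (by rw [← e1]; exact x.injective.ne (by decide)) (x 4) (large 4 (by decide)) (x 5) (large 5 (by decide))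
    (x.injective.ne (by decide)) (x 6) (large 6 (by decide)) (x.injective.ne (by decide)) (x.injective.ne (by decide))
  simp only [List.any_eq_true, Bool.and_eq_true, beq_iff_eq] at key
  obtain ⟨y, hy, ⟨⟨⟨⟨⟨k0, k1⟩, k2⟩, k3⟩, k4⟩, k5⟩, k6⟩ := key
  have : x = y := Equiv.ext fun i => by
    fin_cases i
    exacts [k0.symm, e1.trans k1.symm, k2.symm, e3.trans k3.symm, k4.symm, k5.symm, k6.symm]
  exact this ▸ hy

/-- Point-by-point commuting. -/
def commV (x y : S7) : Bool := sameV (x * y) (y * x)

theorem commV_of {x y : S7} (h : Commute x y) : commV x y = true := by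
  rw [commV, h.eq]; exact sameV_self _

theorem basic : r7 * r7 = c7 ∧ c7 * c7 = 1 ∧ g7 * g7 = 1 ∧ t7 * t7 = 1 ∧ u7 * u7 = 1 ∧ h7 * h7 = 1 ∧
    g7 = c7 * t7 ∧ t7' = g7 * u7 ∧ u7 * r7 * u7 = r7⁻¹ ∧ h7 * r7 * h7 = r7⁻¹ ∧ u7 * c7 = c7 * u7 ∧
    h7 * c7 = c7 * h7 ∧ p7 * p7 * p7 = 1 ∧ p7 * c7 * p7⁻¹ = u7 ∧ p7 * u7 * p7⁻¹ = c7 * u7 ∧
    p7⁻¹ * c7 * p7 = c7 * u7 ∧ p7⁻¹ * u7 * p7 = c7 ∧ q7 * q7 * q7 = 1 ∧ q7 * c7 * q7⁻¹ = h7 ∧
    q7 * h7 * q7⁻¹ = c7 * h7 ∧ s7 * t7 * s7⁻¹ = t7' ∧
    a7 * (p7⁻¹ * a7 * p7) * (p7 * a7 * p7⁻¹) * a7 * a7 = b7 := by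
  refine ⟨?_, ?_, ?_, ?_, ?_, ?_, ?_, ?_, ?_, ?_, ?_, ?_, ?_, ?_, ?_, ?_, ?_, ?_, ?_, ?_, ?_, ?_⟩
  all_goals (refine eq_of_sameV ?_; decide +kernel)

theorem signs : Perm.sign c7 = 1 ∧ Perm.sign r7 = 1 ∧ Perm.sign u7 = 1 ∧ Perm.sign h7 = 1 ∧ Perm.sign g7 = -1 ∧
    Perm.sign t7 = -1 ∧ Perm.sign t7' = -1 ∧ Perm.sign s7 = 1 ∧ Perm.sign p7 = 1 ∧ Perm.sign q7 = 1 ∧
    Perm.sign a7 = 1 ∧ Perm.sign b7 = 1 := by decide +kernel

/-- The even permutations commuting with the inner involution and one transposition. -/
def d8' : List S7 := c48.filter fun x => commV x t7 && decide (Perm.sign x = 1)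

theorem d8'_facts : d8'.length = 8 ∧ (d8'.map fun x : S7 => (List.finRange 7).map fun i => x i).Nodup := by decide +kernel

/-- The centre of the Sylow subgroup. -/
theorem centre16 : (c48.filter fun x => commV x t7 && commV x r7 && commV x u7 && commV x h7).all
    (fun x => sameV x 1 || sameV x c7 || sameV x g7 || sameV x t7) = true := by decide +kernel

/-- Elements of odd order commuting with the inner involution and the first transposition. -/
theorem odd_fix : (c48.filter fun x => commV x t7' && decide (Perm.sign x = 1)).all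
    (fun x => sameV (x * x * x * (x * x * x) * (x * x * x * (x * x * x))) 1 &&
      (!sameV (x * x * x) 1 || sameV x 1 || sameV x a7 || sameV x (a7 * a7))) = true := by decide +kernel

/-- Even involutions commuting with the inner one are conjugate to it. -/
theorem invol_conj : (c48.filter fun x => decide (Perm.sign x = 1) && sameV (x * x) 1 && !sameV x 1).all
    (fun x => ([1, p7, p7⁻¹, q7, q7⁻¹] : List S7).any (fun q => sameV (q * x * q⁻¹) c7) ||
      s3.any fun y => ([p7, p7⁻¹] : List S7).any fun q => sameV (q * (y * x * y⁻¹) * q⁻¹) c7 ||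
        sameV ((swap 0 1 * swap 4 5) * (q * (y * x * y⁻¹) * q⁻¹) * (swap 0 1 * swap 4 5)) c7) = true := by
  decide +kernel

theorem c48_facts : c48.length = 48 ∧ (c48.map fun x : S7 => (List.finRange 7).map fun i => x i).Nodup ∧
    c48.all (fun x => commV x c7) = true := by decide +kernel

/-- The flips inside the three pairs. -/
def f8 : List S7 :=
  [1, swap 0 1, swap 2 3, swap 4 5, swap 0 1 * swap 2 3, swap 0 1 * swap 4 5, swap 2 3 * swap 4 5, g7]

/-- The permutations of the three pairs. -/
def b6 : List S7 :=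
  [1, swap 0 2 * swap 1 3, swap 0 4 * swap 1 5, swap 2 4 * swap 3 5, p7, p7 * p7]

/-- The forty-eight permutations commuting with the outer involution. -/
def g48 : List S7 := b6.flatMap fun x => f8.map fun y => x * y

theorem g48_facts : g48.length = 48 ∧ (g48.map fun x : S7 => (List.finRange 7).map fun i => x i).Nodup ∧
    g48.all (fun x => commV x g7) = true := by decide +kernel

theorem g48_values : ∀ a : Fin 7, a.val < 6 → ∀ b : Fin 7, b.val < 6 → b ≠ a → b ≠ g7 a →
    ∀ d : Fin 7, d.val < 6 → d ≠ a → d ≠ g7 a → d ≠ b → d ≠ g7 b →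
    g48.any (fun x => x 0 == a && x 1 == g7 a && x 2 == b && x 3 == g7 b && x 4 == d && x 5 == g7 d && x 6 == 6)
      = true := by
  decide +kernel

theorem g7_moved : (∀ i : Fin 7, g7 i ≠ i ↔ i.val < 6) ∧ g7 0 = 1 ∧ g7 2 = 3 ∧ g7 4 = 5 := by decide +kernel

/-- The list is complete. -/
theorem mem_g48 {x : S7} (h : Commute x g7) : x ∈ g48 := by
  obtain ⟨hm, h0, h2, h4⟩ := g7_moved
  have hx : ∀ i, g7 (x i) = x (g7 i) := fun i => (congrArg (fun q : S7 => q i) h.eq).symm
  have small : ∀ i : Fin 7, i.val < 6 → (x i).val < 6 := fun i hi => by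
    rw [← hm, hx]
    exact fun e => (hm i).mpr hi (x.injective e)
  have e6 : x 6 = 6 := by
    have h6 : g7 (x 6) = x 6 := by rw [hx, not_not.mp fun e => absurd ((hm 6).mp e) (by decide)]
    have : ¬ (x 6).val < 6 := fun e => (hm _).mpr e h6
    omega
  have e1 : x 1 = g7 (x 0) := by rw [hx, h0]
  have e3 : x 3 = g7 (x 2) := by rw [hx, h2]
  have e5 : x 5 = g7 (x 4) := by rw [hx, h4]
  have key := g48_values (x 0) (small 0 (by decide)) (x 2) (small 2 (by decide)) (x.injective.ne (by decide))
    (by rw [← e1]; exact x.injective.ne (by decide)) (x 4) (small 4 (by decide)) (x.injective.ne (by decide))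
    (by rw [← e1]; exact x.injective.ne (by decide)) (x.injective.ne (by decide))
    (by rw [← e3]; exact x.injective.ne (by decide))
  simp only [List.any_eq_true, Bool.and_eq_true, beq_iff_eq] at key
  obtain ⟨y, hy, ⟨⟨⟨⟨⟨k0, k1⟩, k2⟩, k3⟩, k4⟩, k5⟩, k6⟩ := key
  have : x = y := Equiv.ext fun i => by
    fin_cases i
    exacts [k0.symm, e1.trans k1.symm, k2.symm, e3.trans k3.symm, k4.symm, e5.trans k5.symm, e6.trans k6.symm]
  exact this ▸ hy

/-- Powers up to twelve. -/
def powV : ℕ → S7 → S7
  | 0, _ => 1
  | k + 1, x => x * powV k x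

theorem powV_eq (x : S7) : ∀ k, powV k x = x ^ k
  | 0 => (pow_zero x).symm
  | k + 1 => by rw [powV, powV_eq x k, pow_succ']

/-- Whether a permutation commuting with the inner involution is an outer involution with three cycles. -/
def isTriple (x : S7) : Bool :=
  sameV (x * x) 1 && decide (Perm.sign x = -1) && ((List.finRange 7).countP fun i => x i != i) == 6

/-- Whether it is a transposition. -/
def isSwap (x : S7) : Bool :=
  sameV (x * x) 1 && decide (Perm.sign x = -1) && !(((List.finRange 7).countP fun i => x i != i) == 6)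

/-- The conjugating elements. -/
def movers : List S7 :=
  s3.flatMap fun y => ([1, q7, q7 * q7, s7, p7, p7 * p7] : List S7).map fun q => q * y

/-- Outer involutions commuting with the inner one are conjugate to one of the two. -/
theorem odd_invol : (c48.all fun x => (!isTriple x || movers.any fun q => sameV (q * x) (g7 * q)) &&
    (!isSwap x || movers.any fun q => sameV (q * x) (t7 * q))) = true := by decide +kernel

/-- The pairs generating a dihedral group around the inner involution. -/
def pairs7 : List (S7 × S7) :=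
  ((c48.filter isTriple).flatMap fun x => (c48.filter isSwap).map fun y => (x, y)).filter fun e =>
    (List.range 13).any fun m => sameV (powV m (e.1 * e.2)) c7

theorem pairs7_card : pairs7.length = 21 ∧
    (pairs7.map fun e => (List.finRange 7).map fun i => (e.1 i, e.2 i)).Nodup := by decide +kernel

/-- The products of such pairs have order dividing twelve. -/
theorem pair_orders : (c48.all fun x => sameV (powV 12 x) 1) = true := by decide +kernel

end Cfsg.Lib.ConwayType.Seven
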