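import Cfsg.Agent.ConwayType.Locals.Seven.RecogSwap
import Cfsg.Agent.Transfer.ThompsonTransfer
import Mathlib.GroupTheory.FixedPointFree

/-!
The centralizer of the inner involution consists of permutations.
-/

set_option autoImplicit false
set_option maxRecDepth 100000
set_option linter.unusedSectionVars false
set_option linter.style.haveILetI false
set_option Elab.async false

namespace Cfsg.Lib.ConwayType.Seven

open Subgroup

universe u

namespace Hyp7

variable {Y : Type u} [Group Y] [Finite Y] (D : Hyp7 Y)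

/-- The inner part of the centralizer of the inner involution. -/
def Cc : Subgroup Y := D.X ⊓ centralizer ({D.ι c7} : Set Y)

theorem mem_Cc {y : Y} : y ∈ D.Cc ↔ y ∈ D.X ∧ Commute y (D.ι c7) :=
  and_congr Iff.rfl mem_centralizer_singleton_iff

/-- The dihedral group inside it. -/
theorem card_d8 : Nat.card {y : Y // ∃ π ∈ d8', D.ι π = y} = 8 := by
  rw [card_of_list (l := d8') (nodup_of_values d8'_facts.2) D.ι D.inj (fun _ => Iff.rfl), d8'_facts.1]

/-- Its two-subgroups have at most eight elements. -/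
theorem two_le {P : Subgroup Y} (hP : IsPGroup 2 P) (hX : P ≤ D.X) : Nat.card ↥P ≤ 8 := by
  obtain ⟨h, hh⟩ := D.two_inner hP hX
  rw [← D.card_d8]
  exact Nat.card_le_card_of_injective
    (fun y : ↥P => (⟨h * y * h⁻¹, by obtain ⟨π, hπ, e⟩ := hh y y.2; exact ⟨π, hπ, e.symm⟩⟩ :
      {y : Y // ∃ π ∈ d8', D.ι π = y}))
    fun a b e => Subtype.ext (mul_left_cancel (mul_right_cancel (congrArg Subtype.val e)))

/-- The centralizer has a normal complement to its Sylow subgroup. -/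
theorem complement : ∃ N : Subgroup Y, (∀ y, y ∈ N ↔ y ∈ D.Cc ∧ ¬ 2 ∣ orderOf y) ∧
    ∀ y ∈ D.Cc, ∃ n ∈ N, ∃ π, y = n * D.ι π := by
  classical
  haveI : Fact (Nat.Prime 2) := ⟨Nat.prime_two⟩
  set C := D.Cc with hCdef
  have mk : ∀ π : S7, Equiv.Perm.sign π = 1 → Commute π c7 → D.ι π ∈ C := fun π hs hc =>
    D.mem_Cc.mpr ⟨D.ι_X.mpr hs, D.ι_comm.mpr hc⟩
  obtain ⟨sc, sr, su, -⟩ := signs
  obtain ⟨hrr, hcc, -, -, huu, -, -, -, -, -, huc, -⟩ := basic
  let c0 : ↥C := ⟨_, mk c7 sc (Commute.refl _)⟩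
  let r0 : ↥C := ⟨_, mk r7 sr (by rw [← hrr]; exact (Commute.refl r7).mul_right (Commute.refl r7))⟩
  let u0 : ↥C := ⟨_, mk u7 su huc⟩
  have cen : ∀ y : ↥C, y * c0 = c0 * y := fun y => Subtype.ext (D.mem_Cc.mp y.2).2.eq
  let D8 : Subgroup S7 := centralizer ({c7} : Set S7) ⊓ centralizer ({t7} : Set S7) ⊓ (Equiv.Perm.sign).ker
  have mD : ∀ {π : S7}, π ∈ D8 ↔ π ∈ d8' := fun {π} => by
    rw [mem_d8', mem_inf, mem_inf, mem_centralizer_singleton_iff, mem_centralizer_singleton_iff, MonoidHom.mem_ker]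
    exact and_assoc
  let T : Subgroup ↥C := (D8.map D.ι).subgroupOf C
  have hTc : Nat.card ↥T = 8 := by
    rw [Nat.card_congr (subgroupOfEquivOfLe (by
      rintro _ ⟨π, hπ, rfl⟩
      exact mk π (mem_d8'.mp (mD.mp hπ)).2.2 (mem_d8'.mp (mD.mp hπ)).1 : D8.map D.ι ≤ C)).toEquiv,
      card_map_of_injective D.inj]
    exact (Nat.card_congr (Equiv.subtypeEquivRight fun π => mD.trans ⟨fun h => ⟨π, h, rfl⟩, fun ⟨_, h, e⟩ => e ▸ h⟩)).trans
      ((card_of_list (l := d8') (nodup_of_values d8'_facts.2) _root_.id Function.injective_id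
        (P := fun π => ∃ a ∈ d8', a = π) (fun _ => Iff.rfl)).trans d8'_facts.1)
  have hmax : ∀ P : Subgroup ↥C, IsPGroup 2 P → Nat.card ↥P ≤ 8 := fun P hP => by
    rw [← Subgroup.card_map_of_injective (K := P) C.subtype_injective]
    exact D.two_le (hP.map _) fun y hy => by
      obtain ⟨x, -, rfl⟩ := hy
      exact (D.mem_Cc.mp x.2).1
  obtain ⟨S, hS⟩ := (IsPGroup.of_card (n := 3) (by rw [hTc]; norm_num) : IsPGroup 2 ↥T).exists_le_sylow
  have hST : (S : Subgroup ↥C) = T := (eq_of_le_of_card_ge hS (hTc.symm ▸ hmax _ S.isPGroup')).symm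
  have hT2 : T.index % 2 = 1 := by
    have := S.not_dvd_index
    rw [hST] at this
    omega
  have r4 : orderOf r0 = 4 := by
    refine orderOf_eq_prime_pow (p := 2) (n := 1) ?_ ?_
    · rw [pow_one, pow_two]
      exact fun e => ne_of_sameV (by decide +kernel : sameV c7 1 = false)
        (hrr.symm.trans (D.inj (by rw [map_mul, map_one]; exact congrArg Subtype.val e)))
    · refine Subtype.ext ?_
      show D.ι r7 ^ (2 ^ (1 + 1)) = 1
      rw [← map_pow, show (2 : ℕ) ^ (1 + 1) = 2 * 2 from rfl, pow_mul, pow_two, pow_two, hrr, hcc, map_one]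
  have u2 : orderOf u0 = 2 := by
    refine orderOf_eq_prime (Subtype.ext ?_) fun e => ne_of_sameV (by decide +kernel : sameV u7 1 = false)
      (D.inj ((congrArg Subtype.val e).trans (map_one D.ι).symm))
    show D.ι u7 ^ 2 = 1
    rw [← map_pow, pow_two, huu, map_one]
  have hQ : (zpowers r0).index = 2 * T.index := by
    have h1 := (zpowers r0).card_mul_index
    have h2 := T.card_mul_index
    rw [Nat.card_zpowers, r4] at h1
    rw [hTc] at h2
    omega
  obtain ⟨M, hMn, hM, huM⟩ := Cfsg.Lib.Transfer.exists_index_two_not_mem (zpowers r0) (Nat.odd_iff.mpr hT2) hQ u2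
    fun g hg => by
      obtain ⟨i, hi⟩ := mem_zpowers_iff.mp hg
      have h2 : r0 ^ i * r0 ^ i = 1 := by
        rw [hi, show g⁻¹ * u0 * g * (g⁻¹ * u0 * g) = g⁻¹ * (u0 * u0) * g by group,
          ← pow_two u0, ← u2, pow_orderOf_eq_one, mul_one, inv_mul_cancel]
      rw [← zpow_add, ← orderOf_dvd_iff_zpow_eq_one, r4] at h2
      rw [← zpow_mod_orderOf, r4] at hi
      have h4 : i % 4 = 0 ∨ i % 4 = 2 := by push_cast at h2; omega
      have hu0 : u0 = g * r0 ^ (i % 4) * g⁻¹ := by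
        push_cast at hi
        rw [hi]; group
      rcases h4 with e | e <;> rw [e] at hu0
      · rw [zpow_zero, mul_one, mul_inv_cancel] at hu0
        rw [hu0, orderOf_one] at u2; omega
      · rw [zpow_two, show r0 * r0 = c0 from Subtype.ext (by
          show D.ι r7 * D.ι r7 = D.ι c7
          rw [← map_mul, hrr]), cen g, mul_inv_cancel_right] at hu0
        exact ne_of_sameV (by decide +kernel : sameV u7 c7 = false) (D.inj (congrArg Subtype.val hu0))
  haveI := hMn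
  have sqM : ∀ y : ↥C, y * y ∈ M := fun y => (mul_mem_iff_of_index_two hM).2 Iff.rfl
  have hTM : ∀ y ∈ T, y ∈ M ∨ u0 * y ∈ M := fun y _ => by
    by_cases h : y ∈ M
    · exact Or.inl h
    · exact Or.inr ((mul_mem_iff_of_index_two hM).2 ⟨fun hu => absurd hu huM, fun hy => absurd hy h⟩)
  let T0 : Subgroup ↥M := T.subgroupOf M
  have hu0T : u0 ∈ T := mem_subgroupOf.mpr ⟨u7, mD.mpr (mem_d8'.mpr ⟨huc, eq_of_sameV (by decide +kernel), su⟩), rfl⟩
  have hc0T : c0 ∈ T := mem_subgroupOf.mpr ⟨c7, mD.mpr (mem_d8'.mpr ⟨Commute.refl _, eq_of_sameV (by decide +kernel), sc⟩), rfl⟩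
  have hc0M : c0 ∈ M := by
    rw [show c0 = r0 * r0 from Subtype.ext (by show D.ι c7 = D.ι r7 * D.ι r7; rw [← map_mul, hrr])]
    exact sqM r0
  have hT04 : Nat.card ↥T0 = 4 := by
    have h := (M.subgroupOf T).card_mul_index
    have hi : (M.subgroupOf T).index = 2 := index_eq_two_iff.2 ⟨⟨u0, hu0T⟩, fun b => by
      simp only [mem_subgroupOf, Subgroup.coe_mul]
      have := mul_mem_iff_of_index_two hM (a := (b : ↥C)) (b := u0)
      by_cases hb : (b : ↥C) ∈ M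
      · exact Or.inr ⟨hb, fun hm => huM ((this.1 hm).1 hb)⟩
      · exact Or.inl ⟨this.2 ⟨fun h => absurd h hb, fun h => absurd h huM⟩, hb⟩⟩
    rw [hi, hTc] at h
    have e : Nat.card ↥T0 = Nat.card ↥(M.subgroupOf T) := Nat.card_congr
      { toFun := fun x => ⟨⟨_, mem_subgroupOf.mp x.2⟩, mem_subgroupOf.mpr x.1.2⟩
        invFun := fun x => ⟨⟨_, mem_subgroupOf.mp x.2⟩, mem_subgroupOf.mpr x.1.2⟩
        left_inv := fun _ => rfl
        right_inv := fun _ => rfl }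
    omega
  have hMC : Nat.card ↥M * 2 = Nat.card ↥C := by rw [← hM, M.card_mul_index]
  obtain ⟨P, hP⟩ := (IsPGroup.of_card (n := 2) (by rw [hT04]; norm_num) : IsPGroup 2 ↥T0).exists_le_sylow
  have hPT : (P : Subgroup ↥M) = T0 := by
    refine (eq_of_le_of_card_ge hP ?_).symm
    obtain ⟨k, hk⟩ := IsPGroup.iff_card.1 P.isPGroup'
    by_contra hlt
    rw [hT04, hk] at hlt
    have h8 : 2 ^ 3 ∣ 2 ^ k := pow_dvd_pow 2 (by
      by_contra h
      have := Nat.pow_le_pow_right two_pos (show k ≤ 2 by omega)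
      omega)
    have h16 : 16 ∣ Nat.card ↥C := by
      rw [← hMC]
      exact Dvd.dvd.trans (by norm_num : 16 ∣ 2 ^ 3 * 2) (Nat.mul_dvd_mul_right (h8.trans (hk ▸ card_subgroup_dvd_card _)) 2)
    rw [← T.card_mul_index, hTc] at h16
    omega
  have hcentral : ∀ y : ↥M, y * (⟨c0, hc0M⟩ : ↥M) = ⟨c0, hc0M⟩ * y := fun y => Subtype.ext (cen y)
  have hNC : normalizer ((P : Subgroup ↥M) : Set ↥M) ≤ centralizer ((P : Subgroup ↥M) : Set ↥M) := by
    intro n hn
    haveI := IsPGroup.isMulCommutative_of_card_eq_prime_sq (G := ↥(P : Subgroup ↥M)) (p := 2) (by rw [hPT, hT04]; norm_num)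
    have hcomm : ∀ a ∈ (P : Subgroup ↥M), ∀ b ∈ (P : Subgroup ↥M), a * b = b * a := fun a ha b hb =>
      congrArg Subtype.val (mul_comm' (⟨a, ha⟩ : ↥(P : Subgroup ↥M)) ⟨b, hb⟩)
    refine mem_centralizer_iff.2 fun s hs => ?_
    obtain ⟨k, m, hm, hkm⟩ := Nat.exists_eq_two_pow_mul_odd (orderOf_pos n).ne'
    have hx2 : n ^ m ∈ (P : Subgroup ↥M) := by
      have hz : IsPGroup 2 ↥(zpowers (n ^ m)) := by
        obtain ⟨j, -, hj⟩ := (Nat.dvd_prime_pow Nat.prime_two).1 (orderOf_dvd_of_pow_eq_one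
          (show (n ^ m) ^ (2 ^ k) = 1 by rw [← pow_mul, mul_comm, ← hkm, pow_orderOf_eq_one]))
        exact IsPGroup.of_card (n := j) (by rw [Nat.card_zpowers, hj])
      have hsup := hz.to_sup_of_normal_right' P.isPGroup' (zpowers_le.2 (pow_mem hn m))
      exact (P.is_maximal' hsup le_sup_right).le (mem_sup_left (mem_zpowers _))
    have hsq : n * n * s * (n * n)⁻¹ = s := by
      set c' : ↥M := ⟨c0, hc0M⟩ with hc'
      have hc'P : c' ∈ (P : Subgroup ↥M) := hPT ▸ mem_subgroupOf.mpr hc0T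
      have hc'1 : c' ≠ 1 := fun e => by
        have e' : D.ι c7 = 1 := congrArg (fun y : ↥M => ((y : ↥C) : Y)) e
        exact ne_of_sameV (by decide +kernel : sameV c7 1 = false) (D.inj (e'.trans (map_one D.ι).symm))
      have hcc' : c' * c' = 1 := Subtype.ext (Subtype.ext (by
        show D.ι c7 * D.ι c7 = 1
        rw [← map_mul, hcc, map_one]))
      have hfix : ∀ j : ↥M, j * c' * j⁻¹ = c' := fun j => by rw [hcentral j, mul_inv_cancel_right]
      by_cases h1 : s = 1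
      · rw [h1]; group
      by_cases h2 : s = c'
      · rw [h2]; exact hfix _
      have hsc1 : s * c' ≠ 1 := fun e => h2 (by rw [eq_inv_of_mul_eq_one_left e, inv_eq_of_mul_eq_one_right hcc'])
      let f : Fin 4 → ↥(P : Subgroup ↥M) := ![1, ⟨c', hc'P⟩, ⟨s, hs⟩, ⟨s * c', mul_mem hs hc'P⟩]
      have hf : Function.Injective f := by
        intro a b e
        have e' := congrArg Subtype.val e
        fin_cases a <;> fin_cases b <;>
          first
            | rfl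
            | (simp [f] at e'; first
                | exact absurd e' hc'1 | exact absurd e'.symm hc'1 | exact absurd e' h1 | exact absurd e'.symm h1
                | exact absurd e' h2 | exact absurd e'.symm h2 | exact absurd e' hsc1 | exact absurd e'.symm hsc1
               )
      haveI := Fintype.ofFinite ↥(P : Subgroup ↥M)
      have hsurj := ((Fintype.bijective_iff_injective_and_card f).mpr ⟨hf, by
        rw [Fintype.card_fin, ← Nat.card_eq_fintype_card, hPT, hT04]⟩).surjective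
      obtain ⟨j, hj⟩ := hsurj ⟨n * s * n⁻¹, (mem_normalizer_iff.1 hn s).1 hs⟩
      have hj' := congrArg Subtype.val hj
      have hnn : n * n * s * (n * n)⁻¹ = n * (n * s * n⁻¹) * n⁻¹ := by group
      fin_cases j
      · exact absurd (conj_eq_one_iff.1 hj'.symm) h1
      · exact absurd (mul_left_cancel (mul_right_cancel (hj'.symm.trans (hfix n).symm))) h2
      · have e : n * s * n⁻¹ = s := hj'.symm
        rw [hnn, e, e]
      · have e : n * s * n⁻¹ = s * c' := hj'.symm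
        rw [hnn, e, show n * (s * c') * n⁻¹ = n * s * n⁻¹ * (n * c' * n⁻¹) by group, hfix, e, mul_assoc, hcc',
          mul_one]
    have c1 : Commute (n * n) s := mul_inv_eq_iff_eq_mul.1 hsq
    have c2 : Commute (n ^ m) s := hcomm _ hx2 s hs
    obtain ⟨l, rfl⟩ := hm
    have c3 : Commute n s := by
      have e : n = ((n * n) ^ l)⁻¹ * n ^ (2 * l + 1) := by
        rw [← pow_two, ← pow_mul, pow_succ, inv_mul_cancel_left]
      rw [e]
      exact (c1.pow_left l).inv_left.mul_left c2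
    exact c3.symm.eq
  have hco := MonoidHom.ker_transferSylow_isComplement' P hNC
  set K := (MonoidHom.transferSylow P hNC).ker
  obtain ⟨hKc, k, hKk⟩ := Cfsg.Lib.Transfer.complement_props hco
  have memK := Cfsg.Lib.Transfer.mem_iff_coprime_orderOf hKc hKk
  have odd_iff : ∀ {G : Type u} [Group G] (y : G), (orderOf y).Coprime 2 ↔ ¬ 2 ∣ orderOf y := fun y => by
    rw [Nat.coprime_comm]
    exact Nat.prime_two.coprime_iff_not_dvd
  let N : Subgroup Y := (K.map M.subtype).map C.subtype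
  have memN : ∀ y, y ∈ N ↔ y ∈ C ∧ ¬ 2 ∣ orderOf y := fun y => by
    constructor
    · rintro ⟨x, ⟨z, hz, rfl⟩, rfl⟩
      refine ⟨(M.subtype z).2, ?_⟩
      have := (odd_iff z).1 ((memK z).1 hz)
      rwa [← Subgroup.orderOf_coe, ← Subgroup.orderOf_coe] at this
    · rintro ⟨hy, ho⟩
      obtain ⟨l, hl⟩ := Nat.odd_iff.mpr (Nat.two_dvd_ne_zero.mp ho)
      have e : (⟨y, hy⟩ : ↥C) = (⟨y, hy⟩ : ↥C) ^ (l + 1) * (⟨y, hy⟩ : ↥C) ^ (l + 1) := Subtype.ext (by
        show y = y ^ (l + 1) * y ^ (l + 1)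
        rw [← pow_add, show l + 1 + (l + 1) = orderOf y + 1 by omega, pow_succ, pow_orderOf_eq_one, one_mul])
      have hyM : (⟨y, hy⟩ : ↥C) ∈ M := e ▸ sqM _
      refine ⟨⟨y, hy⟩, ⟨⟨⟨y, hy⟩, hyM⟩, (memK _).2 ((odd_iff _).2 ?_), rfl⟩, rfl⟩
      rwa [Subgroup.orderOf_mk, Subgroup.orderOf_mk]
  refine ⟨N, memN, fun y hy => ?_⟩
  have hdec : ∀ z : ↥M, ∃ a ∈ K, ∃ π, ((z : ↥C) : Y) = ((a : ↥C) : Y) * D.ι π := fun z => by
    obtain ⟨⟨⟨a, ha⟩, ⟨b, hb⟩⟩, hab⟩ := hco.2 z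
    obtain ⟨π, -, e⟩ := mem_subgroupOf.mp (mem_subgroupOf.mp (hPT ▸ hb : b ∈ T0))
    have e' : D.ι π = ((b : ↥C) : Y) := e
    refine ⟨a, ha, π, ?_⟩
    rw [← hab, e']
    rfl
  by_cases hyM : (⟨y, hy⟩ : ↥C) ∈ M
  · obtain ⟨a, ha, π, e⟩ := hdec ⟨_, hyM⟩
    exact ⟨_, ⟨_, ⟨a, ha, rfl⟩, rfl⟩, π, e⟩
  · obtain ⟨a, ha, π, e⟩ := hdec ⟨(⟨y, hy⟩ : ↥C) * u0,
      (mul_mem_iff_of_index_two hM).2 ⟨fun h => absurd h hyM, fun h => absurd h huM⟩⟩
    refine ⟨_, ⟨_, ⟨a, ha, rfl⟩, rfl⟩, π * u7, ?_⟩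
    have e' : y * D.ι u7 = ((a : ↥C) : Y) * D.ι π := e
    rw [map_mul, ← mul_assoc]
    show y = ((a : ↥C) : Y) * D.ι π * D.ι u7
    rw [← e', mul_assoc, ← map_mul, huu, map_one, mul_one]

/-- A conjugation inverts a subgroup on which it has no fixed point. -/
theorem invert_of_free {N : Subgroup Y} {x : Y} (x2 : x * x = 1) (hN : ∀ y ∈ N, x * y * x⁻¹ ∈ N)
    (hfree : ∀ y ∈ N, Commute y x → y = 1) :
    (∀ y ∈ N, x * y * x⁻¹ = y⁻¹) ∧ ∀ a ∈ N, ∀ b ∈ N, Commute a b := by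
  let φ : ↥N →* ↥N := MonoidHom.mk' (fun y => ⟨x * y * x⁻¹, hN y y.2⟩) fun a b => Subtype.ext (by
    simp [mul_assoc])
  have hφ : MonoidHom.FixedPointFree φ := fun y hy => Subtype.ext (hfree y y.2
    (mul_inv_eq_iff_eq_mul.1 (congrArg Subtype.val hy)).symm)
  have h2 : Function.Involutive φ := fun y => Subtype.ext (by
    show x * (x * y * x⁻¹) * x⁻¹ = y
    rw [show x * (x * (y : Y) * x⁻¹) * x⁻¹ = x * x * y * (x * x)⁻¹ by group, x2]
    simp)
  refine ⟨fun y hy => congrArg Subtype.val (congrFun (hφ.coe_eq_inv_of_involutive h2) ⟨y, hy⟩), fun a ha b hb => ?_⟩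
  exact congrArg Subtype.val (hφ.commute_all_of_involutive h2 ⟨a, ha⟩ ⟨b, hb⟩).eq

/-- An element centralizing the inner involution is a permutation. -/
theorem cent_c {y : Y} (h : Commute y (D.ι c7)) : ∃ π, y = D.ι π ∧ Commute π c7 := by
  classical
  obtain ⟨N, memN, dec⟩ := D.complement
  obtain ⟨sc, -, su, sh, sg, st, st', -, sp, -, sa, -⟩ := signs
  obtain ⟨-, -, hgg, htt, huu, -, hgct, ht', -, -, huc, -, -, hpc, hpu, hpc', hpu', -, -, -, -, hb⟩ := basic
  have conjN : ∀ (π : S7), Commute π c7 → ∀ y ∈ N, D.ι π * y * (D.ι π)⁻¹ ∈ N := by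
    intro π hπ y hy
    obtain ⟨hyC, ho⟩ := (memN y).1 hy
    obtain ⟨hyX, hyc⟩ := D.mem_Cc.1 hyC
    refine (memN _).2 ⟨D.mem_Cc.2 ⟨D.mem_X.2 ?_, ((D.ι_comm.2 hπ).mul_left hyc).mul_left (D.ι_comm.2 hπ).inv_left⟩,
      by rwa [← MulAut.conj_apply, MulEquiv.orderOf_eq]⟩
    rw [map_mul, map_mul, map_inv, D.mem_X.1 hyX, mul_one, mul_inv_cancel]
  have small : ∀ y ∈ N, Commute y (D.ι g7) → y = 1 := by
    intro y hy hg
    obtain ⟨hyC, ho⟩ := (memN y).1 hy
    obtain ⟨hyX, hyc⟩ := D.mem_Cc.1 hyC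
    obtain ⟨π, rfl, hπ⟩ := D.cent_g hg
    have hc := D.ι_comm.1 hyc
    have ht : Commute π t7 := by
      have := hc.mul_right hπ
      rwa [hgct, ← mul_assoc, basic.2.1, one_mul] at this
    have hall : (d8'.all fun x => sameV (powV 4 x) 1) = true := by decide +kernel
    have := eq_of_sameV (List.all_eq_true.mp hall π (mem_d8'.2 ⟨hc, ht, D.ι_X.1 hyX⟩))
    rw [powV_eq] at this
    have h4 : orderOf (D.ι π) ∣ 2 ^ 2 := orderOf_dvd_of_pow_eq_one (by
      rw [← map_pow, show 2 ^ 2 = 4 from rfl, this, map_one])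
    obtain ⟨j, -, hj⟩ := (Nat.dvd_prime_pow Nat.prime_two).1 h4
    rcases Nat.eq_zero_or_pos j with e | e
    · rwa [e, pow_zero, orderOf_eq_one_iff] at hj
    · exact absurd (hj ▸ dvd_pow_self 2 e.ne') ho
  have gc : Commute g7 c7 := eq_of_sameV (by decide +kernel)
  obtain ⟨invg, hab⟩ := invert_of_free (by rw [← map_mul, hgg, map_one]) (conjN g7 gc) small
  have haN : D.ι a7 ∈ N := by
    refine (memN _).2 ⟨D.mem_Cc.2 ⟨D.ι_X.2 sa, D.ι_comm.2 (eq_of_sameV (by decide +kernel))⟩, ?_⟩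
    rw [orderOf_injective D.ι D.inj]
    haveI : Fact (Nat.Prime 3) := ⟨Nat.prime_three⟩
    rw [orderOf_eq_prime (p := 3) (eq_of_sameV (by decide +kernel)) (ne_of_sameV (by decide +kernel))]
    norm_num
  have fixu : ∀ y ∈ N, Commute y (D.ι u7) → y = 1 := by
    intro y hy hu
    obtain ⟨hyC, ho⟩ := (memN y).1 hy
    obtain ⟨hyX, hyc⟩ := D.mem_Cc.1 hyC
    have hp : ∀ q : S7, q * u7 * q⁻¹ = c7 ∨ q * (c7 * u7) * q⁻¹ = c7 ∨ q = 1 →
        Commute (D.ι q * y * (D.ι q)⁻¹) (D.ι c7) := by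
      rintro q (e | e | rfl)
      · rw [← e, map_mul, map_mul, map_inv]; exact (Commute.conj_iff _).2 hu
      · rw [← e, map_mul, map_mul, map_inv, map_mul]; exact (Commute.conj_iff _).2 (hyc.mul_right hu)
      · simpa using hyc
    have hconj : ∀ q : S7, Equiv.Perm.sign q = 1 → (q * u7 * q⁻¹ = c7 ∨ q * (c7 * u7) * q⁻¹ = c7) →
        Commute y (D.ι (q⁻¹ * a7 * q)) := by
      intro q hq hcase
      have hmem : D.ι q * y * (D.ι q)⁻¹ ∈ N := (memN _).2 ⟨D.mem_Cc.2 ⟨mul_mem (mul_mem (D.ι_X.2 hq) hyX)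
        (inv_mem (D.ι_X.2 hq)), hp q (hcase.elim Or.inl fun e => Or.inr (Or.inl e))⟩,
        by rwa [← MulAut.conj_apply, MulEquiv.orderOf_eq]⟩
      refine (Commute.conj_iff (D.ι q)).1 ?_
      rw [map_mul, map_mul, map_inv,
        show D.ι q * ((D.ι q)⁻¹ * D.ι a7 * D.ι q) * (D.ι q)⁻¹ = D.ι a7 by group]
      exact hab _ hmem _ haN
    have k1 := hab y hy _ haN
    have k2 := hconj p7 sp (Or.inr (by
      rw [← hpc', show p7 * (p7⁻¹ * c7 * p7) * p7⁻¹ = c7 by group]))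
    have k3 := hconj p7⁻¹ (by rw [map_inv, sp, inv_one]) (Or.inl (by rw [inv_inv]; exact hpu'))
    rw [inv_inv] at k3
    have kb : Commute y (D.ι b7) := by
      rw [← hb]
      simp only [map_mul] at k2 k3 ⊢
      exact (((k1.mul_right k2).mul_right k3).mul_right k1).mul_right k1
    obtain ⟨π, rfl⟩ := D.cb _ (D.mem_X.1 hyX) kb
    have hall : (c48.all fun x => !(commV x b7 && commV x u7) || sameV x 1) = true := by decide +kernel
    have := List.all_eq_true.mp hall π (mem_c48 (D.ι_comm.1 hyc))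
    rw [commV_of (D.ι_comm.1 kb), commV_of (D.ι_comm.1 hu)] at this
    rw [eq_of_sameV (x := π) (y := 1) (by simpa using this), map_one]
  obtain ⟨invu, -⟩ := invert_of_free (by rw [← map_mul, huu, map_one]) (conjN u7 huc) fixu
  have inN : ∀ y ∈ N, ∃ π, y = D.ι π := by
    intro y hy
    have hyt : Commute y (D.ι (s7 * t7 * s7⁻¹)) := by
      rw [basic.2.2.2.2.2.2.2.2.2.2.2.2.2.2.2.2.2.2.2.2.1, ht', map_mul]
      refine (mul_inv_eq_iff_eq_mul.1 ?_ : D.ι g7 * D.ι u7 * y = y * (D.ι g7 * D.ι u7)) |>.symm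
      rw [show D.ι g7 * D.ι u7 * y * (D.ι g7 * D.ι u7)⁻¹ = D.ι g7 * (D.ι u7 * y * (D.ι u7)⁻¹) * (D.ι g7)⁻¹ by group,
        invu y hy, invg y⁻¹ (inv_mem hy), inv_inv]
    rw [map_mul, map_mul, map_inv] at hyt
    obtain ⟨π, hπ, -⟩ := D.cent_t (y := (D.ι s7)⁻¹ * y * D.ι s7) (by
      have := (Commute.conj_iff (D.ι s7)⁻¹).2 hyt
      rwa [inv_inv, show (D.ι s7)⁻¹ * (D.ι s7 * D.ι t7 * (D.ι s7)⁻¹) * D.ι s7 = D.ι t7 by group] at this)
    exact ⟨s7 * π * s7⁻¹, by rw [map_mul, map_mul, map_inv, ← hπ]; group⟩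
  obtain ⟨π, rfl⟩ : ∃ π, y = D.ι π := by
    have inner : ∀ y ∈ D.X, Commute y (D.ι c7) → ∃ π, y = D.ι π := fun y hyX hyc => by
      obtain ⟨n, hn, π, rfl⟩ := dec y (D.mem_Cc.2 ⟨hyX, hyc⟩)
      obtain ⟨ρ, rfl⟩ := inN n hn
      exact ⟨ρ * π, (map_mul D.ι ρ π).symm⟩
    rcases Int.units_eq_one_or (D.ε y) with e | e
    · exact inner y (D.mem_X.2 e) h
    · obtain ⟨π, hπ⟩ := inner (y * D.ι t7) (D.mem_X.2 (by rw [map_mul, e, D.sgn, st]; rfl))
        (h.mul_left (D.ι_comm.2 (eq_of_sameV (by decide +kernel))))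
      exact ⟨π * t7, by rw [map_mul, ← hπ, mul_assoc, ← map_mul, htt, map_one, mul_one]⟩
  exact ⟨π, rfl, D.ι_comm.1 h⟩

end Hyp7

end Cfsg.Lib.ConwayType.Seven
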