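import Cfsg.Agent.ConwayType.Locals.Seven.Recog
import Cfsg.Agent.ConwayType.Locals.Seven.Small
import Cfsg.Agent.SelfCentFour.PermBound

/-!
The centralizer of a transposition consists of permutations.
-/

set_option autoImplicit false
set_option maxRecDepth 100000
set_option linter.unusedSectionVars false
set_option linter.style.haveILetI false
set_option Elab.async false

namespace Cfsg.Lib.ConwayType.Seven

open Subgroup

universe u

/-- Five of the points. -/
def five : Fin 5 ↪ Fin 7 := ⟨![0, 1, 2, 3, 6], by decide +kernel⟩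

/-- The transposition or the identity, by the sign. -/
def tPart : ℤˣ →* S7 :=
  MonoidHom.mk' (fun u => if u = 1 then 1 else t7) fun a b => by
    rcases Int.units_eq_one_or a with rfl | rfl <;> rcases Int.units_eq_one_or b with rfl | rfl <;>
      first
        | simp [basic.2.2.2.1]

theorem five_fixed : ∀ i : Fin 5, t7 (five i) = five i := by decide +kernel

/-- The even permutations commuting with the transposition, from the permutations of five points. -/
noncomputable def fiveHom : Equiv.Perm (Fin 5) →* S7 :=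
  MonoidHom.mk' (fun σ => Equiv.Perm.viaEmbeddingHom five σ * tPart (Equiv.Perm.sign σ)) fun a b => by
    have hc : ∀ (σ : Equiv.Perm (Fin 5)) (u : ℤˣ), Commute (tPart u) (Equiv.Perm.viaEmbeddingHom five σ) := by
      intro σ u
      rcases Int.units_eq_one_or u with rfl | rfl
      · simp
      · have e : tPart (-1) = t7 := rfl
        rw [e]
        refine Equiv.ext fun i => ?_
        show t7 (σ.viaEmbedding five i) = σ.viaEmbedding five (t7 i)
        by_cases hi : i ∈ Set.range five
        · obtain ⟨k, rfl⟩ := hi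
          rw [Equiv.Perm.viaEmbedding_apply, five_fixed, five_fixed, Equiv.Perm.viaEmbedding_apply]
        · have hi' : t7 i ∉ Set.range five := fun ⟨k, hk⟩ => hi ⟨k, t7.injective ((five_fixed k).trans hk)⟩
          rw [Equiv.Perm.viaEmbedding_apply_of_notMem _ _ _ hi, Equiv.Perm.viaEmbedding_apply_of_notMem _ _ _ hi']
    simp only [map_mul]
    rw [mul_assoc, ← mul_assoc (Equiv.Perm.viaEmbeddingHom five b), ← (hc b _).eq]
    simp only [mul_assoc]

theorem fiveHom_apply (σ : Equiv.Perm (Fin 5)) :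
    fiveHom σ = Equiv.Perm.viaEmbeddingHom five σ * tPart (Equiv.Perm.sign σ) := rfl

theorem fiveHom_facts (σ : Equiv.Perm (Fin 5)) :
    Commute (fiveHom σ) t7 ∧ Equiv.Perm.sign (fiveHom σ) = 1 ∧ ∀ i, fiveHom σ (five i) = five (σ i) := by
  classical
  have hv : ∀ i, fiveHom σ (five i) = five (σ i) := fun i => by
    rw [fiveHom_apply, Equiv.Perm.mul_apply]
    have : tPart (Equiv.Perm.sign σ) (five i) = five i := by
      rcases Int.units_eq_one_or (Equiv.Perm.sign σ) with e | e <;> rw [e]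
      · simp
      · exact five_fixed i
    rw [this, Equiv.Perm.viaEmbeddingHom_apply, Equiv.Perm.viaEmbedding_apply]
  refine ⟨?_, ?_, hv⟩
  · refine Equiv.ext fun i => ?_
    show fiveHom σ (t7 i) = t7 (fiveHom σ i)
    by_cases hi : i ∈ Set.range five
    · obtain ⟨k, rfl⟩ := hi
      rw [five_fixed, hv, five_fixed]
    · have h45 : i = 4 ∨ i = 5 := by
        have : ∀ j : Fin 7, (∀ k, five k ≠ j) → j = 4 ∨ j = 5 := by decide +kernel
        exact this i fun k hk => hi ⟨k, hk⟩
      have hout : ∀ j : Fin 7, j = 4 ∨ j = 5 → fiveHom σ j = tPart (Equiv.Perm.sign σ) j := fun j hj => by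
        have hj' : tPart (Equiv.Perm.sign σ) j ∉ Set.range five := by
          rintro ⟨k, hk⟩
          have h2 : ∀ (j : Fin 7) (k : Fin 5), j = 4 ∨ j = 5 → five k ≠ j ∧ five k ≠ t7 j := by decide +kernel
          rcases Int.units_eq_one_or (Equiv.Perm.sign σ) with e | e <;> rw [e] at hk
          · exact (h2 j k hj).1 (by simpa using hk)
          · exact (h2 j k hj).2 hk
        rw [fiveHom_apply, Equiv.Perm.mul_apply, Equiv.Perm.viaEmbeddingHom_apply,
          Equiv.Perm.viaEmbedding_apply_of_notMem _ _ _ hj']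
      have ht : t7 i = 4 ∨ t7 i = 5 := by rcases h45 with rfl | rfl <;> decide +kernel
      rw [hout i h45, hout _ ht]
      rcases Int.units_eq_one_or (Equiv.Perm.sign σ) with e | e <;> rw [e]
      · simp
      · rfl
  · rw [fiveHom_apply, map_mul, Equiv.Perm.viaEmbeddingHom_apply, Equiv.Perm.viaEmbedding,
      Equiv.Perm.sign_extendDomain]
    rcases Int.units_eq_one_or (Equiv.Perm.sign σ) with e | e <;> rw [e]
    · simp
    · show -1 * Equiv.Perm.sign t7 = 1
      rw [signs.2.2.2.2.2.1]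
      rfl

theorem fiveHom_inj : Function.Injective fiveHom := fun a b h =>
  Equiv.ext fun i => five.injective (by rw [← (fiveHom_facts a).2.2, ← (fiveHom_facts b).2.2, h])

theorem card_fiveHom {Y : Type u} [Group Y] (ι : S7 →* Y) (hι : Function.Injective ι) :
    Nat.card ↥(fiveHom.range.map ι) = 120 := by
  rw [card_map_of_injective hι, ← Nat.card_congr (MonoidHom.ofInjective fiveHom_inj).toEquiv, Nat.card_perm,
    Nat.card_fin]
  rfl

namespace Hyp7

variable {Y : Type u} [Group Y] [Finite Y] (D : Hyp7 Y)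

/-- Inner elements commuting with the transposition and the inner involution. -/
theorem card_ct : Nat.card {y : Y // y ∈ D.X ∧ Commute y (D.ι t7) ∧ Commute y (D.ι c7)} = 8 := by
  rw [card_of_list (l := d8') (nodup_of_values d8'_facts.2) D.ι D.inj ?_, d8'_facts.1]
  intro y
  constructor
  · rintro ⟨hy, ht, hc⟩
    have hg : Commute y (D.ι g7) := by rw [basic.2.2.2.2.2.2.1, map_mul]; exact hc.mul_right ht
    obtain ⟨π, rfl, -⟩ := D.cent_g hg
    exact ⟨π, mem_d8'.mpr ⟨D.ι_comm.mp hc, D.ι_comm.mp ht, D.ι_X.mp hy⟩, rfl⟩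
  · rintro ⟨π, hπ, rfl⟩
    obtain ⟨hc, ht, hs⟩ := mem_d8'.mp hπ
    exact ⟨D.ι_X.mpr hs, D.ι_comm.mpr ht, D.ι_comm.mpr hc⟩

/-- The inner part of the centralizer of the transposition. -/
theorem cent_t_inner : D.X ⊓ centralizer ({D.ι t7} : Set Y) = fiveHom.range.map D.ι := by
  classical
  set H := D.X ⊓ centralizer ({D.ι t7} : Set Y) with hH
  have hle : fiveHom.range.map D.ι ≤ H := by
    rintro _ ⟨_, ⟨σ, rfl⟩, rfl⟩
    exact ⟨D.ι_X.mpr (fiveHom_facts σ).2.1, mem_centralizer_singleton_iff.mpr (D.ι_comm.mpr (fiveHom_facts σ).1)⟩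
  have mk : ∀ π : S7, Equiv.Perm.sign π = 1 → sameV (π * t7) (t7 * π) = true → D.ι π ∈ H := fun π hs hc =>
    ⟨D.ι_X.mpr hs, mem_centralizer_singleton_iff.mpr (D.ι_comm.mpr (eq_of_sameV hc))⟩
  obtain ⟨sc, sr, -, sh, -, -, -, -, -, sq, -, -⟩ := signs
  obtain ⟨hrr, hcc, -, -, -, hhh, -, -, -, hhr, -, hhc, -, -, -, -, -, hq3, hqc, hqh, -, -⟩ := basic
  let C : ↥H := ⟨_, mk c7 sc (by decide +kernel)⟩
  let R : ↥H := ⟨_, mk r7 sr (by decide +kernel)⟩
  let U : ↥H := ⟨_, mk h7 sh (by decide +kernel)⟩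
  let Q : ↥H := ⟨_, mk q7 sq (by decide +kernel)⟩
  have two : ∀ {π : S7} (h : D.ι π ∈ H), π * π = 1 → sameV π 1 = false → orderOf (⟨_, h⟩ : ↥H) = 2 := by
    intro π h h2 h1
    haveI : Fact (Nat.Prime 2) := ⟨Nat.prime_two⟩
    refine orderOf_eq_prime (Subtype.ext ?_) fun e => ne_of_sameV h1 (D.inj ((congrArg Subtype.val e).trans
      (map_one D.ι).symm))
    rw [SubmonoidClass.coe_pow, pow_two, ← map_mul, h2, map_one, OneMemClass.coe_one]
  have hC8 : Nat.card (centralizer ({C} : Set ↥H)) = 8 := by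
    rw [← D.card_ct]
    exact Nat.card_congr
      { toFun := fun y => ⟨((y : ↥H) : Y), y.1.2.1, mem_centralizer_singleton_iff.mp y.1.2.2,
          congrArg Subtype.val (mem_centralizer_singleton_iff.mp y.2)⟩
        invFun := fun y => ⟨⟨y.1, y.2.1, mem_centralizer_singleton_iff.mpr y.2.2.1⟩,
          mem_centralizer_singleton_iff.mpr (Subtype.ext y.2.2.2)⟩
        left_inv := fun _ => rfl
        right_inv := fun _ => rfl }
  have h120 : 120 ∣ Nat.card ↥H := card_fiveHom D.ι D.inj ▸ card_dvd_of_le hle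
  have key := dihedral_card (H := ↥H) (c := C) (r := R) (u := U) (π := Q) (two _ hcc (by decide +kernel))
    (Subtype.ext (by show D.ι r7 * D.ι r7 = D.ι c7; rw [← map_mul, hrr]))
    (two _ hhh (by decide +kernel))
    (Subtype.ext (by show D.ι h7 * D.ι c7 = D.ι c7 * D.ι h7; rw [← map_mul, hhc, map_mul]))
    (fun e => ne_of_sameV (by decide +kernel : sameV h7 c7 = false) (D.inj (congrArg Subtype.val e)))
    (Subtype.ext (by show D.ι h7 * D.ι r7 * D.ι h7 = (D.ι r7)⁻¹; rw [← map_inv, ← map_mul, ← map_mul, hhr]))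
    hC8
    (Subtype.ext (by show D.ι q7 * D.ι q7 * D.ι q7 = 1; rw [← map_mul, ← map_mul, hq3, map_one]))
    (Subtype.ext (by show D.ι q7 * D.ι c7 * (D.ι q7)⁻¹ = D.ι h7; rw [← map_inv, ← map_mul, ← map_mul, hqc]))
    (Subtype.ext (by
      show D.ι q7 * D.ι h7 * (D.ι q7)⁻¹ = D.ι c7 * D.ι h7
      rw [← map_inv, ← map_mul, ← map_mul, hqh, map_mul]))
  refine (eq_of_le_of_card_ge hle ?_).symm
  rw [card_fiveHom D.ι D.inj]
  rcases key with e | e | ⟨e | e, hs⟩
  · rw [e] at h120; norm_num at h120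
  · exact e.le
  · rw [e] at h120; norm_num at h120
  · exfalso
    haveI := hs
    let L := (fiveHom.range.map D.ι).subgroupOf H
    have hL : L.index = 3 := by
      have := L.card_mul_index
      rw [Nat.card_congr (subgroupOfEquivOfLe hle).toEquiv, card_fiveHom D.ι D.inj, e] at this
      omega
    have := Cfsg.Lib.SelfCentFour.card_dvd_index_factorial (H := L) fun t => by rw [t, index_top] at hL; omega
    rw [e, hL] at this
    norm_num [Nat.factorial] at this

/-- An inner element centralizing the transposition is a permutation. -/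
theorem cent_t {y : Y} (h : Commute y (D.ι t7)) : ∃ π, y = D.ι π ∧ Commute π t7 := by
  obtain ⟨π, rfl⟩ : ∃ π, y = D.ι π := by
    rcases Int.units_eq_one_or (D.ε y) with e | e
    · obtain ⟨π, -, hπ⟩ : y ∈ fiveHom.range.map D.ι :=
        D.cent_t_inner ▸ ⟨D.mem_X.mpr e, mem_centralizer_singleton_iff.mpr h⟩
      exact ⟨π, hπ.symm⟩
    · obtain ⟨π, -, hπ⟩ : y * D.ι t7 ∈ fiveHom.range.map D.ι :=
        D.cent_t_inner ▸ ⟨D.mem_X.mpr (by rw [map_mul, e, D.sgn, signs.2.2.2.2.2.1]; rfl),
          mem_centralizer_singleton_iff.mpr (h.mul_left (Commute.refl _))⟩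
      exact ⟨π * t7, by rw [map_mul, hπ, mul_assoc, ← map_mul, basic.2.2.2.1, map_one, mul_one]⟩
  exact ⟨π, rfl, D.ι_comm.mp h⟩

/-- The order of the centralizer of the transposition. -/
theorem card_cent_t : Nat.card ↥(centralizer ({D.ι t7} : Set Y)) = 240 := by
  classical
  have ht : D.ι t7 ∈ centralizer ({D.ι t7} : Set Y) := mem_centralizer_singleton_iff.mpr rfl
  have et : D.ε (D.ι t7) = -1 := by rw [D.sgn, signs.2.2.2.2.2.1]
  let K := D.X.subgroupOf (centralizer ({D.ι t7} : Set Y))
  have hK : K.index = 2 := by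
    refine index_eq_two_iff.2 ⟨⟨_, ht⟩, fun b => ?_⟩
    simp only [K, mem_subgroupOf, Subgroup.coe_mul, D.mem_X, map_mul, et]
    rcases Int.units_eq_one_or (D.ε (b : Y)) with e | e <;> rw [e]
    · exact Or.inr ⟨rfl, by decide⟩
    · exact Or.inl ⟨rfl, by decide⟩
  have hKc : Nat.card ↥K = 120 := by
    rw [← card_fiveHom D.ι D.inj, ← D.cent_t_inner, inf_comm]
    exact Nat.card_congr
      { toFun := fun x => ⟨(x.1 : Y), x.1.2, mem_subgroupOf.mp x.2⟩
        invFun := fun x => ⟨⟨x.1, x.2.1⟩, mem_subgroupOf.mpr x.2.2⟩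
        left_inv := fun _ => rfl
        right_inv := fun _ => rfl }
  rw [← K.card_mul_index, hK, hKc]

end Hyp7

end Cfsg.Lib.ConwayType.Seven
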