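import Cfsg.Agent.ConwayType.Locals.Seven.Facts
import Cfsg.Agent.ConwayType.Locals.Seven.Four

/-!
The four-group moved into the centralizer of the standard dodecad, with its matrices.
-/

set_option autoImplicit false
set_option synthInstance.maxSize 4096
set_option maxRecDepth 100000
set_option maxHeartbeats 1000000
set_option linter.unusedSectionVars false
set_option linter.style.haveILetI false
set_option Elab.async false

namespace Cfsg.Lib.ConwayType.Seven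

open Subgroup Cfsg.Lib.Golay Cfsg.Lib.ConwayType.Local Cfsg.Lib.ConwayType.Dod
open Cfsg.Lib.ConwayType.Tri (trE atPt mN mW68 cTri e1)
open Cfsg.Lib.ConwayType.Alt9 (A8 A9 emb)

universe u

variable {G : Type u} [Group G] [Finite G] {z : G}

/-- The second involution in degree eight. -/
def u8 : A8 := Alt9.el (Equiv.swap 2 3 * Equiv.swap 4 5)

theorem c7_ext : emb Alt9.k1 = ext7 c7 :=
  Alt9.emb_eq (σ := ext7 c7) (fun i => by rw [ext7_apply]; revert i; decide +kernel)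
    (by rw [ext7_apply]; decide +kernel)

theorem u7_ext : emb u8 = ext7 u7 :=
  Alt9.emb_eq (σ := ext7 u7) (fun i => by rw [ext7_apply]; revert i; decide +kernel)
    (by rw [ext7_apply]; decide +kernel)

theorem move_lines : ((List.finRange 8).all fun i =>
    Alt9.sameVal (Alt9.k1 * trE i * Alt9.k1⁻¹) (trE (line1 i)) && Alt9.sameVal (u8 * trE i * u8⁻¹) (trE (line2 i))) = true ∧
    Alt9.sameVal (Alt9.k1 * Alt9.e0) (Alt9.e0 * Alt9.k1) = true ∧ Alt9.sameVal (u8 * Alt9.e0) (Alt9.e0 * u8) = true ∧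
    cTri.all (fun M => M.all fun y => decide (y < 2048)) = true ∧ mN.all (fun y => decide (y < 2048)) = true := by
  decide +kernel

namespace Sev

variable (p : Sev z)

theorem ev_atPt (i : Fin 8) : p.toTri.iota8 (trE i) = p.toFr.ev (atPt i) := by
  obtain ⟨hl, hf⟩ := Tri.trE_facts.1 i
  exact (p.toTri.L8_unique (trE i)).unique (p.toTri.iota8_spec _)
    ⟨p.toTri.mem_L8.mpr ⟨p.toPt.mem_Tg.mpr (p.toFr.ev_T _), ((p.toTri.fix_iff hl).mpr hf).symm⟩, p.toTri.phi_fixed i⟩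

/-- The matrix of a moved element of the four-group. -/
theorem pick_maps {n : G} (hn : n ∈ normalizer (p.toFr.Ag : Set G)) (hN : p.toFr.Maps n mN)
    (f1 : n * p.toFr.ev e1 * n⁻¹ = p.toFr.ev 68) (f2 : n * p.toFr.ev Tri.e2 * n⁻¹ = p.toFr.ev 44)
    (hW : p.toFr.Maps (n * p.w * n⁻¹) mW68) (ρ : A8) (L : Fin 8 → Fin 8) (U : List ℕ) (hpick : pickFour L = [U])
    (he : Commute ρ Alt9.e0) (hline : ∀ i, ρ * trE i * ρ⁻¹ = trE (L i)) :
    p.toFr.Maps (n * p.toTri.iota8 ρ * n⁻¹) U := by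
  obtain ⟨-, -, -, hT, hN'⟩ := move_lines
  have hce : Commute (p.toTri.iota8 ρ) (p.toFr.ev e1) := p.toTri.iota8_e0 ▸ he.map p.toTri.iota8
  obtain ⟨M, hM, hmM⟩ := p.toTri.small_list hn f1 f2 hW (p.toTri.iota8_w ρ) hce
  obtain ⟨hz, hs⟩ := p.toPt.mem_Tg.mp (p.toTri.iota8_T ρ)
  have hMlt := List.all_eq_true.mp hT M hM
  have move : ∀ x y, p.toTri.iota8 ρ * p.toFr.ev x * (p.toTri.iota8 ρ)⁻¹ = p.toFr.ev y → lap M (lap mN x) = lap mN y := by
    intro x y e
    have h := hmM.ev (x := lap mN x)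
    rw [← hN.ev, show n * p.toTri.iota8 ρ * n⁻¹ * (n * p.toFr.ev x * n⁻¹) * (n * p.toTri.iota8 ρ * n⁻¹)⁻¹ =
      n * (p.toTri.iota8 ρ * p.toFr.ev x * (p.toTri.iota8 ρ)⁻¹) * n⁻¹ by group, e, hN.ev] at h
    exact (p.toFr.ev_inj (lap_lt hN' _) (lap_lt hMlt _) h).symm
  have hmem : M ∈ pickFour L := by
    refine List.mem_filter.mpr ⟨hM, ?_⟩
    simp only [Bool.and_eq_true, beq_iff_eq, List.all_eq_true]
    refine ⟨⟨move 1 1 ?_, move 2 2 ?_⟩, fun i _ => move _ _ ?_⟩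
    · rw [p.toFr.ev_z, hz.eq, mul_inv_cancel_right]
    · rw [p.toFr.ev_s, hs.eq, mul_inv_cancel_right]
    · rw [← p.ev_atPt, ← p.ev_atPt, ← map_inv, ← map_mul, ← map_mul, hline]
  rw [hpick, List.mem_singleton] at hmem
  exact hmem ▸ hmM

/-- The element moving the outer involution to 68, with the matrices. -/
theorem exists_transport : ∃ c : G, c * p.ψ g7 * c⁻¹ = p.toFr.ev 68 ∧ c * p.w * c⁻¹ ∈ p.toFr.Mt ∧
    p.toFr.Maps (c * p.w * c⁻¹) mW68 ∧ p.toFr.Maps (c * p.ψ c7 * c⁻¹) mU1 ∧ p.toFr.Maps (c * p.ψ u7 * c⁻¹) mU2 := by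
  obtain ⟨c, hc, n, hn, hN, f2, f1, hW, rfl⟩ := p.toNine.exists_move
  obtain ⟨-, hy1, hy2, -⟩ := y9_facts
  obtain ⟨hline, h1, h2, -, -⟩ := move_lines
  obtain ⟨pk1, pk2⟩ := pick_ok
  have conj : ∀ x : G, Commute (p.φ y9) x → n * (p.φ y9)⁻¹ * x * (n * (p.φ y9)⁻¹)⁻¹ = n * x * n⁻¹ := fun x h => by
    rw [show n * (p.φ y9)⁻¹ * x * (n * (p.φ y9)⁻¹)⁻¹ = n * ((p.φ y9)⁻¹ * (x * p.φ y9)) * n⁻¹ by group, ← h.eq,
      inv_mul_cancel_left]
  have hl := fun i => Bool.and_eq_true_iff.mp (List.all_eq_true.mp hline i (List.mem_finRange i))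
  have m1 := p.pick_maps hn hN f1 f2 hW Alt9.k1 line1 mU1 pk1 (Alt9.eq_of_sameVal h1) fun i =>
    Alt9.eq_of_sameVal (hl i).1
  have m2 := p.pick_maps hn hN f1 f2 hW u8 line2 mU2 pk2 (Alt9.eq_of_sameVal h2) fun i =>
    Alt9.eq_of_sameVal (hl i).2
  refine ⟨_, hc, ?_, ?_, ?_, ?_⟩
  · rw [conj _ (p.φ_comm _).1]
    refine Subgroup.mem_inf.mpr ⟨mul_mem (mul_mem hn p.wN) (inv_mem hn), p.toFr.mem_Ht.mpr ?_⟩
    rw [← f1]
    exact (Commute.conj_iff n).mpr p.toTri.e1_w.symm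
  · rw [conj _ (p.φ_comm _).1]
    exact hW
  · rw [conj _ (show Commute (p.φ y9) (p.ψ c7) from hy1.map p.φ), p.ψ_emb c7_ext]
    exact m1
  · rw [conj _ (show Commute (p.φ y9) (p.ψ u7) from hy2.map p.φ), p.ψ_emb u7_ext]
    exact m2

/-- Elements of the code moved back that commute with the element of order seven and the inner involution. -/
theorem code_trivial {c x : G} (hv : Commute x p.v) (hu : Commute x (p.ψ c7)) (hA : c * x * c⁻¹ ∈ p.toFr.Ag) :
    x = 1 := by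
  obtain ⟨a, ha, e⟩ := hA
  by_cases h0 : a = 0
  · rw [h0, p.toFr.ev_zero] at e
    exact conj_eq_one_iff.mp e.symm
  exfalso
  obtain ⟨n, -, h | h⟩ := p.toFr.two_orbits ha h0
  · rw [p.toFr.ev_z, e] at h
    have hzx : IsConj z x := (isConj_iff.mpr ⟨n * c, by rw [← h]; group⟩ : IsConj x z).symm
    refine p.inner_not_z ((p.ztype hzx hv hu.symm (p.v_comm _ signs.1).symm).1 ?_ ?_)
    · rw [← map_mul, basic.2.1, map_one]
    · exact fun e' => ne_of_sameV (x := c7) (y := 1) (by decide +kernel) (p.ψ_inj (e'.trans (map_one _).symm))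
  · rw [e] at h
    exact p.not_plain (isConj_iff.mpr ⟨(n * c)⁻¹, by rw [← h]; group⟩) hv.symm

end Sev

end Cfsg.Lib.ConwayType.Seven
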